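import Cfsg.Agent.Mrg.Omega.NO3b.Exit.BO
import Cfsg.Agent.Mrg.Omega.FF.GlobFam
import Mathlib

section


/-!
# NotFFG (NO-3L), the base point: blocks on `V` (helper556 bb 22497, helper957)

`Γ` acts faithfully on the elementary abelian 2-group `W` (`= V`), `M ≤ Γ` (`= Aut_M(V)`).

* `cm W Y` : `[W, Y]`;
* `IsBlk W Y` : `Y` is generated by involutions, `[W, Y] = A ⊗_K E`, `Y` irreducible on `A`, `K = End_Y(A)`,
  `Y` induces all `K`-transvections of `A`, `dim_K A ≥ 2`, `dim_K E ≥ 2`;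
* `Fam W M 𝒴` : a set of blocks, invariant under `M`, `Y` trivial on `[W, Y']` for `Y ≠ Y'`; `RR 𝒴 = ∏ Y`;
* `PB W M F Y K` : one panel: `Y ≤ K ⊴ M`, `Y` is a block, `F = C_W(Q)` for a subgroup `Q ≤ Y`, the conjugates of
  `[W, Y]` under `M` are equal or disjoint, `K` normalises `[W, Y]` and commutes there with `End_Y([W, Y])`.
-/

set_option autoImplicit false

namespace Cfsg.Agent.Omega.NO3b.BasePt

open Subgroup
open Cfsg.Agent.Omega.NO3b.Exit Cfsg.Agent.Omega.NO3b.Exit.Ten Cfsg.Agent.Omega.NO3b.Exit.Descent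
open Cfsg.Agent.Omega.FF.Basic (fx)
open scoped Pointwise

universe u v

variable {Γ : Type u} [Group Γ] (W : Type v) [AddCommGroup W] [DistribMulAction Γ W]

/-- `[W, Y]` -/
def cm (Y : Subgroup Γ) : AddSubgroup W := AddSubgroup.closure {v | ∃ y ∈ Y, ∃ w : W, v = y • w - w}

/-- `Y` is a block: `SL(A) ⊗ 1` on `[W, Y] = A ⊗ E`, `dim A ≥ 2`, `dim E ≥ 2`. -/
structure IsBlk (Y : Subgroup Γ) : Prop where
  gen : Y ≤ closure {y | y ∈ Y ∧ y * y = 1}
  ex : ∃ (A : Type (max u v)) (_ : AddCommGroup A) (_ : Finite A) (_ : DistribMulAction Y A) (_ : IsIrr Y A),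
    AllTv Y A ∧ (∀ a : A, a + a = 0) ∧ cm W Y = img Y A W ∧
      2 ≤ Module.finrank (KK Y A) A ∧ 2 ≤ Module.finrank (KK Y A) (HomY Y A W)

/-- A set of blocks, invariant under `M`. -/
structure Fam (M : Subgroup Γ) (𝒴 : Set (Subgroup Γ)) : Prop where
  faith : ∀ g : Γ, (∀ w : W, g • w = w) → g = 1
  two : ∀ w : W, w + w = 0
  le : ∀ Y ∈ 𝒴, Y ≤ M
  conj : ∀ Y ∈ 𝒴, ∀ m ∈ M, Y.map (MulAut.conj m).toMonoidHom ∈ 𝒴
  blk : ∀ Y ∈ 𝒴, IsBlk W Y
  triv : ∀ Y ∈ 𝒴, ∀ Y' ∈ 𝒴, Y ≠ Y' → ∀ y ∈ Y, ∀ v ∈ cm W Y', y • v = v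

/-- `∏ Y` -/
def RR (𝒴 : Set (Subgroup Γ)) : Subgroup Γ := sSup 𝒴

/-- One panel, on `V`. -/
structure PB (M : Subgroup Γ) (F : AddSubgroup W) (Y K : Subgroup Γ) : Prop where
  blk : IsBlk W Y
  YK : Y ≤ K
  KM : K ≤ M
  nK : ∀ m ∈ M, ∀ k ∈ K, m * k * m⁻¹ ∈ K
  flat : ∃ Q ≤ Y, fx W Q = F
  dich : ∀ m ∈ M, m • cm W Y = cm W Y ∨ m • cm W Y ⊓ cm W Y = ⊥
  cen : ∀ m ∈ M, m • cm W Y ≠ cm W Y → ∀ y ∈ Y, ∀ v ∈ m • cm W Y, y • v = v
  stab : ∀ k ∈ K, k • cm W Y = cm W Y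
  lin : ∀ k ∈ K, ∀ e : cm W Y →+ cm W Y, (∀ y ∈ Y, ∀ v v' : cm W Y, (v' : W) = y • (v : W) →
    (e v' : W) = y • (e v : W)) → ∀ v v' : cm W Y, (v' : W) = k • (v : W) → (e v' : W) = k • (e v : W)

end Cfsg.Agent.Omega.NO3b.BasePt

end

section


/-!
# 2-elements of `GL_K(A)`, `char K = 2`, are products of transvections

`two_mem_closure` : `e^(2^j) = 1` implies `e ∈ ⟨transvections⟩` (Dieudonné's theorem in Mathlib: `e` is not exceptional
and `det e = 1`).
-/

set_option autoImplicit false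

namespace Cfsg.Agent.Omega.NO3b.BasePt.TwoTv

open Module LinearMap LinearEquiv
open scoped Pointwise

theorem pow_two_eq_one {K : Type*} [Field K] [CharP K 2] {a : K} {j : ℕ} (h : a ^ 2 ^ j = 1) : a = 1 := by
  have hf : Fact (Nat.Prime 2) := ⟨Nat.prime_two⟩
  have h1 : (a - 1) ^ 2 ^ j = 0 := by rw [sub_pow_char_pow, one_pow, h, sub_self]
  exact sub_eq_zero.1 (pow_eq_zero_iff (pow_ne_zero j two_ne_zero) |>.1 h1)

theorem two_mem_closure {K A : Type*} [Field K] [CharP K 2] [AddCommGroup A] [Module K A] [Module.Finite K A]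
    {e : A ≃ₗ[K] A} {j : ℕ} (h : e ^ 2 ^ j = 1) : e ∈ Subgroup.closure (LinearEquiv.transvections K A) := by
  have hdet : LinearEquiv.det e = 1 := by
    have h1 : (LinearEquiv.det e) ^ 2 ^ j = 1 := by rw [← map_pow, h, map_one]
    have h2 : ((LinearEquiv.det e : Kˣ) : K) ^ 2 ^ j = 1 := by
      rw [← Units.val_pow_eq_pow_val, h1, Units.val_one]
    exact Units.ext (pow_two_eq_one h2)
  have hne : ¬ LinearEquiv.IsExceptional e := by
    rintro ⟨-, h1, a, ha⟩
    apply h1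
    have hpow : ∀ (n : ℕ) (x : A), (Submodule.Quotient.mk ((e ^ n) x) : A ⧸ e.toLinearMap.fixedSubmodule) =
        a ^ n • Submodule.Quotient.mk x := by
      intro n
      induction n with
      | zero => intro x; rw [pow_zero, pow_zero, one_smul]; rfl
      | succ n ih =>
        intro x
        rw [pow_succ', pow_succ', mul_smul, ← ih, ← ha]
        exact (LinearEquiv.fixedReduce_mk e _).symm
    have hx : ∀ x : A ⧸ e.toLinearMap.fixedSubmodule, e.fixedReduce x = x := by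
      intro x
      obtain ⟨y, rfl⟩ := Submodule.Quotient.mk_surjective _ x
      by_cases h0 : (Submodule.Quotient.mk y : A ⧸ e.toLinearMap.fixedSubmodule) = 0
      · rw [h0, map_zero]
      · have h2 := hpow (2 ^ j) y
        rw [h] at h2
        have h3 : (1 - a ^ 2 ^ j) • (Submodule.Quotient.mk y : A ⧸ e.toLinearMap.fixedSubmodule) = 0 := by
          rw [sub_smul, one_smul, ← h2]
          exact sub_self _
        have h4 : a ^ 2 ^ j = 1 := ((sub_eq_zero.1 ((smul_eq_zero.1 h3).resolve_right h0))).symm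
        rw [ha, pow_two_eq_one h4, one_smul]
    exact LinearEquiv.ext hx
  have h2 := LinearEquiv.mem_transvections_pow_mul_dilatransvections_of_not_isExceptional hne
  obtain ⟨t, ht, d, hd, rfl⟩ := Set.mem_mul.1 h2
  have ht' : t ∈ Subgroup.closure (LinearEquiv.transvections K A) :=
    (Set.pow_subset_pow_left Subgroup.subset_closure).trans
      (fun x hx => by
        have : ∀ (n : ℕ) (x : A ≃ₗ[K] A), x ∈ ((Subgroup.closure (LinearEquiv.transvections K A) :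
            Subgroup (A ≃ₗ[K] A)) : Set (A ≃ₗ[K] A)) ^ n → x ∈ Subgroup.closure (LinearEquiv.transvections K A) := by
          intro n
          induction n with
          | zero =>
            intro x hx
            rw [pow_zero, Set.mem_one] at hx
            rw [hx]; exact one_mem _
          | succ n ih =>
            intro x hx
            rw [pow_succ] at hx
            obtain ⟨y, hy, z, hz, rfl⟩ := Set.mem_mul.1 hx
            exact mul_mem (ih y hy) hz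
        exact this _ x hx) ht
  refine mul_mem ht' ?_
  have hdt : ∀ t ∈ Subgroup.closure (LinearEquiv.transvections K A), LinearEquiv.det t = 1 := by
    intro t ht
    induction ht using Subgroup.closure_induction with
    | mem t ht =>
      obtain ⟨f, v, hfv, rfl⟩ := ht
      exact LinearEquiv.transvection.det_eq_one hfv
    | one => exact map_one _
    | mul a b _ _ ha hb => rw [map_mul, ha, hb, one_mul]
    | inv a _ ha => rw [map_inv, ha, inv_one]
  have hd1 : LinearEquiv.det d = 1 := by rwa [map_mul, hdt t ht', one_mul] at hdet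
  obtain ⟨f, v, hfv⟩ := hd
  have h3 : f v = 0 := by
    have h4 : LinearMap.det (d : A →ₗ[K] A) = 1 := by
      rw [← LinearEquiv.coe_det, hd1, Units.val_one]
    rw [hfv, LinearMap.transvection.det] at h4
    exact left_eq_add.1 h4.symm
  refine Subgroup.subset_closure ⟨f, v, h3, ?_⟩
  ext x
  rw [LinearEquiv.transvection.apply]
  have := congrArg (fun g : A →ₗ[K] A => g x) hfv
  exact this

/-- A subgroup of the `K`-linear automorphisms of `A` which contains all transvections contains the 2-elements. -/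
theorem mem_of_two {K A : Type*} [Field K] [CharP K 2] [AddCommGroup A] [Module K A] [Module.Finite K A]
    {H : Subgroup (A ≃ₗ[K] A)} (hH : ∀ (φ : Module.Dual K A) (a : A) (h : φ a = 0), LinearEquiv.transvection h ∈ H)
    {e : A ≃ₗ[K] A} {j : ℕ} (h : e ^ 2 ^ j = 1) : e ∈ H := by
  refine (Subgroup.closure_le H).2 ?_ (two_mem_closure h)
  rintro _ ⟨φ, a, ha, rfl⟩
  exact hH φ a ha

end Cfsg.Agent.Omega.NO3b.BasePt.TwoTv

end

section


/-!
# (P3) for one block (bb 22310, 22497): an automorphism which fixes `n ⊗ E`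

`A` a finite irreducible `Y`-module, `K = End_Y(A)`, `E = Hom_Y(A, U) ≠ 0`, `n ∈ A`, `n ≠ 0`.

* `act_pt` : an injective endomorphism `μ` of `U` which normalises the action of `Y` and fixes `f n` for all `f ∈ E`
  acts on `A ⊗ E` as `g ⊗ 1`, `g` a `K`-linear automorphism of `A` (`Mdl.act` of TenMdl.lean with `n` instead of `A₀`);
* `act_two` : if `Y` induces all transvections and `μ` is a 2-element then `μ` acts on `A ⊗ E` as an element of `Y`.
-/

set_option autoImplicit false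

namespace Cfsg.Agent.Omega.NO3b.BasePt.ActPt

open Subgroup Cfsg.Agent.Omega.NO3b.Exit Cfsg.Agent.Omega.NO3b.Exit.Ten Cfsg.Agent.Omega.NO3b.Exit.Descent
open Cfsg.Agent.Omega.NO3b.BasePt.TwoTv

universe u v w

variable {Y : Type u} {A : Type v} {U : Type w} [Group Y] [AddCommGroup A] [DistribMulAction Y A] [AddCommGroup U]
  [DistribMulAction Y U] [Finite A] [hI : IsIrr Y A]

theorem act_pt [Finite U] (μ : U →+ U) (hμ : Function.Injective μ)
    (h1 : ∀ k : Y, ∃ k' : Y, ∀ u, μ (k • u) = k' • μ u)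
    (h2 : ∀ k' : Y, ∃ k : Y, ∀ u, μ (k • u) = k' • μ u) {n : A} (hn : n ≠ 0)
    (hF : ∀ f : HomY Y A U, μ ((f : A →+ U) n) = (f : A →+ U) n) {f₀ : HomY Y A U} (hf₀ : f₀ ≠ 0) :
    ∃ g : A →ₗ[KK Y A] A, Function.Injective g ∧
      ∀ (f : HomY Y A U) (a : A), μ ((f : A →+ U) a) = (f : A →+ U) (g a) := by
  classical
  have hFK : ∀ (f : HomY Y A U) (κ : KK Y A), μ ((f : A →+ U) (κ • n)) = (f : A →+ U) (κ • n) := by
    intro f κ
    have h3 := hF (κ • f)
    rwa [HomY.smul_apply] at h3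
  -- `μ f A ≤ f A`
  have h3 : ∀ (f : HomY Y A U) (a : A), ∃ b : A, μ ((f : A →+ U) a) = (f : A →+ U) b := by
    intro f
    let N : AddSubgroup A := ((f : A →+ U).range).comap (μ.comp (f : A →+ U))
    have hN : N = ⊤ := by
      rcases hI.irr N (fun k n hn => by
        obtain ⟨b, hb⟩ := hn
        obtain ⟨k', hk'⟩ := h1 k
        refine ⟨k' • b, ?_⟩
        rw [f.2, hb, AddMonoidHom.comp_apply, AddMonoidHom.comp_apply, f.2, hk']) with h | h
      · exfalso
        apply hn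
        have : n ∈ N := ⟨n, (hF f).symm⟩
        rw [h] at this
        exact this
      · exact h
    intro a
    have : a ∈ N := by rw [hN]; trivial
    obtain ⟨b, hb⟩ := this
    exact ⟨b, hb.symm⟩
  choose G hG using h3
  have hGadd : ∀ (f : HomY Y A U), f ≠ 0 → ∀ a b, G f (a + b) = G f a + G f b := fun f hf a b =>
    HomY.inj hf (by rw [← hG, map_add, map_add, map_add, ← hG, ← hG])
  have hGA : ∀ (f : HomY Y A U), f ≠ 0 → ∀ κ : KK Y A, G f (κ • n) = κ • n := fun f hf κ =>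
    HomY.inj hf (by rw [← hG, hFK])
  -- commutation with `K`
  have hGK : ∀ (f : HomY Y A U), f ≠ 0 → ∀ (κ : KK Y A) a, G f (κ • a) = κ • G f a := by
    intro f hf κ
    let g : A →+ A := AddMonoidHom.mk' (G f) (hGadd f hf)
    have hgi : Function.Injective g := by
      intro a b hab
      have hab' : G f a = G f b := hab
      exact HomY.inj hf (hμ (by rw [hG, hG, hab']))
    have hgb : Function.Bijective g := ⟨hgi, Finite.injective_iff_surjective.1 hgi⟩
    obtain ⟨r, hr⟩ := hgb.2.hasRightInverse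
    have hr' : ∀ a, r (g a) = a := fun a => hgi (hr _)
    have hradd : ∀ a b, r (a + b) = r a + r b := fun a b => hgi (by rw [hr, map_add, hr, hr])
    have hgk : ∀ k : Y, ∃ k₁ : Y, ∀ a, g (k₁ • a) = k • g a := by
      intro k
      obtain ⟨k₁, hk₁⟩ := h2 k
      refine ⟨k₁, fun a => HomY.inj hf ?_⟩
      change (f : A →+ U) (G f (k₁ • a)) = (f : A →+ U) (k • G f a)
      rw [← hG, f.2, f.2, hk₁, hG]
    have hrk : ∀ k : Y, ∃ k₁ : Y, (∀ a, g (k₁ • a) = k • g a) ∧ ∀ a, r (k • a) = k₁ • r a := by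
      intro k
      obtain ⟨k₁, hk₁⟩ := hgk k
      exact ⟨k₁, hk₁, fun a => hgi (by rw [hr, hk₁, hr])⟩
    let κ' : KK Y A := KK.mk Y A (AddMonoidHom.mk' (fun a => g (κ • r a)) fun a b => by
      rw [hradd, smul_add, map_add]) fun k a => by
        obtain ⟨k₁, hk₁, hk₁'⟩ := hrk k
        change g (κ • r (k • a)) = k • g (κ • r a)
        rw [hk₁', KK.smul_smul_comm, hk₁]
    have hκ' : ∀ a, κ' • a = g (κ • r a) := fun a => rfl
    have hgn : g n = n := by
      have := hGA f hf 1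
      rwa [one_smul] at this
    have hrs : r n = n := hgi (by rw [hr]; exact hgn.symm)
    have h5 : κ' • n = κ • n := by
      rw [hκ', hrs]
      exact hGA f hf κ
    have h6 : κ' = κ := by
      by_contra hne
      apply hn
      have h7 : (κ' - κ) • n = 0 := by rw [sub_smul, h5, sub_self]
      have h8 : (κ' - κ) ≠ 0 := sub_ne_zero.2 hne
      rw [← one_smul (KK Y A) n, ← inv_mul_cancel₀ h8, mul_smul, h7, smul_zero]
    intro a
    have h9 := hκ' (g a)
    rw [h6, hr'] at h9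
    exact h9.symm
  -- all `G f` are equal
  have hall : ∀ f : HomY Y A U, f ≠ 0 → ∀ a, G f a = G f₀ a := by
    intro f hf a
    by_cases hdep : ∃ κ : KK Y A, f = κ • f₀
    · obtain ⟨κ, hκ⟩ := hdep
      apply HomY.inj hf
      rw [← hG, hκ, HomY.smul_apply, HomY.smul_apply, hG, hGK f₀ hf₀]
    · have hli : LinearIndependent (KK Y A) ![f, f₀] := by
        rw [LinearIndependent.pair_iff]
        intro x y hxy
        have hx : x = 0 := by
          by_contra hx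
          apply hdep
          refine ⟨-(x⁻¹ * y), ?_⟩
          rw [neg_smul, mul_smul, eq_neg_of_add_eq_zero_right hxy, smul_neg, neg_neg, smul_smul,
            inv_mul_cancel₀ hx, one_smul]
        refine ⟨hx, ?_⟩
        by_contra hy
        rw [hx, zero_smul, zero_add] at hxy
        apply hf₀
        rw [← one_smul (KK Y A) f₀, ← inv_mul_cancel₀ hy, mul_smul, hxy, smul_zero]
      have hsum : f + f₀ ≠ 0 := by
        intro h0
        apply hdep
        exact ⟨-1, by rw [neg_smul, one_smul]; exact eq_neg_of_add_eq_zero_left h0⟩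
      have h4 := HomY.ind hli Finset.univ ![G (f + f₀) a - G f a, G (f + f₀) a - G f₀ a] (by
        rw [Fin.sum_univ_two]
        simp only [Matrix.cons_val_zero, Matrix.cons_val_one]
        have h5 := hG (f + f₀) a
        rw [AddSubgroup.coe_add, AddMonoidHom.add_apply, map_add, hG, hG, AddMonoidHom.add_apply] at h5
        rw [map_sub, map_sub]
        rw [sub_add_sub_comm, ← h5, sub_self])
      have h6 := h4 0 (Finset.mem_univ _)
      have h7 := h4 1 (Finset.mem_univ _)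
      simp only [Matrix.cons_val_zero, Matrix.cons_val_one] at h6 h7
      rw [← sub_eq_zero.1 h6, sub_eq_zero.1 h7]
  refine ⟨{ toFun := G f₀, map_add' := hGadd f₀ hf₀, map_smul' := fun κ a => hGK f₀ hf₀ κ a }, ?_, ?_⟩
  · intro a b hab
    have hab' : G f₀ a = G f₀ b := hab
    exact HomY.inj hf₀ (hμ (by rw [hG, hG, hab']))
  · intro f a
    change μ ((f : A →+ U) a) = (f : A →+ U) (G f₀ a)
    by_cases hf : f = 0
    · rw [hf]
      change μ 0 = 0
      exact map_zero μ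
    · rw [hG, hall f hf]

/-- the characteristic of `K` is 2 -/
theorem charP_two (two : ∀ a : A, a + a = 0) : CharP (KK Y A) 2 := by
  obtain ⟨a, ha⟩ := hI.ne
  have hc2 : (1 : KK Y A) + 1 = 0 := by
    by_contra hne
    apply ha
    have h3 : ((1 : KK Y A) + 1) • a = 0 := by rw [add_smul, one_smul, two]
    rw [← one_smul (KK Y A) a, ← inv_mul_cancel₀ hne, mul_smul, h3, smul_zero]
  exact CharTwo.of_one_ne_zero_of_two_eq_zero one_ne_zero (by rw [← one_add_one_eq_two, hc2])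

/-- **(P3)** for one block -/
theorem act_two [Finite U] (htv : AllTv Y A) (two : ∀ a : A, a + a = 0) (μ : U →+ U) (hμ : Function.Injective μ)
    (h1 : ∀ k : Y, ∃ k' : Y, ∀ u, μ (k • u) = k' • μ u)
    (h2 : ∀ k' : Y, ∃ k : Y, ∀ u, μ (k • u) = k' • μ u) {n : A} (hn : n ≠ 0)
    (hF : ∀ f : HomY Y A U, μ ((f : A →+ U) n) = (f : A →+ U) n) {j : ℕ} (hj : ∀ v ∈ img Y A U, μ^[2 ^ j] v = v) :
    ∃ y : Y, ∀ v ∈ img Y A U, μ v = y • v := by
  by_cases hex : ∃ f : HomY Y A U, f ≠ 0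
  · obtain ⟨f₀, hf₀⟩ := hex
    obtain ⟨g, hgi, hg⟩ := act_pt μ hμ h1 h2 hn hF hf₀
    have hchar := charP_two (Y := Y) two
    have hfin : Module.Finite (KK Y A) A := Module.Finite.of_finite
    have hgn : ∀ (n : ℕ) (f : HomY Y A U) (x : A), μ^[n] ((f : A →+ U) x) = (f : A →+ U) (g^[n] x) := by
      intro n f
      induction n with
      | zero => intro x; rfl
      | succ n ih => intro x; rw [Function.iterate_succ_apply', ih, hg, Function.iterate_succ_apply']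
    have hgj : ∀ x, g^[2 ^ j] x = x := fun x => HomY.inj hf₀ (by rw [← hgn, hj _ (mem_img f₀ x)])
    let e : A ≃ₗ[KK Y A] A := LinearEquiv.ofBijective g ⟨hgi, Finite.injective_iff_surjective.1 hgi⟩
    have he : ∀ x, e x = g x := fun _ => rfl
    have hen : ∀ (n : ℕ) (x : A), (e ^ n) x = g^[n] x := by
      intro n
      induction n with
      | zero => intro x; rfl
      | succ n ih =>
        intro x
        rw [pow_succ', Function.iterate_succ_apply', ← ih]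
        rfl
    have he1 : e ^ 2 ^ j = 1 := LinearEquiv.ext fun x => by rw [hen, hgj]; rfl
    let H : Subgroup (A ≃ₗ[KK Y A] A) :=
      { carrier := {t | ∃ y : Y, ∀ a : A, t a = y • a}
        one_mem' := ⟨1, fun a => (one_smul Y a).symm⟩
        mul_mem' := by
          rintro s t ⟨y, hy⟩ ⟨z, hz⟩
          exact ⟨y * z, fun a => by rw [LinearEquiv.mul_apply, hz, hy, mul_smul]⟩
        inv_mem' := by
          rintro s ⟨y, hy⟩
          refine ⟨y⁻¹, fun a => ?_⟩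
          have h3 : s (y⁻¹ • a) = a := by rw [hy, smul_inv_smul]
          have h4 : s⁻¹ (s (y⁻¹ • a)) = y⁻¹ • a := by
            rw [← LinearEquiv.mul_apply, inv_mul_cancel]; rfl
          rwa [h3] at h4 }
    obtain ⟨y, hy⟩ : e ∈ H := mem_of_two (fun φ a h => by
      obtain ⟨k, hk⟩ := htv φ a h
      exact ⟨k, fun x => by rw [hk, LinearEquiv.transvection.apply]⟩) he1
    refine ⟨y, fun v hv => ?_⟩
    induction hv using AddSubgroup.closure_induction with
    | mem v hv =>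
      obtain ⟨f, a, rfl⟩ := hv
      rw [hg, ← he, hy, f.2]
    | zero => rw [map_zero, smul_zero]
    | add a b _ _ ha hb => rw [map_add, smul_add, ha, hb]
    | neg a _ ha => rw [map_neg, smul_neg, ha]
  · push Not at hex
    refine ⟨1, fun v hv => ?_⟩
    have hv0 : v = 0 := by
      induction hv using AddSubgroup.closure_induction with
      | mem v hv =>
        obtain ⟨f, a, rfl⟩ := hv
        rw [hex f]; rfl
      | zero => rfl
      | add a b _ _ ha hb => rw [ha, hb, add_zero]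
      | neg a _ ha => rw [ha, neg_zero]
    rw [hv0, map_zero, smul_zero]

end Cfsg.Agent.Omega.NO3b.BasePt.ActPt

end

section


/-!
# (P3): `C_S(Z₁) ≤ RR` (bb 22310, 22497 (d), 22687), over helper957's `Fam`

`Fam W M 𝒴`, `RR = ∏ Y`, `W = Σ [W, Y] + C_W(RR)`, `S ≤ M` a 2-group of odd index.

* `comm` : different blocks commute; `RR_conj`; `RR_act` : `RR` acts on `[W, Y]` as `Y`;
* `fix_of` : a vector of `[W, Y]` fixed by `S ∩ Y` is fixed by `S ∩ RR`;
* `norm` : `s ∈ M` which fixes `C_W(S ∩ RR)` normalises every `Y`;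
* `exists_act` : ... and acts on `[W, Y]` as an element of `Y` if it is a 2-element;
* **`two_mem`** : a 2-element `s ∈ M` which fixes `C_W(S ∩ RR)` lies in `RR`.
-/

set_option autoImplicit false

namespace Cfsg.Agent.Omega.NO3b.BasePt.PThree

open Subgroup
open Cfsg.Agent.Omega.NO3b.Exit Cfsg.Agent.Omega.NO3b.Exit.Ten Cfsg.Agent.Omega.NO3b.Exit.Descent
open Cfsg.Agent.Omega.NO3b.BasePt.ActPt
open Cfsg.Agent.Omega.FF.Basic (fx)
open scoped Pointwise

universe u v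

/-- a subgroup of odd index meets a normal subgroup in a subgroup of odd index -/
theorem odd_of_normal {Γ : Type u} [Group Γ] [Finite Γ] {S N K : Subgroup Γ} (hNK : N ≤ K)
    (hn : ∀ k ∈ K, ∀ n ∈ N, k * n * k⁻¹ ∈ N) (h : ¬ 2 ∣ S.relIndex K) : ¬ 2 ∣ S.relIndex N := by
  have hN : (N.subgroupOf K).Normal := ⟨fun n hn' g => hn g g.2 n hn'⟩
  have h1 : S.relIndex N = (S.subgroupOf K).relIndex (N.subgroupOf K) := (relIndex_subgroupOf hNK).symm
  rw [h1]
  set S' := S.subgroupOf K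
  set N' := N.subgroupOf K
  have h2 : ¬ 2 ∣ S'.index := h
  intro h3
  apply h2
  have h4 : S'.relIndex N' * N'.relIndex (N' ⊔ S') = (S' ⊓ N').relIndex (N' ⊔ S') := by
    have := relIndex_inf_mul_relIndex S' N' (N' ⊔ S')
    rwa [inf_eq_left.2 (le_sup_left : N' ≤ N' ⊔ S')] at this
  have h5 : N'.relIndex S' * S'.relIndex (N' ⊔ S') = (N' ⊓ S').relIndex (N' ⊔ S') := by
    have := relIndex_inf_mul_relIndex N' S' (N' ⊔ S')
    rwa [inf_eq_left.2 (le_sup_right : S' ≤ N' ⊔ S')] at this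
  rw [relIndex_sup_left] at h4
  rw [inf_comm, ← h4] at h5
  have h6 : N'.relIndex S' ≠ 0 := index_ne_zero_of_finite
  have h7 : S'.relIndex (N' ⊔ S') = S'.relIndex N' := by
    refine Nat.eq_of_mul_eq_mul_left (Nat.pos_of_ne_zero h6) ?_
    rw [h5, mul_comm]
  rw [← h7] at h3
  exact h3.trans (relIndex_dvd_index_of_le le_sup_right)

/-- an irreducible module with all transvections has no fixed vectors -/
theorem exists_irr {Y : Type u} [Group Y] {A : Type v} [AddCommGroup A] [Finite A] [DistribMulAction Y A]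
    [IsIrr Y A] (hdim : 2 ≤ Module.finrank (KK Y A) A) (htv : AllTv Y A) (a : A) (ha : a ≠ 0) : ∃ y : Y, y • a ≠ a := by
  -- a functional with `φ a ≠ 0` and a vector `b ≠ 0` with `φ b = 0`
  by_contra hcon
  push Not at hcon
  let N : AddSubgroup A :=
    { carrier := {x | ∀ y : Y, y • x = x}
      zero_mem' := fun y => smul_zero y
      add_mem' := fun {x z} hx hz y => by rw [smul_add, hx y, hz y]
      neg_mem' := fun {x} hx y => by rw [smul_neg, hx y] }
  have hN : N = ⊤ := by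
    rcases IsIrr.irr (Y := Y) N (fun k n hn y => by rw [hn k, hn y]) with h | h
    · exfalso
      have : a ∈ N := hcon
      rw [h] at this
      exact ha this
    · exact h
  have htriv : ∀ (y : Y) (x : A), y • x = x := fun y x => by
    have : x ∈ N := by rw [hN]; trivial
    exact this y
  have hfin : Module.Finite (KK Y A) A := Module.Finite.of_finite
  -- `K a ≠ A`
  have h1 : Submodule.span (KK Y A) ({a} : Set A) ≠ ⊤ := by
    intro h
    have h2 := finrank_span_le_card (R := KK Y A) ({a} : Set A)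
    rw [h, finrank_top] at h2
    simp only [Set.toFinset_singleton, Finset.card_singleton] at h2
    omega
  obtain ⟨b, hb⟩ : ∃ b, b ∉ Submodule.span (KK Y A) ({a} : Set A) := by
    by_contra hcon
    push Not at hcon
    exact h1 (eq_top_iff.2 fun x _ => hcon x)
  obtain ⟨φ, hφ1, hφ2⟩ := Submodule.exists_dual_map_eq_bot_of_notMem hb inferInstance
  have hφa : φ a = 0 := by
    have h : φ a ∈ (Submodule.span (KK Y A) ({a} : Set A)).map φ := ⟨a, Submodule.mem_span_singleton_self a, rfl⟩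
    rw [hφ2, Submodule.mem_bot] at h
    exact h
  obtain ⟨k, hk⟩ := htv φ a hφa
  have h3 := hk b
  rw [htriv k b, left_eq_add] at h3
  exact ha ((smul_eq_zero.1 h3).resolve_left hφ1)

variable {Γ : Type u} [Group Γ] {W : Type v} [AddCommGroup W] [DistribMulAction Γ W] {M : Subgroup Γ}
  {𝒴 : Set (Subgroup Γ)}

theorem mem_cm {Y : Subgroup Γ} {y : Γ} (hy : y ∈ Y) (w : W) : y • w - w ∈ cm W Y :=
  AddSubgroup.subset_closure ⟨y, hy, w, rfl⟩

theorem smul_cm {Y : Subgroup Γ} {y : Γ} (hy : y ∈ Y) {v : W} (hv : v ∈ cm W Y) : y • v ∈ cm W Y := by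
  have e : y • v = (y • v - v) + v := by abel
  rw [e]
  exact add_mem (mem_cm hy v) hv

theorem cm_map {Y : Subgroup Γ} (g : Γ) {v : W} (hv : v ∈ cm W Y) :
    g • v ∈ cm W (Y.map (MulAut.conj g).toMonoidHom) := by
  induction hv using AddSubgroup.closure_induction with
  | mem v hv =>
    obtain ⟨y, hy, w, rfl⟩ := hv
    refine AddSubgroup.subset_closure ⟨g * y * g⁻¹, ⟨y, hy, rfl⟩, g • w, ?_⟩
    rw [smul_smul, inv_mul_cancel_right, smul_sub, mul_smul]
  | zero => rw [smul_zero]; exact zero_mem _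
  | add a b _ _ ha hb => rw [smul_add]; exact add_mem ha hb
  | neg a _ ha => rw [smul_neg]; exact neg_mem ha

section fam

variable (f : Fam W M 𝒴)
include f

theorem comm {Y Y' : Subgroup Γ} (hY : Y ∈ 𝒴) (hY' : Y' ∈ 𝒴) (hne : Y ≠ Y') {y y' : Γ} (hy : y ∈ Y)
    (hy' : y' ∈ Y') : y * y' = y' * y := by
  have h1 : (y' * y)⁻¹ * (y * y') = 1 := f.faith _ fun w => by
    rw [mul_smul, inv_smul_eq_iff, mul_smul, mul_smul]
    have e1 : y • y' • w = y • w + (y' • w - w) := by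
      have h2 := f.triv Y hY Y' hY' hne y hy _ (mem_cm hy' w)
      rw [smul_sub] at h2
      rw [← h2]; abel
    have e2 : y' • y • w = y' • w + (y • w - w) := by
      have h2 := f.triv Y' hY' Y hY (Ne.symm hne) y' hy' _ (mem_cm hy w)
      rw [smul_sub] at h2
      rw [← h2]; abel
    rw [e1, e2]; abel
  exact (inv_mul_eq_one.1 h1).symm

omit f in
theorem le_RR {Y : Subgroup Γ} (hY : Y ∈ 𝒴) : Y ≤ RR 𝒴 := le_sSup hY

omit [DistribMulAction Γ W] [AddCommGroup W] f in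
theorem RR_le' {L : Subgroup Γ} (h : ∀ Y ∈ 𝒴, Y ≤ L) : RR 𝒴 ≤ L := sSup_le h

theorem RR_le_M : RR 𝒴 ≤ M := sSup_le f.le

/-- `RR` is normal in `M` -/
theorem RR_conj {m x : Γ} (hm : m ∈ M) (hx : x ∈ RR 𝒴) : m * x * m⁻¹ ∈ RR 𝒴 := by
  have h1 : RR 𝒴 ≤ (RR 𝒴).comap (MulAut.conj m).toMonoidHom := by
    refine sSup_le fun Y hY y hy => ?_
    exact le_RR (f.conj Y hY m hm) ⟨y, hy, rfl⟩
  exact h1 hx

/-- `RR` normalises `Y` -/
theorem RR_norm {Y : Subgroup Γ} (hY : Y ∈ 𝒴) {x : Γ} (hx : x ∈ RR 𝒴) {y : Γ} (hy : y ∈ Y) : x * y * x⁻¹ ∈ Y := by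
  have h1 : RR 𝒴 ≤ normalizer (Y : Set Γ) := by
    refine sSup_le fun Y' hY' y' hy' => ?_
    by_cases h : Y = Y'
    · subst h
      exact le_normalizer hy'
    · rw [mem_normalizer_iff]
      intro z
      constructor
      · intro hz
        rw [← comm f hY hY' h hz hy', mul_inv_cancel_right]
        exact hz
      · intro hz
        have h2 := comm f hY hY' h hz hy'
        have e : z = y'⁻¹ * (y' * z * y'⁻¹) * y' := by group
        rw [e, mul_assoc, h2, ← mul_assoc, inv_mul_cancel, one_mul]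
        exact hz
  exact (mem_normalizer_iff.1 (h1 hx) y).1 hy

/-- `RR` acts on `[W, Y]` as `Y` -/
theorem RR_act {Y : Subgroup Γ} (hY : Y ∈ 𝒴) {x : Γ} (hx : x ∈ RR 𝒴) : ∃ y ∈ Y, ∀ v ∈ cm W Y, x • v = y • v := by
  let L : Subgroup Γ :=
    { carrier := {x | ∃ y ∈ Y, ∀ v ∈ cm W Y, x • v = y • v}
      one_mem' := ⟨1, one_mem _, fun _ _ => rfl⟩
      mul_mem' := by
        rintro a b ⟨y, hy, h1⟩ ⟨z, hz, h2⟩
        exact ⟨y * z, mul_mem hy hz, fun v hv => by
          rw [mul_smul, mul_smul, h2 v hv, h1 _ (smul_cm hz hv)]⟩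
      inv_mem' := by
        rintro a ⟨y, hy, h1⟩
        refine ⟨y⁻¹, inv_mem hy, fun v hv => ?_⟩
        rw [inv_smul_eq_iff, h1 _ (smul_cm (inv_mem hy) hv), smul_inv_smul] }
  have h1 : RR 𝒴 ≤ L := by
    refine sSup_le fun Y' hY' y' hy' => ?_
    by_cases h : Y' = Y
    · subst h
      exact ⟨y', hy', fun _ _ => rfl⟩
    · exact ⟨1, one_mem _, fun v hv => by rw [one_smul]; exact f.triv Y' hY' Y hY h y' hy' v hv⟩
  exact h1 hx

/-- `W = Σ [W, Y] + C_W(RR)` -/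
def Dec (W : Type v) [AddCommGroup W] [DistribMulAction Γ W] (𝒴 : Set (Subgroup Γ)) : Prop :=
  ∀ w : W, ∃ a ∈ (⨆ Y ∈ 𝒴, cm W Y : AddSubgroup W), ∃ c ∈ fx W (RR 𝒴), w = a + c

omit f in
theorem eq_of_dec (d : Dec W 𝒴) {g g' : Γ} (h1 : ∀ Y ∈ 𝒴, ∀ v ∈ cm W Y, g • v = g' • v)
    (h2 : ∀ c ∈ fx W (RR 𝒴), g • c = g' • c) (w : W) : g • w = g' • w := by
  obtain ⟨a, ha, c, hc, rfl⟩ := d w
  rw [smul_add, smul_add, h2 c hc]
  congr 1
  have h3 : (⨆ Y ∈ 𝒴, cm W Y : AddSubgroup W) ≤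
      ({ carrier := {v | g • v = g' • v}
         zero_mem' := by change g • (0 : W) = g' • (0 : W); rw [smul_zero, smul_zero]
         add_mem' := fun {a b} ha hb => by
           change g • (a + b) = g' • (a + b)
           rw [smul_add, smul_add, ha, hb]
         neg_mem' := fun {a} ha => by
           change g • (-a) = g' • (-a)
           rw [smul_neg, smul_neg, ha] } : AddSubgroup W) := iSup₂_le fun Y hY v hv => h1 Y hY v hv
  exact h3 ha

/-- `Y` is faithful on `[W, Y]` -/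
theorem eq_one (d : Dec W 𝒴) {Y : Subgroup Γ} (hY : Y ∈ 𝒴) {y : Γ} (hy : y ∈ Y) (h : ∀ v ∈ cm W Y, y • v = v) :
    y = 1 := by
  refine f.faith y fun w => ?_
  have h1 := eq_of_dec (g := y) (g' := 1) d (fun Y' hY' v hv => by
    rw [one_smul]
    by_cases h2 : Y = Y'
    · subst h2; exact h v hv
    · exact f.triv Y hY Y' hY' h2 y hy v hv) (fun c hc => by
    rw [one_smul]; exact hc y (le_RR hY hy)) w
  rwa [one_smul] at h1

variable [Finite Γ] {S : Subgroup Γ}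

/-- `S ∩ Y` has odd index in `Y` -/
theorem odd_Y (syl : ¬ 2 ∣ S.relIndex M) {Y : Subgroup Γ} (hY : Y ∈ 𝒴) : ¬ 2 ∣ S.relIndex Y := by
  have h1 : ¬ 2 ∣ S.relIndex (RR 𝒴) := odd_of_normal (RR_le_M f) (fun m hm x hx => RR_conj f hm hx) syl
  exact odd_of_normal (le_RR hY) (fun x hx y hy => RR_norm f hY hx hy) h1

/-- a vector of `[W, Y]` fixed by `S ∩ Y` is fixed by `S ∩ RR` -/
theorem fix_of (d : Dec W 𝒴) (hS : IsPGroup 2 S) (syl : ¬ 2 ∣ S.relIndex M) {Y : Subgroup Γ} (hY : Y ∈ 𝒴) {v : W}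
    (hv : v ∈ cm W Y) (h : ∀ t ∈ S, t ∈ Y → t • v = v) : v ∈ fx W (S ⊓ RR 𝒴) := by
  have hfact : Fact (Nat.Prime 2) := ⟨Nat.prime_two⟩
  let T : Subgroup Γ :=
    { carrier := {y | y ∈ Y ∧ ∃ x ∈ S ⊓ RR 𝒴, ∀ v ∈ cm W Y, x • v = y • v}
      one_mem' := ⟨one_mem _, 1, one_mem _, fun _ _ => rfl⟩
      mul_mem' := by
        rintro a b ⟨ha, x, hx, h1⟩ ⟨hb, z, hz, h2⟩
        exact ⟨mul_mem ha hb, x * z, mul_mem hx hz, fun v hv => by
          rw [mul_smul, mul_smul, h2 v hv, h1 _ (smul_cm hb hv)]⟩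
      inv_mem' := by
        rintro a ⟨ha, x, hx, h1⟩
        refine ⟨inv_mem ha, x⁻¹, inv_mem hx, fun v hv => ?_⟩
        rw [inv_smul_eq_iff, h1 _ (smul_cm (inv_mem ha) hv), smul_inv_smul] }
  have hT2 : IsPGroup 2 T := by
    rintro ⟨y, hy, x, hx, h1⟩
    obtain ⟨k, hk⟩ := hS ⟨x, hx.1⟩
    have hk' : x ^ 2 ^ k = 1 := congrArg Subtype.val hk
    refine ⟨k, Subtype.ext ?_⟩
    change y ^ 2 ^ k = 1
    refine eq_one f d hY (pow_mem hy _) fun v hv => ?_
    have h3 : ∀ n : ℕ, ∀ v ∈ cm W Y, x ^ n • v = y ^ n • v := by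
      intro n
      induction n with
      | zero => intro v _; rw [pow_zero, pow_zero]
      | succ n ih =>
        intro v hv
        rw [pow_succ, pow_succ, mul_smul, mul_smul, h1 v hv, ih _ (smul_cm hy hv)]
    rw [← h3 _ v hv, hk', one_smul]
  have hST : S ⊓ Y ≤ T := fun t ht => ⟨ht.2, t, ⟨ht.1, le_RR hY ht.2⟩, fun _ _ => rfl⟩
  have hTY : T ≤ Y := fun t ht => ht.1
  have h4 : (S ⊓ Y).relIndex T = 1 := by
    have h5 : ¬ 2 ∣ (S ⊓ Y).relIndex T := by
      intro h6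
      apply odd_Y f syl hY
      rw [← inf_relIndex_right]
      exact h6.trans ⟨_, (relIndex_mul_relIndex (S ⊓ Y) T Y hST hTY).symm⟩
    obtain ⟨k, hk⟩ := IsPGroup.iff_card.1 hT2
    have h6 : (S ⊓ Y).relIndex T ∣ 2 ^ k := by rw [← hk]; exact relIndex_dvd_card _ _
    obtain ⟨l, -, hl⟩ := (Nat.dvd_prime_pow Nat.prime_two).1 h6
    rcases Nat.eq_zero_or_pos l with h0 | h0
    · rw [hl, h0, pow_zero]
    · exact absurd (hl ▸ dvd_pow_self 2 h0.ne') h5
  intro x hx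
  obtain ⟨y, hy, h1⟩ := RR_act f hY hx.2
  rw [h1 v hv]
  have hyT : y ∈ S ⊓ Y := relIndex_eq_one.1 h4 ⟨hy, x, hx, h1⟩
  exact h y hyT.1 hy

variable [Finite W]

/-- `s ∈ M` which fixes `C_W(S ∩ RR)`: one block -/
theorem exists_act (d : Dec W 𝒴) (hS : IsPGroup 2 S) (syl : ¬ 2 ∣ S.relIndex M) {s : Γ} (hs : s ∈ M)
    (hfix : ∀ v ∈ fx W (S ⊓ RR 𝒴), s • v = v) {j : ℕ} (hj : s ^ 2 ^ j = 1) {Y : Subgroup Γ} (hY : Y ∈ 𝒴) :
    ∃ y ∈ Y, ∀ v ∈ cm W Y, s • v = y • v := by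
  obtain ⟨A, _, _, _, hI, htv, two, hcm, hdA, hdE⟩ := (f.blk Y hY).ex
  have hodd : ¬ 2 ∣ (S.subgroupOf Y).index := odd_Y f syl hY
  have hp : IsPGroup 2 (S.subgroupOf Y) := hS.comap_of_injective _ (subtype_injective Y)
  obtain ⟨n, -, hn0, hn⟩ := exists_fix (V := A) (H := Y) hp two (A := ⊤) (fun _ _ _ _ => trivial) (by
    intro h
    obtain ⟨a, ha⟩ := hI.ne
    have : a ∈ (⊤ : AddSubgroup A) := trivial
    rw [h] at this
    exact ha this)
  -- `s` fixes `n ⊗ E`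
  have hsn : ∀ g : HomY Y A W, s • (g : A →+ W) n = (g : A →+ W) n := by
    intro g
    refine hfix _ (fix_of f d hS syl hY (by rw [hcm]; exact mem_img g n) fun t ht htY => ?_)
    have h1 := hn ⟨t, htY⟩ (mem_subgroupOf.2 ht)
    have h2 := g.2 (⟨t, htY⟩ : Y) n
    rw [h1] at h2
    exact h2.symm
  -- `s` normalises `Y`
  obtain ⟨g₀, hg₀⟩ : ∃ g : HomY Y A W, g ≠ 0 := by
    by_contra hcon
    push Not at hcon
    have h1 : Module.finrank (KK Y A) (HomY Y A W) = 0 := by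
      have : Subsingleton (HomY Y A W) := ⟨fun a b => by rw [hcon a, hcon b]⟩
      exact Module.finrank_zero_of_subsingleton
    omega
  have hYs : Y.map (MulAut.conj s).toMonoidHom = Y := by
    by_contra hne
    obtain ⟨y, hy⟩ := exists_irr hdA htv n hn0
    apply hy
    have h1 : (g₀ : A →+ W) n ∈ cm W (Y.map (MulAut.conj s).toMonoidHom) := by
      rw [← hsn g₀]
      exact cm_map s (by rw [hcm]; exact mem_img g₀ n)
    have h2 := f.triv Y hY _ (f.conj Y hY s hs) (Ne.symm hne) y y.2 _ h1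
    apply HomY.inj hg₀
    rw [g₀.2]
    exact h2
  have hsY : ∀ y ∈ Y, s * y * s⁻¹ ∈ Y := fun y hy => by
    have : s * y * s⁻¹ ∈ Y.map (MulAut.conj s).toMonoidHom := ⟨y, hy, rfl⟩
    rwa [hYs] at this
  have hsY' : ∀ y ∈ Y, s⁻¹ * y * s ∈ Y := fun y hy => by
    rw [← hYs] at hy
    obtain ⟨z, hz, rfl⟩ := hy
    change s⁻¹ * (s * z * s⁻¹) * s ∈ Y
    have e : s⁻¹ * (s * z * s⁻¹) * s = z := by group
    rw [e]; exact hz
  obtain ⟨y, hy⟩ := act_two (U := W) htv two (DistribSMul.toAddMonoidHom W s)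
    (fun a b hab => smul_left_cancel s hab)
    (fun k => ⟨⟨_, hsY k k.2⟩, fun u => by
      change s • (k : Γ) • u = (s * (k : Γ) * s⁻¹) • s • u
      rw [smul_smul, smul_smul, inv_mul_cancel_right]⟩)
    (fun k => ⟨⟨_, hsY' k k.2⟩, fun u => by
      change s • (s⁻¹ * (k : Γ) * s) • u = (k : Γ) • s • u
      rw [smul_smul, smul_smul]
      congr 1
      group⟩) hn0 hsn (j := j) (fun v _ => by
      have h1 : ∀ m : ℕ, ∀ v : W, (DistribSMul.toAddMonoidHom W s)^[m] v = s ^ m • v := by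
        intro m
        induction m with
        | zero => intro v; rw [pow_zero, one_smul]; rfl
        | succ m ih =>
          intro v
          rw [Function.iterate_succ_apply', ih, pow_succ', mul_smul]
          rfl
      rw [h1, hj, one_smul])
  refine ⟨y, y.2, fun v hv => ?_⟩
  rw [hcm] at hv
  exact hy v hv

/-- **(P3)** -/
theorem two_mem (d : Dec W 𝒴) (hS : IsPGroup 2 S) (syl : ¬ 2 ∣ S.relIndex M) {s : Γ} (hs : s ∈ M)
    (hfix : ∀ v ∈ fx W (S ⊓ RR 𝒴), s • v = v) {j : ℕ} (hj : s ^ 2 ^ j = 1) : s ∈ RR 𝒴 := by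
  classical
  have hfin : Finite (Subgroup Γ) := Finite.of_injective (fun A : Subgroup Γ => (A : Set Γ)) SetLike.coe_injective
  have h𝒴 : 𝒴.Finite := Set.toFinite 𝒴
  have key : ∀ T : Finset (Subgroup Γ), (∀ Y ∈ T, Y ∈ 𝒴) → ∃ x ∈ RR 𝒴,
      (∀ Y ∈ T, ∀ v ∈ cm W Y, s • v = x • v) ∧ ∀ Y ∈ 𝒴, Y ∉ T → ∀ v ∈ cm W Y, x • v = v := by
    intro T
    induction T using Finset.induction with
    | empty =>
      intro _
      exact ⟨1, one_mem _, fun Y hY => absurd hY (Finset.notMem_empty _), fun Y _ _ v _ => one_smul _ v⟩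
    | insert Y T hYT ih =>
      intro hT
      obtain ⟨x, hx, h1, h2⟩ := ih fun Y' hY' => hT Y' (Finset.mem_insert_of_mem hY')
      have hY : Y ∈ 𝒴 := hT Y (Finset.mem_insert_self _ _)
      obtain ⟨y, hy, h3⟩ := exists_act f d hS syl hs hfix hj hY
      refine ⟨y * x, mul_mem (le_RR hY hy) hx, fun Y' hY' v hv => ?_, fun Y' hY' hn v hv => ?_⟩
      · rcases Finset.mem_insert.1 hY' with rfl | hY'
        · rw [mul_smul, h2 Y' hY hYT v hv, h3 v hv]
        · have hne : Y ≠ Y' := fun e => hYT (e ▸ hY')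
          have hY'' : Y' ∈ 𝒴 := hT Y' (Finset.mem_insert_of_mem hY')
          obtain ⟨z, hz, h4⟩ := RR_act f hY'' hx
          rw [mul_smul, h1 Y' hY' v hv, h4 v hv]
          exact (f.triv Y hY Y' hY'' hne y hy _ (smul_cm hz hv)).symm
      · rw [Finset.mem_insert, not_or] at hn
        rw [mul_smul, h2 Y' hY' hn.2 v hv]
        exact f.triv Y hY Y' hY' (Ne.symm hn.1) y hy v hv
  obtain ⟨x, hx, h1, -⟩ := key h𝒴.toFinset fun Y hY => h𝒴.mem_toFinset.1 hY
  have h2 : ∀ w : W, s • w = x • w := eq_of_dec d (fun Y hY => h1 Y (h𝒴.mem_toFinset.2 hY)) fun c hc => by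
    rw [hc x hx, hfix c fun t ht => hc t ht.2]
  have h3 : x⁻¹ * s = 1 := f.faith _ fun w => by rw [mul_smul, h2 w, inv_smul_smul]
  rw [← inv_mul_eq_one.1 h3]
  exact hx

/-- **(P3)** for `S`: `C_S(C_W(S ∩ RR)) = S ∩ RR`. -/
theorem inf_RR (d : Dec W 𝒴) (SM : S ≤ M) (hS : IsPGroup 2 S) (syl : ¬ 2 ∣ S.relIndex M) {s : Γ} :
    s ∈ S ⊓ RR 𝒴 ↔ s ∈ S ∧ ∀ v ∈ fx W (S ⊓ RR 𝒴), s • v = v := by
  constructor
  · exact fun h => ⟨h.1, fun v hv => hv s h⟩
  · rintro ⟨h, h1⟩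
    obtain ⟨k, hk⟩ := hS ⟨s, h⟩
    exact ⟨h, two_mem f d hS syl (SM h) h1 (congrArg Subtype.val hk)⟩

end fam

end Cfsg.Agent.Omega.NO3b.BasePt.PThree

end

section


/-!
# NotFFG (NO-3L), the base point, (E2), part 1: transvections on one irreducible module

`Y` acts faithfully and irreducibly on `A`, `K = KK Y A`, and induces all transvections.

* `IsTv y φ a` : `y = 1 + φ ⊗ a` on `A`;
* `full P` : the centres `a` such that all transvections with centre `a` are in `P` (a subspace);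
* `tv_mem` : `T ≤ P` a 2-group, fixing `n`, all transvections with centre `n` are in `T`; `m` a full centre of `P`.
  If `J ≥ T` contains all `y ∈ P` fixing `n` and all `y ∈ P` with `[A, y, T] ≤ K n`, then all transvections with
  centre `m` are in `J`.
-/

set_option autoImplicit false

namespace Cfsg.Agent.Omega.NO3b.BasePt.Node

open Subgroup
open Cfsg.Agent.Omega.NO3b.Exit Cfsg.Agent.Omega.NO3b.Exit.Ten Cfsg.Agent.Omega.NO3b.Exit.Descent

universe u v w

section pure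

variable {Y : Type u} {A : Type v} [Group Y] [AddCommGroup A] [DistribMulAction Y A] [Finite A] [hI : IsIrr Y A]

/-- `y = 1 + φ ⊗ a` on `A` -/
def IsTv (y : Y) (φ : Module.Dual (KK Y A) A) (a : A) : Prop := ∀ x : A, y • x = x + φ x • a

/-- the action of `y`, linear -/
noncomputable def lin (y : Y) : A →ₗ[KK Y A] A where
  toFun x := y • x
  map_add' x x' := smul_add y x x'
  map_smul' κ x := smul_comm y κ x

theorem lin_apply (y : Y) (x : A) : lin y x = y • x := rfl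

/-- conjugation -/
theorem IsTv.conj {y : Y} {φ : Module.Dual (KK Y A) A} {a : A} (h : IsTv y φ a) (k : Y) :
    IsTv (k⁻¹ * y * k) (φ.comp (lin k)) (k⁻¹ • a) := by
  intro x
  rw [mul_smul, mul_smul, h (k • x), smul_add, inv_smul_smul, LinearMap.comp_apply, lin_apply,
    smul_comm k⁻¹ (φ (k • x)) a]

theorem IsTv.smul {y : Y} {φ : Module.Dual (KK Y A) A} {a : A} {κ : KK Y A} (h : IsTv y φ (κ • a)) :
    IsTv y (κ • φ) a := by
  intro x
  rw [h x, LinearMap.smul_apply, smul_smul, smul_eq_mul, mul_comm]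

/-- the full centres of `P` -/
def full (htv : AllTv Y A) (hf : ∀ y : Y, (∀ a : A, y • a = a) → y = 1) (P : Subgroup Y) :
    Submodule (KK Y A) A where
  carrier := {a | ∀ (y : Y) (φ : Module.Dual (KK Y A) A), φ a = 0 → IsTv y φ a → y ∈ P}
  zero_mem' := by
    intro y φ _ h
    rw [hf y fun a => by rw [h a, smul_zero, add_zero]]
    exact one_mem P
  smul_mem' := by
    intro κ a ha y φ h0 h
    refine ha y (κ • φ) ?_ h.smul
    rw [LinearMap.smul_apply, smul_eq_mul, ← h0, map_smul, smul_eq_mul]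
  add_mem' := by
    intro a b ha hb
    have hsm : ∀ (κ : KK Y A) (a : A), (∀ (y : Y) (φ : Module.Dual (KK Y A) A), φ a = 0 → IsTv y φ a → y ∈ P) →
        ∀ (y : Y) (φ : Module.Dual (KK Y A) A), φ (κ • a) = 0 → IsTv y φ (κ • a) → y ∈ P := by
      intro κ a ha y φ h0 h
      refine ha y (κ • φ) ?_ h.smul
      rw [LinearMap.smul_apply, smul_eq_mul, ← h0, map_smul, smul_eq_mul]
    by_cases hab : a ∈ Submodule.span (KK Y A) ({b} : Set A)
    · obtain ⟨κ, rfl⟩ := Submodule.mem_span_singleton.1 hab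
      have e : κ • b + b = (κ + 1) • b := by rw [add_smul, one_smul]
      change ∀ (y : Y) (φ : Module.Dual (KK Y A) A), φ (κ • b + b) = 0 → IsTv y φ (κ • b + b) → y ∈ P
      rw [e]
      exact hsm _ _ hb
    · obtain ⟨χ, hχ1, hχ2⟩ := Submodule.exists_dual_map_eq_bot_of_notMem hab inferInstance
      have hχb : χ b = 0 := by
        have h : χ b ∈ (Submodule.span (KK Y A) ({b} : Set A)).map χ :=
          ⟨b, Submodule.mem_span_singleton_self b, rfl⟩
        rw [hχ2, Submodule.mem_bot] at h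
        exact h
      have hχb' : ((χ a)⁻¹ • χ) b = 0 := by rw [LinearMap.smul_apply, hχb, smul_zero]
      have hχa' : ((χ a)⁻¹ • χ) a = 1 := by rw [LinearMap.smul_apply, smul_eq_mul, inv_mul_cancel₀ hχ1]
      obtain ⟨k, hk⟩ := htv ((χ a)⁻¹ • χ) b hχb'
      have hkP : k ∈ P := hb k _ hχb' hk
      have hka : k • a = a + b := by rw [hk a, hχa', one_smul]
      intro y φ h0 h
      have h1 : IsTv (k⁻¹ * y * k) (φ.comp (lin k)) a := by
        have h2 := h.conj k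
        rwa [← hka, inv_smul_smul] at h2
      have h2 : k⁻¹ * y * k ∈ P := ha _ _ (by rw [LinearMap.comp_apply, lin_apply, hka, h0]) h1
      have h3 : y = k * (k⁻¹ * y * k) * k⁻¹ := by group
      rw [h3]
      exact mul_mem (mul_mem hkP h2) (inv_mem hkP)

theorem mem_full {htv : AllTv Y A} {hf : ∀ y : Y, (∀ a : A, y • a = a) → y = 1} {P : Subgroup Y} {a : A} :
    a ∈ full htv hf P ↔ ∀ (y : Y) (φ : Module.Dual (KK Y A) A), φ a = 0 → IsTv y φ a → y ∈ P := Iff.rfl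

theorem smul_mem_full {htv : AllTv Y A} {hf : ∀ y : Y, (∀ a : A, y • a = a) → y = 1} {P : Subgroup Y} {a : A}
    (ha : a ∈ full htv hf P) {k : Y} (hk : k ∈ P) : k • a ∈ full htv hf P := by
  intro y φ h0 h
  have h1 := h.conj k
  rw [inv_smul_smul] at h1
  have h2 : k⁻¹ * y * k ∈ P := ha _ _ (by rw [LinearMap.comp_apply, lin_apply, h0]) h1
  have h3 : y = k * (k⁻¹ * y * k) * k⁻¹ := by group
  rw [h3]
  exact mul_mem (mul_mem hk h2) (inv_mem hk)

/-- a functional with given values -/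
theorem exists_dual {X : Submodule (KK Y A) A} {a : A} (ha : a ∉ X) :
    ∃ χ : Module.Dual (KK Y A) A, χ a = 1 ∧ ∀ x ∈ X, χ x = 0 := by
  obtain ⟨χ, hχ1, hχ2⟩ := Submodule.exists_dual_map_eq_bot_of_notMem ha inferInstance
  refine ⟨(χ a)⁻¹ • χ, by rw [LinearMap.smul_apply, smul_eq_mul, inv_mul_cancel₀ hχ1], fun x hx => ?_⟩
  have h : χ x ∈ X.map χ := ⟨x, hx, rfl⟩
  rw [hχ2, Submodule.mem_bot] at h
  rw [LinearMap.smul_apply, h, smul_zero]

/-- the commutator of two transvections -/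
theorem comm_tv (two : ∀ a : A, a + a = 0) {u v : Y} {φ ψ : Module.Dual (KK Y A) A} {l m : A} (hu : IsTv u ψ m)
    (hv : IsTv v φ l) (hψm : ψ m = 0) (hφl : φ l = 0) (hψl : ψ l = 1) (hφm : φ m = 0) :
    IsTv (u * v * u * v) φ m := by
  have hum : u • m = m := by rw [hu, hψm, zero_smul, add_zero]
  have hvm : v • m = m := by rw [hv, hφm, zero_smul, add_zero]
  have hul : u • l = l + m := by rw [hu, hψl, one_smul]
  have hvl : v • l = l := by rw [hv, hφl, zero_smul, add_zero]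
  intro x
  have hux : u • x = x + ψ x • m := hu x
  have hvx : v • x = x + φ x • l := hv x
  have two' : ∀ c : KK Y A, ∀ a b : A, b + c • a + c • a = b := fun c a b => by rw [add_assoc, two, add_zero]
  have e1 : u • v • x = x + ψ x • m + (φ x • l + φ x • m) := by
    rw [hvx, smul_add, hux, smul_comm u (φ x) l, hul, smul_add]
  have e2 : v • (x + ψ x • m + (φ x • l + φ x • m)) = x + ψ x • m + φ x • m := by
    rw [smul_add, smul_add, smul_add, hvx, smul_comm v (ψ x) m, smul_comm v (φ x) l, smul_comm v (φ x) m, hvm, hvl]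
    have h := two' (φ x) l (x + ψ x • m + φ x • m)
    calc x + φ x • l + ψ x • m + (φ x • l + φ x • m) = x + ψ x • m + φ x • m + φ x • l + φ x • l := by abel
      _ = x + ψ x • m + φ x • m := h
  rw [mul_smul, mul_smul, mul_smul, e1, e2, smul_add, smul_add, hux, smul_comm u (ψ x) m, smul_comm u (φ x) m, hum,
    two']

/-- **The transvections with full centre.** -/
theorem tv_mem (htv : AllTv Y A) (two : ∀ a : A, a + a = 0) (hf : ∀ y : Y, (∀ a : A, y • a = a) → y = 1)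
    {T P J : Subgroup Y} (hT2 : IsPGroup 2 T) (hTP : T ≤ P) {n : A} (hn : ∀ t ∈ T, t • n = n)
    (hnF : ∀ (y : Y) (φ : Module.Dual (KK Y A) A), φ n = 0 → IsTv y φ n → y ∈ T) (hTJ : T ≤ J)
    (hJ1 : ∀ y ∈ P, y • n = n → y ∈ J)
    (hJ2 : ∀ y ∈ P, (∀ x : A, ∀ t ∈ T, ∃ κ : KK Y A, t • (y • x - x) - (y • x - x) = κ • n) → y ∈ J)
    {m : A} (hm : ∀ (y : Y) (φ : Module.Dual (KK Y A) A), φ m = 0 → IsTv y φ m → y ∈ P) :
    ∀ (y : Y) (φ : Module.Dual (KK Y A) A), φ m = 0 → IsTv y φ m → y ∈ J := by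
  intro y φ hφm h
  have hyP := hm y φ hφm h
  by_cases hmn : m ∈ Submodule.span (KK Y A) ({n} : Set A)
  · obtain ⟨κ, rfl⟩ := Submodule.mem_span_singleton.1 hmn
    refine hTJ (hnF y (κ • φ) ?_ h.smul)
    rw [LinearMap.smul_apply, smul_eq_mul, ← hφm, map_smul, smul_eq_mul]
  by_cases hφn : φ n = 0
  · exact hJ1 y hyP (by rw [h n, hφn, zero_smul, add_zero])
  -- the plane
  set E := full htv hf P with hE
  have hmE : m ∈ E := hm
  have hnE : n ∈ E := fun y φ h0 h => hTP (hnF y φ h0 h)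
  obtain ⟨l0, hl0E, hl0n, hl0T⟩ := FF.Basic.exists_fixed (X := Y) (V := A) hT2 (H := E.toAddSubgroup)
    (K := (Submodule.span (KK Y A) ({n} : Set A)).toAddSubgroup) two
    (by
      intro t ht v hv
      obtain ⟨κ, rfl⟩ := Submodule.mem_span_singleton.1 hv
      exact Submodule.mem_span_singleton.2 ⟨κ, by rw [smul_comm t κ n, hn t ht]⟩)
    (fun t ht v hv => smul_mem_full (htv := htv) (hf := hf) hv (hTP ht))
    (by
      intro v hv
      obtain ⟨κ, rfl⟩ := Submodule.mem_span_singleton.1 hv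
      exact E.smul_mem κ hnE)
    (fun h1 => hmn (h1 hmE))
  replace hl0n : l0 ∉ Submodule.span (KK Y A) ({n} : Set A) := hl0n
  replace hl0E : l0 ∈ E := hl0E
  set l := φ n • l0 - φ l0 • n with hl
  have hlE : l ∈ E := E.sub_mem (E.smul_mem _ hl0E) (E.smul_mem _ hnE)
  have hφl : φ l = 0 := by
    rw [hl, map_sub, map_smul, map_smul, smul_eq_mul, smul_eq_mul, mul_comm, sub_self]
  have hln : l ∉ Submodule.span (KK Y A) ({n} : Set A) := by
    intro h1
    have h2 : φ n • l0 ∈ Submodule.span (KK Y A) ({n} : Set A) := by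
      have e : φ n • l0 = l + φ l0 • n := by rw [hl, sub_add_cancel]
      rw [e]
      exact Submodule.add_mem _ h1 (Submodule.smul_mem _ _ (Submodule.mem_span_singleton_self n))
    exact hl0n ((Submodule.smul_mem_iff _ hφn).1 h2)
  have hlT : ∀ κ : KK Y A, ∀ t ∈ T, ∃ κ' : KK Y A, t • (κ • l) - κ • l = κ' • n := by
    intro κ t ht
    obtain ⟨κ', hκ'⟩ := Submodule.mem_span_singleton.1
      (show t • l0 - l0 ∈ Submodule.span (KK Y A) ({n} : Set A) from hl0T t ht)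
    refine ⟨κ * (φ n * κ'), ?_⟩
    have e : t • l - l = φ n • (t • l0 - l0) := by
      rw [hl, smul_sub, smul_comm t (φ n) l0, smul_comm t (φ l0) n, hn t ht, smul_sub]
      abel
    rw [smul_comm t κ l, ← smul_sub, e, ← hκ', smul_smul, smul_smul, mul_assoc]
  by_cases hm2 : ∀ t ∈ T, t • m - m ∈ Submodule.span (KK Y A) ({n} : Set A)
  · refine hJ2 y hyP fun x t ht => ?_
    obtain ⟨κ, hκ⟩ := Submodule.mem_span_singleton.1 (hm2 t ht)
    refine ⟨φ x * κ, ?_⟩
    have e : y • x - x = φ x • m := by rw [h x, add_sub_cancel_left]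
    rw [e, smul_comm t (φ x) m, ← smul_sub, ← hκ, smul_smul]
  -- `l ∉ ⟨m, n⟩`
  have hlmn : l ∉ Submodule.span (KK Y A) ({m, n} : Set A) := by
    intro h1
    obtain ⟨α, β, hαβ⟩ := Submodule.mem_span_pair.1 h1
    have h2 : β = 0 := by
      have h3 := congrArg φ hαβ
      rw [map_add, map_smul, map_smul, hφm, hφl, smul_zero, zero_add, smul_eq_mul] at h3
      exact (mul_eq_zero.1 h3).resolve_right hφn
    rw [h2, zero_smul, add_zero] at hαβ
    have hα : α ≠ 0 := by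
      rintro rfl
      rw [zero_smul] at hαβ
      exact hln (hαβ ▸ Submodule.zero_mem _)
    apply hm2
    intro t ht
    obtain ⟨κ', hκ'⟩ := hlT α⁻¹ t ht
    have e : α⁻¹ • l = m := by rw [← hαβ, smul_smul, inv_mul_cancel₀ hα, one_smul]
    rw [e] at hκ'
    rw [hκ']
    exact Submodule.smul_mem _ _ (Submodule.mem_span_singleton_self n)
  obtain ⟨ψ, hψl, hψ⟩ := exists_dual hlmn
  have hψm : ψ m = 0 := hψ m (Submodule.subset_span (Set.mem_insert _ _))
  have hψn : ψ n = 0 := hψ n (Submodule.subset_span (Set.mem_insert_of_mem _ rfl))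
  obtain ⟨u, hu⟩ := htv ψ m hψm
  obtain ⟨v, hv⟩ := htv φ l hφl
  have huJ : u ∈ J := hJ1 u (hm u ψ hψm hu) (by rw [hu n, hψn, zero_smul, add_zero])
  have hvJ : v ∈ J := by
    refine hJ2 v (hlE v φ hφl hv) fun x t ht => ?_
    have e : v • x - x = φ x • l := by rw [hv x, add_sub_cancel_left]
    rw [e]
    exact hlT (φ x) t ht
  have h1 := comm_tv two hu hv hψm hφl hψl hφm
  have h2 : y = u * v * u * v := by
    have h3 : y⁻¹ * (u * v * u * v) = 1 := hf _ fun a => by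
      rw [mul_smul, h1 a, inv_smul_eq_iff, h a]
    rw [← mul_one y, ← h3, mul_inv_cancel_left]
  rw [h2]
  exact mul_mem (mul_mem (mul_mem huJ hvJ) huJ) hvJ

end pure

end Cfsg.Agent.Omega.NO3b.BasePt.Node

end

section


/-!
# NotFFG (NO-3L), the base point, (E2), part 2: one block on `W`

`Y` a block on `W` (`IsBlk W Y`), faithful, `W = [W, Y] + C_W(Y)`; `T ≤ Y` of odd index.

* `lT W Y T` = `[W, Y] ∩ C_W(T)`, the point of `T`; `AT W Y T` = the transvections with centre `lT W Y T`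
  (`[W, y] ≤ lT`, `[lT, y] = 0`), intrinsic;
* `AT_sq` : `AT` is elementary abelian; `AT_conj` : conjugation;
* `AT_le` : `T` a 2-group: `AT W Y T ≤ T`;
* `lT_le` : `AT W Y T' ≤ T` implies `lT W Y T' ≤ lT W Y T`;
* **`AT_le_of`** : if `AT W Y T' ≤ P`, `T ≤ P` and `J ≥ T` contains all `y ∈ Y ∩ P` which fix `lT W Y T` and all
  `y ∈ Y ∩ P` with `[W, y, T] ≤ lT W Y T`, then `AT W Y T' ≤ J`.
-/

set_option autoImplicit false
set_option linter.unusedSectionVars false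

namespace Cfsg.Agent.Omega.NO3b.BasePt.Node

open Subgroup
open Cfsg.Agent.Omega.NO3b.Exit Cfsg.Agent.Omega.NO3b.Exit.Ten Cfsg.Agent.Omega.NO3b.Exit.Descent
open Cfsg.Agent.Omega.FF.Basic (fx mem_fx cj mem_cj mem_cj_of)

universe u v w

variable {Γ : Type u} [Group Γ] (W : Type v) [AddCommGroup W] [DistribMulAction Γ W]

/-- the point of `T` -/
def lT (Y T : Subgroup Γ) : AddSubgroup W := cm W Y ⊓ fx W T

/-- the transvections of `Y` with centre `lT W Y T` -/
def AT (Y T : Subgroup Γ) : Subgroup Γ where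
  carrier := {y | y ∈ Y ∧ (∀ w : W, y • w - w ∈ lT W Y T) ∧ ∀ v ∈ lT W Y T, y • v = v}
  one_mem' := ⟨one_mem _, fun w => by rw [one_smul, sub_self]; exact zero_mem _, fun v _ => one_smul _ v⟩
  mul_mem' := by
    rintro x y ⟨hx, hx1, hx2⟩ ⟨hy, hy1, hy2⟩
    refine ⟨mul_mem hx hy, fun w => ?_, fun v hv => by rw [mul_smul, hy2 v hv, hx2 v hv]⟩
    have e : (x * y) • w - w = x • (y • w - w) + (x • w - w) := by rw [mul_smul, smul_sub]; abel
    rw [e, hx2 _ (hy1 w)]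
    exact add_mem (hy1 w) (hx1 w)
  inv_mem' := by
    rintro y ⟨hy, hy1, hy2⟩
    have h2 : ∀ v ∈ lT W Y T, y⁻¹ • v = v := fun v hv => by rw [inv_smul_eq_iff, hy2 v hv]
    refine ⟨inv_mem hy, fun w => ?_, h2⟩
    have e : y⁻¹ • w - w = - (y • (y⁻¹ • w) - y⁻¹ • w) := by rw [smul_inv_smul]; abel
    rw [e]
    exact neg_mem (hy1 _)

variable {W}
variable {Y T T' P J : Subgroup Γ}

theorem mem_AT {y : Γ} : y ∈ AT W Y T ↔ y ∈ Y ∧ (∀ w : W, y • w - w ∈ lT W Y T) ∧ ∀ v ∈ lT W Y T, y • v = v :=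
  Iff.rfl

theorem AT_Y : AT W Y T ≤ Y := fun _ hy => hy.1

/-! ### conjugation -/

theorem mem_cm_of {y : Γ} (hy : y ∈ Y) (w : W) : y • w - w ∈ cm W Y := AddSubgroup.subset_closure ⟨y, hy, w, rfl⟩

theorem smul_cm {y : Γ} (hy : y ∈ Y) {v : W} (hv : v ∈ cm W Y) : y • v ∈ cm W Y := by
  have e : y • v = (y • v - v) + v := by abel
  rw [e]
  exact add_mem (mem_cm_of hy v) hv

theorem mem_cm_cj {g : Γ} {v : W} : v ∈ cm W (cj g Y) ↔ g⁻¹ • v ∈ cm W Y := by
  have key : ∀ (g : Γ) (Y : Subgroup Γ) (v : W), v ∈ cm W Y → g • v ∈ cm W (cj g Y) := by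
    intro g Y v hv
    induction hv using AddSubgroup.closure_induction with
    | mem v hv =>
      obtain ⟨y, hy, w, rfl⟩ := hv
      refine AddSubgroup.subset_closure ⟨g * y * g⁻¹, mem_cj_of hy, g • w, ?_⟩
      rw [smul_sub, mul_smul, mul_smul, inv_smul_smul]
    | zero => rw [smul_zero]; exact zero_mem _
    | add a b _ _ ha hb => rw [smul_add]; exact add_mem ha hb
    | neg a _ ha => rw [smul_neg]; exact neg_mem ha
  refine ⟨fun h => ?_, fun h => ?_⟩
  · have h1 := key g⁻¹ _ _ h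
    rwa [FF.Basic.cj_inv_cj] at h1
  · have h1 := key g _ _ h
    rwa [smul_inv_smul] at h1

theorem mem_lT_cj {g : Γ} {v : W} : v ∈ lT W (cj g Y) (cj g T) ↔ g⁻¹ • v ∈ lT W Y T := by
  change v ∈ cm W (cj g Y) ∧ v ∈ fx W (cj g T) ↔ g⁻¹ • v ∈ cm W Y ∧ g⁻¹ • v ∈ fx W T
  rw [mem_cm_cj, FF.Basic.mem_fx_cj]

theorem mem_AT_cj {g x : Γ} : x ∈ AT W (cj g Y) (cj g T) ↔ g⁻¹ * x * g ∈ AT W Y T := by
  rw [mem_AT, mem_AT, mem_cj]
  refine and_congr_right fun _ => and_congr ?_ ?_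
  · constructor
    · intro h w
      have h1 := mem_lT_cj.1 (h (g • w))
      rwa [smul_sub, inv_smul_smul, ← mul_smul, ← mul_smul] at h1
    · intro h w
      have h1 := h (g⁻¹ • w)
      rw [mem_lT_cj, smul_sub]
      rwa [mul_smul, mul_smul, smul_inv_smul] at h1
  · constructor
    · intro h v hv
      have h1 := h (g • v) (mem_lT_cj.2 (by rwa [inv_smul_smul]))
      rw [mul_smul, mul_smul, h1, inv_smul_smul]
    · intro h v hv
      have h1 := h _ (mem_lT_cj.1 hv)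
      rw [mul_smul, mul_smul, smul_inv_smul] at h1
      exact smul_left_cancel g⁻¹ h1

theorem AT_cj (g : Γ) : AT W (cj g Y) (cj g T) = cj g (AT W Y T) := by
  ext x
  rw [mem_AT_cj, mem_cj]

theorem AT_sq (faith : ∀ g : Γ, (∀ w : W, g • w = w) → g = 1) (two : ∀ w : W, w + w = 0) {y : Γ}
    (hy : y ∈ AT W Y T) : y * y = 1 := by
  refine faith _ fun w => ?_
  have h1 := hy.2.2 _ (hy.2.1 w)
  have e : (y * y) • w = y • (y • w - w) + (y • w - w) + w := by rw [mul_smul, smul_sub]; abel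
  rw [e, h1, two, zero_add]

/-- a 2-group over a subgroup of odd index -/
theorem le_of_odd [Finite Γ] {T K Y : Subgroup Γ} (hK : IsPGroup 2 K) (hTK : T ≤ K) (hKY : K ≤ Y)
    (hT : ¬ 2 ∣ T.relIndex Y) : K ≤ T := by
  rw [← relIndex_eq_one]
  have h1 := relIndex_mul_relIndex T K Y hTK hKY
  have h2 : T.relIndex K ∣ Nat.card K := index_dvd_card _
  obtain ⟨k, hk⟩ := IsPGroup.iff_card.1 hK
  rw [hk] at h2
  obtain ⟨j, -, hj⟩ := (Nat.dvd_prime_pow Nat.prime_two).1 h2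
  rcases j with _ | j
  · rw [hj, pow_zero]
  · exfalso
    apply hT
    rw [← h1, hj, pow_succ]
    exact (Dvd.intro_left _ rfl : 2 ∣ 2 ^ j * 2).mul_right _

theorem AT_le [Finite Γ] (faith : ∀ g : Γ, (∀ w : W, g • w = w) → g = 1) (two : ∀ w : W, w + w = 0)
    (hT2 : IsPGroup 2 T) (hTY : T ≤ Y) (hTo : ¬ 2 ∣ T.relIndex Y) : AT W Y T ≤ T := by
  have h1 : IsPGroup 2 (AT W Y T) := FF.Basic.EA.isPGroup fun y hy => AT_sq faith two hy
  have h2 : T ≤ normalizer (AT W Y T : Set Γ) := by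
    intro t ht
    rw [← FF.Basic.cj_eq_iff_mem_normalizer, ← AT_cj, FF.Basic.cj_eq_self_of_mem ht,
      FF.Basic.cj_eq_self_of_mem (hTY ht)]
  have h3 : IsPGroup 2 (T ⊔ AT W Y T : Subgroup Γ) := IsPGroup.to_sup_of_normal_right' hT2 h1 h2
  exact le_sup_right.trans (le_of_odd h3 le_sup_left (sup_le hTY AT_Y) hTo)

/-! ### the module -/

section bridge

variable {A : Type w} [AddCommGroup A] [Finite A] [DistribMulAction Y A] [hI : IsIrr Y A]

theorem mem_lT [Finite W] (htv : AllTv Y A) (twoA : ∀ a : A, a + a = 0) (hcm : cm W Y = img Y A W)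
    (hTY : T ≤ Y) (hTo : ¬ 2 ∣ T.relIndex Y) {n : A} (hn0 : n ≠ 0) (hn : ∀ t : Y, (t : Γ) ∈ T → t • n = n) {v : W} :
    v ∈ lT W Y T ↔ ∃ f : HomY Y A W, v = (f : A →+ W) n := by
  constructor
  · rintro ⟨h1, h2⟩
    replace h1 : v ∈ cm W Y := h1
    rw [hcm] at h1
    exact exists_of_fix htv twoA (T := T.subgroupOf Y) hTo hn0 (fun t ht => hn t ht) h1 fun t ht => h2 (t : Γ) ht
  · rintro ⟨f, rfl⟩
    refine ⟨?_, fun t ht => ?_⟩
    · change _ ∈ cm W Y
      rw [hcm]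
      exact mem_img f n
    · have h1 := f.2 ⟨t, hTY ht⟩ n
      rw [hn ⟨t, hTY ht⟩ ht] at h1
      exact h1.symm

theorem eq_of_triv (faith : ∀ g : Γ, (∀ w : W, g • w = w) → g = 1)
    (hsp : ∀ w : W, ∃ c ∈ cm W Y, ∀ y ∈ Y, y • (w - c) = w - c) {y : Γ} (hy : y ∈ Y)
    (h : ∀ v ∈ cm W Y, y • v = v) : y = 1 := by
  refine faith _ fun w => ?_
  obtain ⟨c, hc, h1⟩ := hsp w
  have e : y • w = y • c + y • (w - c) := by rw [← smul_add]; congr 1; abel
  rw [e, h c hc, h1 y hy]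
  abel

/-- `[·, y]` -/
def dd (W : Type v) [AddCommGroup W] [DistribMulAction Γ W] (y : Γ) : W →+ W :=
  DistribSMul.toAddMonoidHom W y - AddMonoidHom.id W

theorem dd_apply (y : Γ) (w : W) : dd W y w = y • w - w := rfl

theorem map_img (hcm : cm W Y = img Y A W) {N : AddSubgroup W} (D : W →+ W)
    (h : ∀ (f : HomY Y A W) (a : A), D ((f : A →+ W) a) ∈ N) : ∀ v ∈ cm W Y, D v ∈ N := by
  intro v hv
  rw [hcm] at hv
  have h1 : img Y A W ≤ N.comap D := (AddSubgroup.closure_le _).2 (by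
    rintro _ ⟨f, a, rfl⟩
    exact h f a)
  exact h1 hv

theorem dd_f (y : Y) (f : HomY Y A W) (a : A) : dd W (y : Γ) ((f : A →+ W) a) = (f : A →+ W) (y • a - a) := by
  rw [dd_apply, map_sub, f.2 y a]
  rfl

theorem faithA (faith : ∀ g : Γ, (∀ w : W, g • w = w) → g = 1)
    (hsp : ∀ w : W, ∃ c ∈ cm W Y, ∀ y ∈ Y, y • (w - c) = w - c) (hcm : cm W Y = img Y A W) (y : Y)
    (h : ∀ a : A, y • a = a) : y = 1 := by
  apply Subtype.ext
  refine eq_of_triv faith hsp y.2 fun v hv => ?_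
  have h1 := map_img hcm (N := ⊥) (dd W (y : Γ)) (fun f a => by
    rw [dd_f, h a, sub_self, map_zero]; exact zero_mem _) v hv
  exact sub_eq_zero.1 (AddSubgroup.mem_bot.1 h1)

theorem mem_AT_iff [Finite W] (htv : AllTv Y A) (twoA : ∀ a : A, a + a = 0) (hcm : cm W Y = img Y A W)
    (hne : ∃ f : HomY Y A W, f ≠ 0) (hsp : ∀ w : W, ∃ c ∈ cm W Y, ∀ y ∈ Y, y • (w - c) = w - c)
    (hTY : T ≤ Y) (hTo : ¬ 2 ∣ T.relIndex Y) {n : A} (hn0 : n ≠ 0) (hn : ∀ t : Y, (t : Γ) ∈ T → t • n = n) {y : Y} :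
    (y : Γ) ∈ AT W Y T ↔ ∃ φ : Module.Dual (KK Y A) A, φ n = 0 ∧ IsTv y φ n := by
  have hl : ∀ {v : W}, v ∈ lT W Y T ↔ ∃ f : HomY Y A W, v = (f : A →+ W) n :=
    mem_lT htv twoA hcm hTY hTo hn0 hn
  constructor
  · rintro ⟨-, h1, h2⟩
    obtain ⟨f, hf⟩ := hne
    have hfi := HomY.inj hf
    -- `y x - x ∈ K n`
    have h3 : ∀ x : A, ∃ κ : KK Y A, y • x - x = κ • n := by
      intro x
      have h4 := h1 ((f : A →+ W) x)
      have h5 : (y : Γ) • (f : A →+ W) x - (f : A →+ W) x = (f : A →+ W) (y • x - x) := by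
        rw [map_sub, f.2 y x]; rfl
      rw [h5] at h4
      obtain ⟨g, hg⟩ := hl.1 h4
      by_cases h0 : y • x - x = 0
      · exact ⟨0, by rw [h0, zero_smul]⟩
      obtain ⟨κ, hκ⟩ := HomY.fact hg h0
      have hg0 : g ≠ 0 := by
        rintro rfl
        rw [smul_zero] at hκ
        exact hf hκ
      rw [hκ, HomY.smul_apply] at hg
      have h6 := HomY.inj hg0 hg
      have hκ0 : κ ≠ 0 := by
        rintro rfl
        rw [zero_smul] at h6
        exact hn0 h6.symm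
      exact ⟨κ⁻¹, by rw [← h6, smul_smul, inv_mul_cancel₀ hκ0, one_smul]⟩
    -- `ψ n = 1`
    obtain ⟨ψ, hψ, -⟩ := exists_dual (Y := Y) (A := A) (X := ⊥) (a := n)
      (fun h => hn0 ((Submodule.mem_bot _).1 h))
    refine ⟨ψ.comp (lin y - LinearMap.id), ?_, fun x => ?_⟩
    · have h4 : y • n = n := by
        have h5 := h2 _ (hl.2 ⟨f, rfl⟩)
        exact hfi ((f.2 y n).trans h5)
      rw [LinearMap.comp_apply, LinearMap.sub_apply, lin_apply, LinearMap.id_apply, h4, sub_self, map_zero]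
    · obtain ⟨κ, hκ⟩ := h3 x
      rw [LinearMap.comp_apply, LinearMap.sub_apply, lin_apply, LinearMap.id_apply, hκ, map_smul, hψ, smul_eq_mul,
        mul_one, ← hκ]
      abel
  · rintro ⟨φ, h0, h⟩
    refine ⟨y.2, ?_, fun v hv => ?_⟩
    · intro w
      obtain ⟨c, hc, h1⟩ := hsp w
      have e : (y : Γ) • w - w = (y : Γ) • c - c := by
        have h2 := h1 y y.2
        rw [smul_sub] at h2
        have h3 : (y : Γ) • w - w - ((y : Γ) • c - c) = ((y : Γ) • w - (y : Γ) • c) - (w - c) := by abel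
        rw [← sub_eq_zero, h3, h2, sub_self]
      rw [e]
      refine map_img hcm (N := lT W Y T) (dd W (y : Γ)) (fun f a => ?_) c hc
      rw [dd_f, h a, add_sub_cancel_left]
      exact hl.2 ⟨φ a • f, (HomY.smul_apply _ _ _).symm⟩
    · obtain ⟨f, rfl⟩ := hl.1 hv
      have h1 := f.2 y n
      rw [h n, h0, zero_smul, add_zero] at h1
      exact h1.symm

end bridge

/-! ### one block -/

/-- `Y` moves `[W, Y]` -/
theorem exists_move (B : IsBlk W Y) : ∃ y ∈ Y, ∃ v ∈ cm W Y, y • v ≠ v := by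
  obtain ⟨A, i1, i2, i3, i4, htv, twoA, hcm, hA, hE⟩ := B.ex
  obtain ⟨a, ha⟩ := i4.ne
  have h1 : ∃ b : A, b ∉ Submodule.span (KK Y A) ({a} : Set A) := by
    by_contra hcon
    push Not at hcon
    have h2 := finrank_le_one a fun w => Submodule.mem_span_singleton.1 (hcon w)
    omega
  obtain ⟨b, hb⟩ := h1
  obtain ⟨χ, hχ1, hχ2⟩ := exists_dual hb
  obtain ⟨y, hy⟩ := htv χ a (hχ2 a (Submodule.mem_span_singleton_self a))
  have hne : ∃ f : HomY Y A W, f ≠ 0 := by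
    by_contra hcon
    push Not at hcon
    have : Subsingleton (HomY Y A W) := ⟨fun a b => by rw [hcon a, hcon b]⟩
    rw [Module.finrank_zero_of_subsingleton] at hE
    omega
  obtain ⟨f, hf⟩ := hne
  refine ⟨y, y.2, (f : A →+ W) b, by rw [hcm]; exact mem_img f b, fun h => ?_⟩
  have h3 := (f.2 y b).trans h
  have h4 := HomY.inj hf h3
  rw [hy b, hχ1, one_smul] at h4
  exact ha (add_eq_left.1 h4)

/-- One block, faithful, split. -/
structure One (W : Type v) [AddCommGroup W] [DistribMulAction Γ W] (Y : Subgroup Γ) : Prop where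
  blk : IsBlk W Y
  faith : ∀ g : Γ, (∀ w : W, g • w = w) → g = 1
  two : ∀ w : W, w + w = 0
  sp : ∀ w : W, ∃ c ∈ cm W Y, ∀ y ∈ Y, y • (w - c) = w - c

/-- `T ≤ Y` is a Sylow 2-subgroup -/
structure Syl (Y T : Subgroup Γ) : Prop where
  le : T ≤ Y
  two : IsPGroup 2 T
  odd : ¬ 2 ∣ T.relIndex Y

theorem exists_n (hT : Syl Y T) {A : Type w} [AddCommGroup A] [Finite A] [DistribMulAction Y A] [hI : IsIrr Y A]
    (twoA : ∀ a : A, a + a = 0) : ∃ n : A, n ≠ 0 ∧ ∀ t : Y, (t : Γ) ∈ T → t • n = n := by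
  obtain ⟨n, -, hn0, hn⟩ := exists_fix (V := A) (H := Y) (S := T.subgroupOf Y)
    (hT.two.comap_of_injective Y.subtype Y.subtype_injective) twoA (A := ⊤) (fun _ _ _ _ => trivial) (by
      intro h
      obtain ⟨a, ha⟩ := hI.ne
      have : a ∈ (⊤ : AddSubgroup A) := trivial
      rw [h] at this
      exact ha this)
  exact ⟨n, hn0, fun t ht => hn t ht⟩

namespace One

variable (B : One W Y)
include B

/-- (F1) -/
theorem AT_le [Finite Γ] (hT : Syl Y T) : AT W Y T ≤ T := Node.AT_le B.faith B.two hT.two hT.le hT.odd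

theorem eq_one {y : Γ} (hy : y ∈ Y) (h : ∀ v ∈ cm W Y, y • v = v) : y = 1 := eq_of_triv B.faith B.sp hy h

/-- (F2) -/
theorem lT_le [Finite W] (hT : Syl Y T) (hT' : Syl Y T') (hAT : AT W Y T' ≤ T) : lT W Y T' ≤ lT W Y T := by
  obtain ⟨A, i1, i2, i3, i4, htv, twoA, hcm, -, hE⟩ := B.blk.ex
  obtain ⟨n, hn0, hn⟩ := exists_n hT twoA
  obtain ⟨m, hm0, hm⟩ := exists_n hT' twoA
  have hne : ∃ f : HomY Y A W, f ≠ 0 := by
    by_contra hcon
    push Not at hcon
    have : Subsingleton (HomY Y A W) := ⟨fun a b => by rw [hcon a, hcon b]⟩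
    rw [Module.finrank_zero_of_subsingleton] at hE
    omega
  have hlT : ∀ {v : W}, v ∈ lT W Y T ↔ ∃ f : HomY Y A W, v = (f : A →+ W) n :=
    mem_lT htv twoA hcm hT.le hT.odd hn0 hn
  have hlT' : ∀ {v : W}, v ∈ lT W Y T' ↔ ∃ f : HomY Y A W, v = (f : A →+ W) m :=
    mem_lT htv twoA hcm hT'.le hT'.odd hm0 hm
  by_cases h : n ∈ Submodule.span (KK Y A) ({m} : Set A)
  · obtain ⟨κ, hκ⟩ := Submodule.mem_span_singleton.1 h
    have hκ0 : κ ≠ 0 := by
      rintro rfl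
      rw [zero_smul] at hκ
      exact hn0 hκ.symm
    intro v hv
    obtain ⟨f, rfl⟩ := hlT'.1 hv
    refine hlT.2 ⟨κ⁻¹ • f, ?_⟩
    rw [HomY.smul_apply, ← hκ, smul_smul, inv_mul_cancel₀ hκ0, one_smul]
  · exfalso
    obtain ⟨χ, hχ1, hχ2⟩ := exists_dual h
    have hχm : χ m = 0 := hχ2 m (Submodule.mem_span_singleton_self m)
    obtain ⟨y, hy⟩ := htv χ m hχm
    have h1 : (y : Γ) ∈ AT W Y T' :=
      (mem_AT_iff htv twoA hcm hne B.sp hT'.le hT'.odd hm0 hm).2 ⟨χ, hχm, hy⟩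
    have h2 := hn y (hAT h1)
    rw [hy n, hχ1, one_smul] at h2
    exact hm0 (add_eq_left.1 h2)

/-- (F3) -/
theorem AT_le_of [Finite Γ] [Finite W] (hT : Syl Y T) (hT' : Syl Y T') (hTP : T ≤ P) (hTJ : T ≤ J)
    (hP : AT W Y T' ≤ P) (hJ1 : ∀ y ∈ Y, y ∈ P → (∀ v ∈ lT W Y T, y • v = v) → y ∈ J)
    (hJ2 : ∀ y ∈ Y, y ∈ P → (∀ (w : W), ∀ t ∈ T, t • (y • w - w) - (y • w - w) ∈ lT W Y T) → y ∈ J) :
    AT W Y T' ≤ J := by
  obtain ⟨A, i1, i2, i3, i4, htv, twoA, hcm, -, hE⟩ := B.blk.ex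
  obtain ⟨n, hn0, hn⟩ := exists_n hT twoA
  obtain ⟨m, hm0, hm⟩ := exists_n hT' twoA
  have hne : ∃ f : HomY Y A W, f ≠ 0 := by
    by_contra hcon
    push Not at hcon
    have : Subsingleton (HomY Y A W) := ⟨fun a b => by rw [hcon a, hcon b]⟩
    rw [Module.finrank_zero_of_subsingleton] at hE
    omega
  have hlT : ∀ {v : W}, v ∈ lT W Y T ↔ ∃ f : HomY Y A W, v = (f : A →+ W) n :=
    mem_lT htv twoA hcm hT.le hT.odd hn0 hn
  have hf : ∀ y : Y, (∀ a : A, y • a = a) → y = 1 := faithA B.faith B.sp hcm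
  have key := tv_mem (P := P.subgroupOf Y) (J := J.subgroupOf Y) (T := T.subgroupOf Y) htv twoA hf
    (hT.two.comap_of_injective Y.subtype Y.subtype_injective) (fun t ht => hTP ht) (n := n) (fun t ht => hn t ht)
    (fun y φ h0 h => B.AT_le hT ((mem_AT_iff htv twoA hcm hne B.sp hT.le hT.odd hn0 hn).2 ⟨φ, h0, h⟩))
    (fun t ht => hTJ ht)
    (fun y hy h => hJ1 y y.2 hy fun v hv => by
      obtain ⟨f, rfl⟩ := hlT.1 hv
      have h1 := f.2 y n
      rw [h] at h1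
      exact h1.symm)
    (fun y hy h => hJ2 y y.2 hy fun w t ht => by
      obtain ⟨c, hc, h1⟩ := B.sp w
      have e : (y : Γ) • w - w = (y : Γ) • c - c := by
        have h2 := h1 y y.2
        rw [smul_sub] at h2
        have h3 : (y : Γ) • w - w - ((y : Γ) • c - c) = ((y : Γ) • w - (y : Γ) • c) - (w - c) := by abel
        rw [← sub_eq_zero, h3, h2, sub_self]
      rw [e]
      refine map_img hcm (N := lT W Y T) ((dd W t).comp (dd W (y : Γ))) (fun f a => ?_) c hc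
      rw [AddMonoidHom.comp_apply, dd_f]
      obtain ⟨κ, hκ⟩ := h a ⟨t, hT.le ht⟩ ht
      rw [dd_f (⟨t, hT.le ht⟩ : Y), hκ]
      exact hlT.2 ⟨κ • f, (HomY.smul_apply _ _ _).symm⟩)
    (m := m)
    (fun y φ h0 h => hP ((mem_AT_iff htv twoA hcm hne B.sp hT'.le hT'.odd hm0 hm).2 ⟨φ, h0, h⟩))
  intro y hy
  obtain ⟨φ, h0, h⟩ := (mem_AT_iff htv twoA hcm hne B.sp hT'.le hT'.odd hm0 hm (y := ⟨y, AT_Y hy⟩)).1 hy
  exact key _ φ h0 h

end One

end Cfsg.Agent.Omega.NO3b.BasePt.Node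

end

section


/-!
# The second term of one block `A ⊗ E` (#22497 (d), (e))

`Y` irreducible on `A`, `K = End_Y(A)`, `Y` induces all transvections of `A`, `T` Sylow in `Y`, `dim A ≥ 2`.

* `exists_two` : `n, a ∈ A`, `C_A(T) = K n`, `{b : [b, T] ≤ K n} = K n + K a`;
* `blk_elt` : `{w ∈ A ⊗ E : [w, T] ≤ C(T)} = n ⊗ E + a ⊗ E`;
* `blk_free` : `t ∈ T` moves a vector of it: then `t` fixes in it only the vectors which are fixed by `T`;
* `blk_card` : `|T : C_T(a)|² ≤ |E|` if `dim E ≥ 2`.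
-/

set_option autoImplicit false

namespace Cfsg.Agent.Omega.NO3b.BasePt.VTwo

open Subgroup Cfsg.Agent.Omega.NO3b.Exit.Ten
open Cfsg.Agent.Omega.NO3b.Exit.Descent (AllTv img mem_img fix_line exists_coord exists_of_fix)
open Cfsg.Agent.Omega.FF.Basic (fx mem_fx)

universe u v w

section one

variable {Y : Type u} {A : Type v} [Group Y] [AddCommGroup A] [DistribMulAction Y A] [Finite A] [hI : IsIrr Y A]

/-- **`n` and `a`.** -/
theorem exists_two (htv : AllTv Y A) (two : ∀ a : A, a + a = 0) {T : Subgroup Y} (hT2 : IsPGroup 2 T)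
    (hT : ¬ 2 ∣ T.index) (hd : 2 ≤ Module.finrank (KK Y A) A) :
    ∃ n a : A, n ≠ 0 ∧ (∀ t ∈ T, t • n = n) ∧ (∀ κ : KK Y A, a ≠ κ • n) ∧
      (∀ t ∈ T, ∃ κ : KK Y A, t • a = a + κ • n) ∧
      ∀ b : A, (∀ t ∈ T, ∃ κ : KK Y A, t • b = b + κ • n) → ∃ κ κ' : KK Y A, b = κ • n + κ' • a := by
  classical
  obtain ⟨a₀, ha₀⟩ := hI.ne
  obtain ⟨n, -, hn0, hn⟩ := Cfsg.Agent.Omega.FF.Basic.exists_fixed (V := A) hT2 (H := ⊤) (K := ⊥) two
    (fun t _ v hv => by rw [AddSubgroup.mem_bot] at hv ⊢; rw [hv, smul_zero]) (fun _ _ _ _ => trivial) bot_le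
    (fun h => ha₀ (h (AddSubgroup.mem_top a₀)))
  rw [AddSubgroup.mem_bot] at hn0
  have hn' : ∀ t ∈ T, t • n = n := fun t ht => sub_eq_zero.1 (AddSubgroup.mem_bot.1 (hn t ht))
  -- `N₁ = K n`
  let N₁ : AddSubgroup A := (Submodule.span (KK Y A) ({n} : Set A)).toAddSubgroup
  have hN₁ : ∀ x : A, x ∈ N₁ ↔ ∃ κ : KK Y A, κ • n = x := fun x => Submodule.mem_span_singleton
  have hK₁ : ∀ (κ : KK Y A) (x : A), x ∈ N₁ → κ • x ∈ N₁ := fun κ x hx => Submodule.smul_mem _ κ hx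
  have hT₁ : ∀ t ∈ T, ∀ x ∈ N₁, t • x ∈ N₁ := by
    intro t ht x hx
    obtain ⟨κ, rfl⟩ := (hN₁ x).1 hx
    rw [← KK.smul_smul_comm, hn' t ht]
    exact hx
  have hne : ¬ (⊤ : AddSubgroup A) ≤ N₁ := by
    intro h
    have h1 : Submodule.span (KK Y A) ({n} : Set A) = ⊤ := by
      rw [eq_top_iff]
      intro x _
      exact h (AddSubgroup.mem_top x)
    have h2 := finrank_span_singleton (K := KK Y A) hn0
    rw [h1, finrank_top] at h2
    omega
  obtain ⟨a, -, haN, ha⟩ := Cfsg.Agent.Omega.FF.Basic.exists_fixed (V := A) hT2 (H := ⊤) (K := N₁) two hT₁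
    (fun _ _ _ _ => trivial) le_top hne
  refine ⟨n, a, hn0, hn', fun κ h => haN ((hN₁ a).2 ⟨κ, h.symm⟩), ?_, ?_⟩
  · intro t ht
    obtain ⟨κ, hκ⟩ := (hN₁ _).1 (ha t ht)
    exact ⟨κ, by rw [hκ]; abel⟩
  · intro b hb
    by_contra hcon
    push Not at hcon
    -- `N₂`
    let N₂ : AddSubgroup A :=
      { carrier := {x | ∀ t ∈ T, t • x - x ∈ N₁}
        zero_mem' := fun t _ => by rw [smul_zero, sub_zero]; exact N₁.zero_mem
        add_mem' := fun {x y} hx hy t ht => by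
          have e : t • (x + y) - (x + y) = (t • x - x) + (t • y - y) := by rw [smul_add]; abel
          rw [e]; exact N₁.add_mem (hx t ht) (hy t ht)
        neg_mem' := fun {x} hx t ht => by
          have e : t • -x - -x = -(t • x - x) := by rw [smul_neg]; abel
          rw [e]; exact N₁.neg_mem (hx t ht) }
    have hbN : b ∈ N₂ := by
      intro t ht
      obtain ⟨κ, hκ⟩ := hb t ht
      rw [hκ, add_sub_cancel_left]
      exact (hN₁ _).2 ⟨κ, rfl⟩
    have haN₂ : ∀ κ : KK Y A, κ • a ∈ N₂ := by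
      intro κ t ht
      have e : t • κ • a - κ • a = κ • (t • a - a) := by rw [← KK.smul_smul_comm, smul_sub]
      rw [e]
      exact hK₁ κ _ (ha t ht)
    -- the parabolic subgroup
    let Q : Subgroup Y :=
      { carrier := {y | (∀ x, x ∈ N₁ ↔ y • x ∈ N₁) ∧ ∀ x, x ∈ N₂ ↔ y • x ∈ N₂}
        one_mem' := ⟨fun x => by rw [one_smul], fun x => by rw [one_smul]⟩
        mul_mem' := fun {y z} hy hz => ⟨fun x => by rw [mul_smul, hz.1, hy.1], fun x => by
          rw [mul_smul, hz.2, hy.2]⟩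
        inv_mem' := fun {y} hy => ⟨fun x => by rw [hy.1 (y⁻¹ • x), smul_inv_smul], fun x => by
          rw [hy.2 (y⁻¹ • x), smul_inv_smul]⟩ }
    let R : Subgroup Y :=
      { carrier := {y | y ∈ Q ∧ ∀ x ∈ N₂, y • x - x ∈ N₁}
        one_mem' := ⟨Q.one_mem, fun x _ => by rw [one_smul, sub_self]; exact N₁.zero_mem⟩
        mul_mem' := fun {y z} hy hz => ⟨Q.mul_mem hy.1 hz.1, fun x hx => by
          have e : (y * z) • x - x = y • (z • x - x) + (y • x - x) := by rw [mul_smul, smul_sub]; abel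
          rw [e]; exact N₁.add_mem ((hy.1.1 _).1 (hz.2 x hx)) (hy.2 x hx)⟩
        inv_mem' := fun {y} hy => ⟨Q.inv_mem hy.1, fun x hx => by
          have e : y⁻¹ • x - x = -(y • (y⁻¹ • x) - y⁻¹ • x) := by rw [smul_inv_smul]; abel
          rw [e]
          exact N₁.neg_mem (hy.2 _ ((hy.1.2 _).2 (by rw [smul_inv_smul]; exact hx)))⟩ }
    have hRQ : R ≤ Q := fun y hy => hy.1
    have hTR : T ≤ R := by
      intro t ht
      have h1 : ∀ x, x ∈ N₁ ↔ t • x ∈ N₁ := fun x => ⟨fun hx => hT₁ t ht x hx, fun hx => by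
        have := hT₁ t⁻¹ (T.inv_mem ht) _ hx
        rwa [inv_smul_smul] at this⟩
      have h2 : ∀ s ∈ T, ∀ x ∈ N₂, s • x ∈ N₂ := by
        intro s hs x hx
        have e : s • x = (s • x - x) + x := by abel
        rw [e]
        refine N₂.add_mem (fun r hr => ?_) hx
        have h3 := hx s hs
        exact N₁.sub_mem (hT₁ r hr _ h3) h3
      refine ⟨⟨h1, fun x => ⟨fun hx => h2 t ht x hx, fun hx => ?_⟩⟩, fun x hx => hx t ht⟩
      have := h2 t⁻¹ (T.inv_mem ht) _ hx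
      rwa [inv_smul_smul] at this
    have hodd : ¬ 2 ∣ R.relIndex Q := by
      intro h2
      apply hT
      have h3 := relIndex_mul_relIndex T R Q hTR hRQ
      have h4 := relIndex_mul_index (hTR.trans hRQ)
      exact (h2.trans (Dvd.intro_left _ h3)).trans (Dvd.intro _ h4)
    have hnorm : ∀ q ∈ Q, ∀ k ∈ R, q * k * q⁻¹ ∈ R := by
      intro q hq k hk
      refine ⟨Q.mul_mem (Q.mul_mem hq hk.1) (Q.inv_mem hq), fun x hx => ?_⟩
      have e : (q * k * q⁻¹) • x - x = q • (k • (q⁻¹ • x) - q⁻¹ • x) := by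
        rw [smul_sub, smul_inv_smul, mul_smul, mul_smul]
      rw [e]
      exact (hq.1 _).1 (hk.2 _ ((hq.2 _).2 (by rw [smul_inv_smul]; exact hx)))
    -- the transvection
    have hbs : b ∉ Submodule.span (KK Y A) ({n, a} : Set A) := by
      intro h
      obtain ⟨κ, κ', h1⟩ := Submodule.mem_span_pair.1 h
      exact hcon κ κ' h1.symm
    obtain ⟨φ, hφ1, hφ2⟩ := Submodule.exists_dual_map_eq_bot_of_notMem hbs inferInstance
    have hφ0 : ∀ x ∈ Submodule.span (KK Y A) ({n, a} : Set A), φ x = 0 := by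
      intro x hx
      have h : φ x ∈ (Submodule.span (KK Y A) ({n, a} : Set A)).map φ := ⟨x, hx, rfl⟩
      rw [hφ2, Submodule.mem_bot] at h
      exact h
    have hφn : φ n = 0 := hφ0 n (Submodule.subset_span (by simp))
    have hφa : φ a = 0 := hφ0 a (Submodule.subset_span (by simp))
    obtain ⟨k, hk⟩ := htv φ a hφa
    have hkk : ∀ x : A, k • k • x = x := by
      intro x
      rw [hk, hk, map_add, map_smul, hφa, smul_zero, add_zero, add_assoc, two, add_zero]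
    have hkQ : k ∈ Q := by
      have h1 : ∀ x ∈ N₁, k • x = x := by
        intro x hx
        obtain ⟨κ, rfl⟩ := (hN₁ x).1 hx
        rw [hk, map_smul, hφn, smul_zero, zero_smul, add_zero]
      have h2 : ∀ x ∈ N₂, k • x ∈ N₂ := by
        intro x hx
        rw [hk]
        exact N₂.add_mem hx (haN₂ _)
      refine ⟨fun x => ⟨fun hx => by rw [h1 x hx]; exact hx, fun hx => ?_⟩, fun x => ⟨h2 x, fun hx => ?_⟩⟩
      · have := h1 _ hx
        rw [hkk] at this
        rw [this]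
        exact hx
      · have := h2 _ hx
        rwa [hkk] at this
    -- `k` acts as an involution: `k * k` acts trivially, so it lies in `R`
    have hk2R : k * k ∈ R := by
      refine ⟨Q.mul_mem hkQ hkQ, fun x _ => ?_⟩
      rw [mul_smul, hkk, sub_self]
      exact N₁.zero_mem
    have hkR : k ∈ R := by
      have hN : (R.subgroupOf Q).Normal := ⟨fun a ha b => hnorm b b.2 a ha⟩
      by_contra hc
      apply hodd
      have h3 : orderOf (QuotientGroup.mk ⟨k, hkQ⟩ : Q ⧸ R.subgroupOf Q) = 2 := by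
        refine orderOf_eq_prime ?_ fun h0 => hc ((QuotientGroup.eq_one_iff (⟨k, hkQ⟩ : Q)).1 h0)
        rw [← QuotientGroup.mk_pow, QuotientGroup.eq_one_iff, pow_two]
        exact hk2R
      rw [← h3, relIndex, index_eq_card]
      exact orderOf_dvd_natCard _
    have h5 := hkR.2 b hbN
    rw [hk, add_sub_cancel_left] at h5
    apply haN
    have h6 := hK₁ (φ b)⁻¹ _ h5
    rwa [smul_smul, inv_mul_cancel₀ hφ1, one_smul] at h6

/-! ### `A ⊗ E` -/

section img

variable {U : Type w} [AddCommGroup U] [DistribMulAction Y U] [Finite U] {n a : A}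

/-- **`{w ∈ A ⊗ E : [w, T] ≤ C(T)} = n ⊗ E + a ⊗ E`** -/
theorem blk_elt (htv : AllTv Y A) (two : ∀ a : A, a + a = 0) {T : Subgroup Y} (hT : ¬ 2 ∣ T.index) (hn0 : n ≠ 0)
    (hn : ∀ t ∈ T, t • n = n)
    (hN : ∀ b : A, (∀ t ∈ T, ∃ κ : KK Y A, t • b = b + κ • n) → ∃ κ κ' : KK Y A, b = κ • n + κ' • a)
    {w : U} (hw : w ∈ img Y A U) (hwT : ∀ t ∈ T, ∀ s ∈ T, s • (t • w - w) = t • w - w) :
    ∃ f g : HomY Y A U, w = (f : A →+ U) n + (g : A →+ U) a := by
  obtain ⟨d, f, hf, hco⟩ := exists_coord (Y := Y) (A := A) (U := U)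
  obtain ⟨c, rfl⟩ := hco w hw
  have h1 : ∀ t ∈ T, ∀ i, ∃ κ : KK Y A, t • c i = c i + κ • n := by
    intro t ht i
    have h2 : ∀ s ∈ T, s • (t • c i - c i) = t • c i - c i := by
      intro s hs
      have h2 := hwT t ht s hs
      have e : t • ∑ i, (f i : A →+ U) (c i) - ∑ i, (f i : A →+ U) (c i) =
          ∑ i, (f i : A →+ U) (t • c i - c i) := by
        rw [Finset.smul_sum, ← Finset.sum_sub_distrib]
        exact Finset.sum_congr rfl fun i _ => by rw [map_sub, (f i).2]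
      rw [e, Finset.smul_sum] at h2
      have h3 := HomY.ind hf Finset.univ (fun i => s • (t • c i - c i) - (t • c i - c i)) (by
        rw [← sub_eq_zero.2 h2, ← Finset.sum_sub_distrib]
        exact Finset.sum_congr rfl fun i _ => by rw [map_sub, (f i).2]) i (Finset.mem_univ _)
      exact sub_eq_zero.1 h3
    obtain ⟨κ, hκ⟩ := fix_line htv two hT hn0 hn h2
    exact ⟨κ, by rw [← hκ]; abel⟩
  choose κ κ' hκ using fun i => hN (c i) fun t ht => h1 t ht i
  refine ⟨∑ i, κ i • f i, ∑ i, κ' i • f i, ?_⟩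
  rw [AddSubgroup.val_finsetSum, AddSubgroup.val_finsetSum, AddMonoidHom.finsetSum_apply,
    AddMonoidHom.finsetSum_apply, ← Finset.sum_add_distrib]
  exact Finset.sum_congr rfl fun i _ => by
    rw [HomY.smul_apply, HomY.smul_apply, ← map_add, ← hκ]

omit [Finite U] in
/-- `t` moves `a`: only `n ⊗ E` is fixed by `t` -/
theorem blk_free {t : Y} (htn : t • n = n) {κ : KK Y A} (hta : t • a = a + κ • n) {f g : HomY Y A U}
    (h : t • ((f : A →+ U) n + (g : A →+ U) a) = (f : A →+ U) n + (g : A →+ U) a) : g = 0 ∨ t • a = a := by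
  rw [smul_add, ← f.2, ← g.2, htn, hta, map_add, ← add_assoc] at h
  have h1 : (g : A →+ U) (κ • n) = 0 := add_eq_left.1 h
  by_cases h2 : κ • n = 0
  · right; rw [hta, h2, add_zero]
  · left; exact HomY.eq_zero h1 h2

/-- `|T : C_T(a)|² ≤ |E|` -/
theorem blk_card [Finite Y] {T : Subgroup Y} (hT : ∀ t ∈ T, ∃ κ : KK Y A, t • a = a + κ • n)
    (hd : 2 ≤ Module.finrank (KK Y A) (HomY Y A U)) :
    (MulAction.stabilizer Y a).relIndex T ^ 2 ≤ Nat.card (HomY Y A U) := by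
  classical
  have hfin : Finite (KK Y A) := Finite.of_injective (fun κ : KK Y A => ((κ.1 : AddMonoid.End A) : A → A))
    fun κ κ' h => Subtype.ext (DFunLike.coe_injective h)
  have h1 : (MulAction.stabilizer Y a).relIndex T ≤ Nat.card (KK Y A) := by
    choose! κ hκ using hT
    rw [relIndex, index_eq_card]
    refine Nat.card_le_card_of_injective (fun q : T ⧸ (MulAction.stabilizer Y a).subgroupOf T =>
      κ ((q.out : T) : Y)) ?_
    intro q q' h
    have h2 : κ ((q.out : T) : Y) = κ ((q'.out : T) : Y) := h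
    have h3 : ((q.out : T) : Y) • a = ((q'.out : T) : Y) • a := by
      rw [hκ _ q.out.2, hκ _ q'.out.2, h2]
    have h4 : ((q.out : T) : Y)⁻¹ * ((q'.out : T) : Y) ∈ MulAction.stabilizer Y a := by
      rw [MulAction.mem_stabilizer_iff, mul_smul, ← h3, inv_smul_smul]
    have h5 : (QuotientGroup.mk q.out : T ⧸ (MulAction.stabilizer Y a).subgroupOf T) = QuotientGroup.mk q'.out :=
      QuotientGroup.eq.2 h4
    rwa [QuotientGroup.out_eq', QuotientGroup.out_eq'] at h5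
  have hfin3 : Module.Finite (KK Y A) (HomY Y A U) := Module.Finite.of_finite
  have h2 : Nat.card (HomY Y A U) = Nat.card (KK Y A) ^ Module.finrank (KK Y A) (HomY Y A U) :=
    Module.natCard_eq_pow_finrank
  rw [h2]
  calc (MulAction.stabilizer Y a).relIndex T ^ 2 ≤ Nat.card (KK Y A) ^ 2 := Nat.pow_le_pow_left h1 2
    _ ≤ _ := Nat.pow_le_pow_right Nat.card_pos hd

end img

end one

end Cfsg.Agent.Omega.NO3b.BasePt.VTwo

end

section


/-!
# END5 (#23013) (2): a group moving `Z₁ = C_W(T ∩ RR)` and containing `C_RR(Z₁)` contains `RR`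

`Fam W M 𝒴` (helper957), `W = ⟨[W, Y]⟩ + C_W(RR)`, `T` a 2-group of odd index in every `Y ∈ 𝒴` (mod nothing:
`T ∩ Y` is a Sylow 2-subgroup of `Y`), transitive on `𝒴`, `T ≤ X`, `C_RR(Z₁) ≤ X`, some `x ∈ X ∩ RR` moves `Z₁`:
then `RR ≤ X` (`le_of_move`).
-/

set_option autoImplicit false

namespace Cfsg.Agent.Omega.NO3b.BasePt.MoveTop

open Subgroup
open Cfsg.Agent.Omega.NO3b.Exit Cfsg.Agent.Omega.NO3b.Exit.Ten Cfsg.Agent.Omega.NO3b.Exit.Descent
open Cfsg.Agent.Omega.FF.Basic (fx)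

universe u v

variable {Γ : Type u} [Group Γ] {W : Type v} [AddCommGroup W] [DistribMulAction Γ W] {M : Subgroup Γ}
  {𝒴 : Set (Subgroup Γ)}

theorem mem_fx' {A : Subgroup Γ} {w : W} : w ∈ fx W A ↔ ∀ a ∈ A, a • w = w := Iff.rfl

theorem br_mem {Y : Subgroup Γ} {y : Γ} (hy : y ∈ Y) (w : W) : y • w - w ∈ cm W Y :=
  AddSubgroup.subset_closure ⟨y, hy, w, rfl⟩

theorem smul_cm {Y : Subgroup Γ} {y : Γ} (hy : y ∈ Y) {w : W} (hw : w ∈ cm W Y) : y • w ∈ cm W Y := by
  have h := (cm W Y).add_mem (br_mem hy w) hw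
  rwa [sub_add_cancel] at h

/-- the sum of the `[W, Y]` -/
def sm' (W : Type v) [AddCommGroup W] [DistribMulAction Γ W] (𝒴 : Set (Subgroup Γ)) : AddSubgroup W :=
  AddSubgroup.closure {v | ∃ Y ∈ 𝒴, v ∈ cm W Y}

variable (Fa : Fam W M 𝒴)
include Fa

/-- `RR` acts on `[W, Y]` as `Y` does -/
theorem act_RR {Y : Subgroup Γ} (hY : Y ∈ 𝒴) {r : Γ} (hr : r ∈ RR 𝒴) : ∃ y ∈ Y, ∀ v ∈ cm W Y, r • v = y • v := by
  let N : Subgroup Γ :=
    { carrier := {r | ∃ y ∈ Y, ∀ v ∈ cm W Y, r • v = y • v}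
      one_mem' := ⟨1, Y.one_mem, fun _ _ => rfl⟩
      mul_mem' := by
        rintro a b ⟨y, hy, h1⟩ ⟨y', hy', h2⟩
        refine ⟨y * y', Y.mul_mem hy hy', fun v hv => ?_⟩
        rw [mul_smul, mul_smul, h2 v hv, h1 _ (smul_cm hy' hv)]
      inv_mem' := by
        rintro a ⟨y, hy, h1⟩
        refine ⟨y⁻¹, Y.inv_mem hy, fun v hv => ?_⟩
        rw [inv_smul_eq_iff, h1 _ (smul_cm (Y.inv_mem hy) hv), smul_inv_smul] }
  have h : RR 𝒴 ≤ N := by
    refine sSup_le fun Y' hY' y' hy' => ?_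
    by_cases e : Y' = Y
    · subst e
      exact ⟨y', hy', fun _ _ => rfl⟩
    · exact ⟨1, Y.one_mem, fun v hv => by rw [one_smul]; exact Fa.triv Y' hY' Y hY e y' hy' v hv⟩
  exact h hr

/-- `RR` normalises `C_W(Y)` -/
theorem smul_fx {Y : Subgroup Γ} (hY : Y ∈ 𝒴) {r : Γ} (hr : r ∈ RR 𝒴) {c : W} (hc : c ∈ fx W Y) :
    r • c ∈ fx W Y := by
  let N : Subgroup Γ :=
    { carrier := {r | ∀ c ∈ fx W Y, r • c ∈ fx W Y ∧ r⁻¹ • c ∈ fx W Y}
      one_mem' := fun c hc => by rw [inv_one, one_smul]; exact ⟨hc, hc⟩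
      mul_mem' := by
        intro a b ha hb c hc
        rw [mul_smul, mul_inv_rev, mul_smul]
        exact ⟨(ha _ (hb c hc).1).1, (hb _ (ha c hc).2).2⟩
      inv_mem' := by
        intro a ha c hc
        rw [inv_inv]
        exact ⟨(ha c hc).2, (ha c hc).1⟩ }
  have key : ∀ Y' ∈ 𝒴, ∀ y' ∈ Y', ∀ c ∈ fx W Y, y' • c ∈ fx W Y := by
    intro Y' hY' y' hy' c hc
    by_cases e : Y' = Y
    · subst e
      rw [hc y' hy']
      exact hc
    · have e1 : y' • c = (y' • c - c) + c := by abel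
      rw [e1]
      refine (fx W Y).add_mem (fun y hy => ?_) hc
      exact Fa.triv Y hY Y' hY' (fun h => e h.symm) y hy _ (br_mem hy' c)
  have h : RR 𝒴 ≤ N := sSup_le fun Y' hY' y' hy' c hc => ⟨key Y' hY' y' hy' c hc, key Y' hY' _ (Y'.inv_mem hy') c hc⟩
  exact (h hr c hc).1

omit Fa in
theorem br_sm {r : Γ} (hr : r ∈ RR 𝒴) (w : W) : r • w - w ∈ sm' W 𝒴 := by
  let N : Subgroup Γ :=
    { carrier := {r | ∀ w : W, r • w - w ∈ sm' W 𝒴}
      one_mem' := fun w => by rw [one_smul, sub_self]; exact zero_mem _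
      mul_mem' := by
        intro a b ha hb w
        have e : (a * b) • w - w = (a • b • w - b • w) + (b • w - w) := by rw [mul_smul]; abel
        rw [e]
        exact add_mem (ha _) (hb _)
      inv_mem' := by
        intro a ha w
        have h1 := ha (a⁻¹ • w)
        rw [smul_inv_smul] at h1
        have h2 := neg_mem h1
        rwa [neg_sub] at h2 }
  have h : RR 𝒴 ≤ N := by
    refine sSup_le fun Y' hY' y' hy' w => ?_
    exact AddSubgroup.subset_closure ⟨Y', hY', br_mem hy' w⟩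
  exact h hr w

theorem sm_le {Y : Subgroup Γ} (hY : Y ∈ 𝒴) : sm' W 𝒴 ≤ cm W Y ⊔ fx W Y := by
  refine (AddSubgroup.closure_le _).2 ?_
  rintro v ⟨Y', hY', hv⟩
  by_cases e : Y' = Y
  · subst e
    exact AddSubgroup.mem_sup_left hv
  · exact AddSubgroup.mem_sup_right fun y hy => Fa.triv Y hY Y' hY' (fun h => e h.symm) y hy v hv

variable (gas : ∀ w : W, ∃ a ∈ sm' W 𝒴, ∃ c : W, (∀ r ∈ RR 𝒴, r • c = c) ∧ w = a + c)
include gas

theorem dec {Y : Subgroup Γ} (hY : Y ∈ 𝒴) (w : W) : ∃ a ∈ cm W Y, ∃ c ∈ fx W Y, w = a + c := by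
  obtain ⟨a, ha, c, hc, rfl⟩ := gas w
  obtain ⟨a', ha', c', hc', rfl⟩ := AddSubgroup.mem_sup.1 (sm_le Fa hY ha)
  refine ⟨a', ha', c' + c, (fx W Y).add_mem hc' fun y hy => hc y (le_sSup hY hy), ?_⟩
  rw [add_assoc]

omit gas in
/-- `[W, Y] ∩ C_W(Y) = 0` -/
theorem eq_zero [Finite W] {Y : Subgroup Γ} (hY : Y ∈ 𝒴) {v : W} (hv : v ∈ cm W Y) (hv' : v ∈ fx W Y) : v = 0 := by
  obtain ⟨A, _, _, _, hI, htv, two, himg, hA2, -⟩ := (Fa.blk Y hY).ex
  rw [himg] at hv
  obtain ⟨d, f, hf, hco⟩ := exists_coord (Y := Y) (A := A) (U := W)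
  obtain ⟨a, rfl⟩ := hco v hv
  have h1 : ∀ (y : Y) (i : Fin d), y • a i = a i := by
    intro y i
    have h2 := hv' y y.2
    rw [Finset.smul_sum] at h2
    have h3 := HomY.ind hf Finset.univ (fun i => y • a i - a i) (by
      rw [← sub_eq_zero.2 h2, ← Finset.sum_sub_distrib]
      exact Finset.sum_congr rfl fun i _ => by rw [map_sub, (f i).2]; rfl) i (Finset.mem_univ _)
    exact sub_eq_zero.1 h3
  have h4 : ∀ i, a i = 0 := by
    intro i
    by_contra hne
    -- a vector independent of `a i`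
    have h5 : ∃ w : A, ∀ κ : KK Y A, w ≠ κ • a i := by
      by_contra hcon
      push Not at hcon
      have h6 : Module.finrank (KK Y A) A ≤ 1 := by
        refine finrank_le_one (a i) fun w => ?_
        obtain ⟨κ, hκ⟩ := hcon w
        exact ⟨κ, hκ.symm⟩
      omega
    obtain ⟨w, hw⟩ := h5
    obtain ⟨φ, h6, h7⟩ := TwoPts.exists_dual hne hw 1 1
    obtain ⟨y, hy⟩ := htv φ (w - a i) (by rw [map_sub, h6, h7, sub_self])
    have h8 := h1 y i
    rw [hy, h6, one_smul] at h8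
    apply hw 1
    rw [one_smul]
    have h9 : w - a i = 0 := by
      have h10 : a i + (w - a i) = a i + 0 := by rw [h8, add_zero]
      exact add_left_cancel h10
    exact sub_eq_zero.1 h9
  exact Finset.sum_eq_zero fun i _ => by rw [h4, map_zero]

omit gas in
/-- `⟨[W, Y]⟩ ∩ ⋂ C_W(Y) = 0` -/
theorem sm_eq_zero [Finite W] {a : W} (ha : a ∈ sm' W 𝒴) (h : ∀ Y ∈ 𝒴, a ∈ fx W Y) : a = 0 := by
  classical
  have hrep : ∀ a ∈ sm' W 𝒴, ∃ (s : Finset (Subgroup Γ)) (g : Subgroup Γ → W),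
      (∀ Y ∈ s, Y ∈ 𝒴 ∧ g Y ∈ cm W Y) ∧ a = ∑ Y ∈ s, g Y := by
    intro a ha
    induction ha using AddSubgroup.closure_induction with
    | mem x hx =>
      obtain ⟨Y, hY, hx⟩ := hx
      exact ⟨{Y}, fun _ => x, fun Z hZ => by rw [Finset.mem_singleton.1 hZ]; exact ⟨hY, hx⟩, by simp⟩
    | zero => exact ⟨∅, fun _ => 0, fun Z hZ => by simp at hZ, by simp⟩
    | add x y _ _ hx hy =>
      obtain ⟨s, g, h1, rfl⟩ := hx
      obtain ⟨s', g', h2, rfl⟩ := hy
      refine ⟨s ∪ s', fun Y => (if Y ∈ s then g Y else 0) + (if Y ∈ s' then g' Y else 0), fun Y hY => ?_, ?_⟩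
      · have hY' : Y ∈ 𝒴 := by
          rcases Finset.mem_union.1 hY with h3 | h3
          · exact (h1 Y h3).1
          · exact (h2 Y h3).1
        refine ⟨hY', add_mem ?_ ?_⟩
        · split_ifs with h3
          · exact (h1 Y h3).2
          · exact zero_mem _
        · split_ifs with h3
          · exact (h2 Y h3).2
          · exact zero_mem _
      · rw [Finset.sum_add_distrib]
        congr 1
        · rw [Finset.sum_ite_mem, Finset.inter_eq_right.2 Finset.subset_union_left]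
        · rw [Finset.sum_ite_mem, Finset.inter_eq_right.2 Finset.subset_union_right]
    | neg x _ hx =>
      obtain ⟨s, g, h1, rfl⟩ := hx
      exact ⟨s, fun Y => - g Y, fun Y hY => ⟨(h1 Y hY).1, neg_mem (h1 Y hY).2⟩, by rw [Finset.sum_neg_distrib]⟩
  obtain ⟨s, g, h1, rfl⟩ := hrep a ha
  refine Finset.sum_eq_zero fun Y hY => ?_
  refine eq_zero Fa (h1 Y hY).1 (h1 Y hY).2 ?_
  have h2 : ∑ Z ∈ s.erase Y, g Z ∈ fx W Y := by
    refine AddSubgroup.sum_mem _ fun Z hZ => ?_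
    obtain ⟨hZ1, hZ2⟩ := Finset.mem_erase.1 hZ
    exact fun y hy => Fa.triv Y (h1 Y hY).1 Z (h1 Z hZ2).1 (fun e => hZ1 e.symm) y hy _ (h1 Z hZ2).2
  have h3 := (fx W Y).sub_mem (h Y (h1 Y hY).1) h2
  rwa [← Finset.add_sum_erase s g hY, add_sub_cancel_right] at h3

/-- **One block.** -/
theorem dich [Finite W] {T X : Subgroup Γ} (hT2 : IsPGroup 2 T) {Y : Subgroup Γ} (hY : Y ∈ 𝒴)
    (odd : ¬ 2 ∣ T.relIndex Y) (hCX : ∀ r ∈ RR 𝒴, (∀ z ∈ fx W (T ⊓ RR 𝒴), r • z = z) → r ∈ X)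
    {x : Γ} (hxX : x ∈ X) (hxR : x ∈ RR 𝒴) :
    Y ≤ X ∨ ∀ z ∈ fx W (T ⊓ RR 𝒴), ∀ d ∈ T ⊓ RR 𝒴, d • x • z - x • z ∈ fx W Y := by
  obtain ⟨A, _, _, _, hI, htv, two, himg, hA2, hE2⟩ := (Fa.blk Y hY).ex
  have hYR : Y ≤ RR 𝒴 := le_sSup hY
  -- a nonzero homomorphism
  have hf0 : ∃ f : HomY Y A W, f ≠ 0 := by
    by_contra hcon
    push Not at hcon
    have : Subsingleton (HomY Y A W) := ⟨fun f g => by rw [hcon f, hcon g]⟩
    rw [Module.finrank_zero_of_subsingleton] at hE2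
    omega
  obtain ⟨f₀, hf₀⟩ := hf0
  have hinj := HomY.inj hf₀
  have hfc : ∀ (f : HomY Y A W) (a : A), (f : A →+ W) a ∈ cm W Y := fun f a => by
    rw [himg]; exact mem_img f a
  -- the point
  obtain ⟨z₀, ⟨n, rfl⟩, hz0, hz⟩ := exists_fix (S := T ⊓ RR 𝒴) (A := (f₀ : A →+ W).range) (hT2.to_le inf_le_left)
    Fa.two (by
      rintro s hs _ ⟨a, rfl⟩
      obtain ⟨y, hy, h1⟩ := act_RR Fa hY hs.2
      rw [h1 _ (hfc f₀ a)]
      exact ⟨(⟨y, hy⟩ : Y) • a, f₀.2 _ _⟩) (by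
      intro e
      apply hf₀
      apply Subtype.ext
      ext a
      have h1 : (f₀ : A →+ W) a ∈ (f₀ : A →+ W).range := ⟨a, rfl⟩
      rw [e] at h1
      exact h1)
  have hn0 : n ≠ 0 := by
    rintro rfl
    exact hz0 (map_zero _)
  have hfn : ∀ d ∈ T ⊓ RR 𝒴, ∀ y : Y, (∀ v ∈ cm W Y, d • v = (y : Γ) • v) → y • n = n := by
    intro d hd y hy
    apply hinj
    rw [f₀.2]
    change (y : Γ) • (f₀ : A →+ W) n = _
    rw [← hy _ (hfc f₀ n), hz d hd]
  have hTn : ∀ t ∈ T.subgroupOf Y, t • n = n := fun t ht => hfn t ⟨ht, hYR t.2⟩ t fun _ _ => rfl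
  -- the elements of `Z₁`
  have hZ : ∀ z ∈ fx W (T ⊓ RR 𝒴), ∃ (f : HomY Y A W) (c : W), c ∈ fx W Y ∧ z = (f : A →+ W) n + c := by
    intro z hz1
    obtain ⟨a, ha, c, hc, rfl⟩ := dec Fa gas hY z
    have h1 : ∀ t ∈ T.subgroupOf Y, t • a = a := by
      intro t ht
      have h2 := hz1 t ⟨ht, hYR t.2⟩
      rw [smul_add, hc t t.2] at h2
      exact add_right_cancel h2
    obtain ⟨f, hf⟩ := exists_of_fix htv two odd hn0 hTn (himg ▸ ha) h1
    exact ⟨f, c, hc, by rw [hf]⟩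
  -- `C_Y(n) ≤ X`
  have hC : ∀ y : Y, y • n = n → (y : Γ) ∈ X := by
    intro y hy
    refine hCX y (hYR y.2) fun z hz1 => ?_
    obtain ⟨f, c, hc, rfl⟩ := hZ z hz1
    rw [smul_add, hc y y.2]
    have h1 : (f : A →+ W) (y • n) = (y : Γ) • (f : A →+ W) n := f.2 y n
    rw [← h1, hy]
  obtain ⟨yx, hyx, hx⟩ := act_RR Fa hY hxR
  by_cases hκ : ∀ κ : KK Y A, (⟨yx, hyx⟩ : Y) • n ≠ κ • n
  · left
    have h1 : X.subgroupOf Y = ⊤ := by
      refine TwoPts.eq_top htv hn0 hκ hC fun y hy => ?_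
      have h2 : (⟨yx, hyx⟩ : Y)⁻¹ * y * ⟨yx, hyx⟩ ∈ X.subgroupOf Y := by
        refine mem_subgroupOf.2 (hC _ ?_)
        rw [mul_smul, mul_smul, hy, inv_smul_smul]
      have h3 : (y : Γ) = x * (yx⁻¹ * y * yx) * x⁻¹ := by
        have h4 : ∀ w : W, (x * (yx⁻¹ * y * yx) * x⁻¹) • w = (y : Γ) • w := by
          intro w
          obtain ⟨a, ha, c, hc, rfl⟩ := dec Fa gas hY w
          have h5 : x⁻¹ • a = yx⁻¹ • a := by
            rw [inv_smul_eq_iff, hx _ (smul_cm (Y.inv_mem hyx) ha), smul_inv_smul]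
          have h6 : x⁻¹ • c ∈ fx W Y := smul_fx Fa hY ((RR 𝒴).inv_mem hxR) hc
          have h7 : (yx⁻¹ * y * yx) • x⁻¹ • c = x⁻¹ • c :=
            h6 _ (Y.mul_mem (Y.mul_mem (Y.inv_mem hyx) y.2) hyx)
          have h8 : (yx⁻¹ * y * yx) • x⁻¹ • a = yx⁻¹ • (y : Γ) • a := by
            rw [h5, mul_smul, mul_smul, smul_inv_smul]
          have h9 : ∀ (k : Γ) (w : W), (x * k * x⁻¹) • w = x • k • x⁻¹ • w := fun k w => by
            rw [mul_smul, mul_smul]
          rw [smul_add, smul_add, hc y y.2, h9, h9, h7, smul_inv_smul, h8,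
            hx _ (smul_cm (Y.inv_mem hyx) (smul_cm y.2 ha)), smul_inv_smul]
        have h5 := Fa.faith ((y : Γ)⁻¹ * (x * (yx⁻¹ * y * yx) * x⁻¹)) fun w => by
          rw [mul_smul, h4, inv_smul_smul]
        exact (inv_mul_eq_one.1 h5)
      rw [mem_subgroupOf, h3]
      exact X.mul_mem (X.mul_mem hxX h2) (X.inv_mem hxX)
    intro y hy
    have : (⟨y, hy⟩ : Y) ∈ X.subgroupOf Y := by rw [h1]; trivial
    exact this
  · right
    push Not at hκ
    obtain ⟨κ, hκ⟩ := hκ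
    intro z hz1 d hd
    obtain ⟨f, c, hc, rfl⟩ := hZ z hz1
    obtain ⟨yd, hyd, hd'⟩ := act_RR Fa hY hd.2
    have h1 : x • (f : A →+ W) n = ((κ • f : HomY Y A W) : A →+ W) n := by
      rw [hx _ (hfc f n), HomY.smul_apply, ← hκ]
      exact (f.2 (⟨yx, hyx⟩ : Y) n).symm
    have h2 : d • ((κ • f : HomY Y A W) : A →+ W) n = ((κ • f : HomY Y A W) : A →+ W) n := by
      rw [hd' _ (hfc _ n)]
      have h3 := hfn d hd ⟨yd, hyd⟩ hd'
      conv_rhs => rw [← h3]
      exact ((κ • f : HomY Y A W).2 (⟨yd, hyd⟩ : Y) n).symm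
    have h3 : x • c ∈ fx W Y := smul_fx Fa hY hxR hc
    have h4 : d • x • c ∈ fx W Y := smul_fx Fa hY hd.2 h3
    have e : d • x • ((f : A →+ W) n + c) - x • ((f : A →+ W) n + c) = d • x • c - x • c := by
      rw [smul_add, smul_add, h1, h2]
      abel
    rw [e]
    exact (fx W Y).sub_mem h4 h3

/-- **(2) of END5.** -/
theorem le_of_move [Finite W] {T X : Subgroup Γ} (hT2 : IsPGroup 2 T)
    (odd : ∀ Y ∈ 𝒴, ¬ 2 ∣ T.relIndex Y) (hTX : T ≤ X)
    (tr : ∀ Y ∈ 𝒴, ∀ Y' ∈ 𝒴, ∃ t ∈ T, Y.map (MulAut.conj t).toMonoidHom = Y')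
    (hCX : ∀ r ∈ RR 𝒴, (∀ z ∈ fx W (T ⊓ RR 𝒴), r • z = z) → r ∈ X)
    {x : Γ} (hxX : x ∈ X) (hxR : x ∈ RR 𝒴) {z : W} (hz : z ∈ fx W (T ⊓ RR 𝒴))
    (hxz : x • z ∉ fx W (T ⊓ RR 𝒴)) : RR 𝒴 ≤ X := by
  by_cases hex : ∃ Y ∈ 𝒴, Y ≤ X
  · obtain ⟨Y, hY, hYX⟩ := hex
    refine sSup_le fun Y' hY' => ?_
    obtain ⟨t, ht, rfl⟩ := tr Y hY Y' hY'
    rintro _ ⟨y, hy, rfl⟩
    exact X.mul_mem (X.mul_mem (hTX ht) (hYX hy)) (X.inv_mem (hTX ht))
  · exfalso
    apply hxz
    intro d hd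
    rw [← sub_eq_zero]
    refine sm_eq_zero Fa (br_sm hd.2 _) fun Y hY => ?_
    rcases dich Fa gas hT2 hY (odd Y hY) hCX hxX hxR with h | h
    · exact absurd ⟨Y, hY, h⟩ hex
    · exact h z hz d hd

end Cfsg.Agent.Omega.NO3b.BasePt.MoveTop

end

section


/-!
# Transfer of an irreducible module along an equivariant isomorphism

`R : Y₁ → Y₂ → Prop` a correspondence between two groups (total on both sides), `θ : A₁ ≃+ A₂` with
`θ (y₁ a) = y₂ θ a` for `R y₁ y₂`.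

* `Eqv.irr`, `Eqv.allTv`, `Eqv.finrank` : `IsIrr`, `AllTv`, `dim_K A`;
* `EqvM.hom`, `EqvM.finrank_hom`, `EqvM.map_img` : the same for `Hom_Y(A, U)` and `A ⊗ E`, `i : W → U` injective.
-/

set_option autoImplicit false

namespace Cfsg.Agent.Omega.NO3b.BasePt

open Subgroup
open Cfsg.Agent.Omega.NO3b.Exit Cfsg.Agent.Omega.NO3b.Exit.Ten Cfsg.Agent.Omega.NO3b.Exit.Descent

universe u v w x

/-- An equivariant isomorphism. -/
structure Eqv {Y₁ : Type u} {Y₂ : Type v} {A₁ : Type w} {A₂ : Type x} [Group Y₁] [Group Y₂] [AddCommGroup A₁]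
    [AddCommGroup A₂] [DistribMulAction Y₁ A₁] [DistribMulAction Y₂ A₂] (R : Y₁ → Y₂ → Prop) (θ : A₁ ≃+ A₂) :
    Prop where
  l : ∀ y₁, ∃ y₂, R y₁ y₂
  r : ∀ y₂, ∃ y₁, R y₁ y₂
  e : ∀ y₁ y₂, R y₁ y₂ → ∀ a, θ (y₁ • a) = y₂ • θ a

theorem kk_ext {Y : Type u} {A : Type v} [Group Y] [AddCommGroup A] [DistribMulAction Y A] [Finite A] [IsIrr Y A]
    {κ κ' : KK Y A} (h : ∀ a : A, κ • a = κ' • a) : κ = κ' :=
  Subtype.ext (AddMonoidHom.ext h)

namespace Eqv

variable {Y₁ : Type u} {Y₂ : Type v} {A₁ : Type w} {A₂ : Type x} [Group Y₁] [Group Y₂] [AddCommGroup A₁]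
  [AddCommGroup A₂] [DistribMulAction Y₁ A₁] [DistribMulAction Y₂ A₂] {R : Y₁ → Y₂ → Prop} {θ : A₁ ≃+ A₂}
  (h : Eqv R θ)
include h

theorem symm : Eqv (fun y₂ y₁ => R y₁ y₂) θ.symm where
  l := h.r
  r := h.l
  e := fun y₂ y₁ hR a => by
    rw [AddEquiv.symm_apply_eq, h.e y₁ y₂ hR, AddEquiv.apply_symm_apply]

theorem irr [hI : IsIrr Y₁ A₁] : IsIrr Y₂ A₂ where
  ne := by
    obtain ⟨a, ha⟩ := hI.ne
    exact ⟨θ a, fun h0 => ha (θ.map_eq_zero_iff.1 h0)⟩
  irr N hN := by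
    have key : ∀ y : A₂, y ∈ N ↔ θ.symm y ∈ N.comap θ.toAddMonoidHom := fun y => by
      change _ ↔ θ (θ.symm y) ∈ N
      rw [AddEquiv.apply_symm_apply]
    rcases hI.irr (N.comap θ.toAddMonoidHom) (fun k n hn => by
      obtain ⟨y₂, hy⟩ := h.l k
      change θ (k • n) ∈ N
      rw [h.e k y₂ hy]
      exact hN _ _ hn) with h1 | h1
    · left
      rw [eq_bot_iff]
      intro y hy
      rw [key, h1, AddSubgroup.mem_bot] at hy
      rw [AddSubgroup.mem_bot, ← θ.apply_symm_apply y, hy, map_zero]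
    · right
      rw [eq_top_iff]
      intro y _
      rw [key, h1]
      trivial

/-- the map of the fields -/
def kk (κ : KK Y₁ A₁) : KK Y₂ A₂ :=
  KK.mk Y₂ A₂ (θ.toAddMonoidHom.comp ((κ.1 : A₁ →+ A₁).comp θ.symm.toAddMonoidHom)) fun y₂ a => by
    obtain ⟨y₁, hR⟩ := h.r y₂
    change θ (κ • θ.symm (y₂ • a)) = y₂ • θ (κ • θ.symm a)
    rw [h.symm.e y₂ y₁ hR, KK.smul_smul_comm, h.e y₁ y₂ hR]

theorem kk_smul (κ : KK Y₁ A₁) (a : A₁) : h.kk κ • θ a = θ (κ • a) := by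
  change θ (κ • θ.symm (θ a)) = _
  rw [AddEquiv.symm_apply_apply]

variable [Finite A₁] [Finite A₂] [hI₁ : IsIrr Y₁ A₁] [hI₂ : IsIrr Y₂ A₂]

omit [Finite A₂] hI₂ in
theorem kk_symm (κ : KK Y₁ A₁) : h.symm.kk (h.kk κ) = κ := by
  refine kk_ext fun a => ?_
  have h1 := h.symm.kk_smul (h.kk κ) (θ a)
  rw [AddEquiv.symm_apply_apply, h.kk_smul, AddEquiv.symm_apply_apply] at h1
  exact h1

omit [Finite A₁] hI₁ in
theorem kk_symm' (κ : KK Y₂ A₂) : h.kk (h.symm.kk κ) = κ := by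
  refine kk_ext fun a => ?_
  have h1 := h.kk_smul (h.symm.kk κ) (θ.symm a)
  have h2 := h.symm.kk_smul κ a
  rw [AddEquiv.apply_symm_apply, h2, AddEquiv.apply_symm_apply] at h1
  exact h1

theorem kk_bij : Function.Bijective h.kk :=
  ⟨fun a b e => by rw [← h.kk_symm a, e, h.kk_symm], fun b => ⟨_, h.kk_symm' b⟩⟩

theorem kk_zero : h.kk 0 = 0 := kk_ext fun a => by
  rw [← θ.apply_symm_apply a, h.kk_smul, zero_smul, zero_smul, map_zero]

theorem kk_add (κ κ' : KK Y₁ A₁) : h.kk (κ + κ') = h.kk κ + h.kk κ' := kk_ext fun a => by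
  rw [← θ.apply_symm_apply a, h.kk_smul, add_smul, add_smul, map_add, h.kk_smul, h.kk_smul]

theorem kk_mul (κ κ' : KK Y₁ A₁) : h.kk (κ * κ') = h.kk κ * h.kk κ' := kk_ext fun a => by
  rw [← θ.apply_symm_apply a, h.kk_smul, mul_smul, mul_smul, h.kk_smul, h.kk_smul]

theorem card_kk : Nat.card (KK Y₁ A₁) = Nat.card (KK Y₂ A₂) := Nat.card_congr (Equiv.ofBijective _ h.kk_bij)

theorem finrank : Module.finrank (KK Y₁ A₁) A₁ = Module.finrank (KK Y₂ A₂) A₂ := by
  have h1 := lift_rank_eq_of_equiv_equiv h.kk θ h.kk_bij fun κ a => (h.kk_smul κ a).symm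
  have h2 := congrArg Cardinal.toNat h1
  rwa [Cardinal.toNat_lift, Cardinal.toNat_lift] at h2

/-- `AllTv` -/
theorem allTv (ht : AllTv Y₁ A₁) : AllTv Y₂ A₂ := by
  intro φ a ha
  let φ₁ : Module.Dual (KK Y₁ A₁) A₁ :=
    { toFun := fun b => h.symm.kk (φ (θ b))
      map_add' := fun b c => by rw [map_add, map_add, h.symm.kk_add]
      map_smul' := fun κ b => by
        rw [RingHom.id_apply, ← h.kk_smul, map_smul, smul_eq_mul, h.symm.kk_mul, h.kk_symm, smul_eq_mul] }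
  have hφ : ∀ b, φ₁ b = h.symm.kk (φ (θ b)) := fun b => rfl
  obtain ⟨k, hk⟩ := ht φ₁ (θ.symm a) (by rw [hφ, θ.apply_symm_apply, ha, h.symm.kk_zero])
  obtain ⟨y, hR⟩ := h.l k
  refine ⟨y, fun c => ?_⟩
  have h1 := h.e k y hR (θ.symm c)
  rw [hk, θ.apply_symm_apply, map_add, θ.apply_symm_apply, hφ, θ.apply_symm_apply, ← h.kk_smul, θ.apply_symm_apply,
    h.kk_symm'] at h1
  exact h1.symm

end Eqv

/-! ### `Hom_Y(A, U)` -/

section hom

variable {Y₁ : Type u} {Y₂ : Type v} {A₁ : Type w} {A₂ : Type x} [Group Y₁] [Group Y₂] [AddCommGroup A₁]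
  [AddCommGroup A₂] [DistribMulAction Y₁ A₁] [DistribMulAction Y₂ A₂] {R : Y₁ → Y₂ → Prop} {θ : A₁ ≃+ A₂}
variable {U : Type*} {W : Type*} [AddCommGroup U] [DistribMulAction Y₁ U] [AddCommGroup W] [DistribMulAction Y₂ W]

/-- the modules `U ≥ W` -/
structure EqvM (R : Y₁ → Y₂ → Prop) (θ : A₁ ≃+ A₂) (i : W →+ U) : Prop extends Eqv R θ where
  inj : Function.Injective i
  eqv : ∀ y₁ y₂, R y₁ y₂ → ∀ w, i (y₂ • w) = y₁ • i w
  val : ∀ (f : HomY Y₁ A₁ U) (a : A₁), ∃ w, i w = (f : A₁ →+ U) a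

namespace EqvM

variable {i : W →+ U} (h : EqvM R θ i)
include h

/-- `Hom_{Y₂}(A₂, W) → Hom_{Y₁}(A₁, U)` -/
def hom : HomY Y₂ A₂ W →+ HomY Y₁ A₁ U where
  toFun f := ⟨i.comp ((f : A₂ →+ W).comp θ.toAddMonoidHom), fun y₁ a => by
    obtain ⟨y₂, hR⟩ := h.l y₁
    change i ((f : A₂ →+ W) (θ (y₁ • a))) = y₁ • i ((f : A₂ →+ W) (θ a))
    rw [h.e y₁ y₂ hR, f.2, h.eqv y₁ y₂ hR]⟩
  map_zero' := by
    apply Subtype.ext; ext a
    exact map_zero i
  map_add' f g := by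
    apply Subtype.ext; ext a
    exact map_add i _ _

theorem hom_apply (f : HomY Y₂ A₂ W) (a : A₁) : (h.hom f : A₁ →+ U) a = i ((f : A₂ →+ W) (θ a)) := rfl

theorem hom_inj : Function.Injective h.hom := by
  intro f g e
  apply Subtype.ext
  ext a
  apply h.inj
  have h1 := congrArg (fun f : HomY Y₁ A₁ U => (f : A₁ →+ U) (θ.symm a)) e
  change i ((f : A₂ →+ W) (θ (θ.symm a))) = i ((g : A₂ →+ W) (θ (θ.symm a))) at h1
  rwa [θ.apply_symm_apply] at h1

theorem hom_surj : Function.Surjective h.hom := by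
  intro f
  choose g hg using h.val f
  refine ⟨⟨AddMonoidHom.mk' (fun a => g (θ.symm a)) fun a b => h.inj (by
    rw [hg, map_add θ.symm, map_add i, hg, hg, map_add]), fun y₂ a => ?_⟩, ?_⟩
  · obtain ⟨y₁, hR⟩ := h.r y₂
    apply h.inj
    change i (g (θ.symm (y₂ • a))) = i (y₂ • g (θ.symm a))
    rw [hg, h.eqv y₁ y₂ hR, hg, h.toEqv.symm.e y₂ y₁ hR, f.2]
  · apply Subtype.ext
    ext a
    change i (g (θ.symm (θ a))) = _
    rw [hg, θ.symm_apply_apply]

theorem finrank_hom [Finite A₁] [Finite A₂] [IsIrr Y₁ A₁] [IsIrr Y₂ A₂] :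
    Module.finrank (KK Y₁ A₁) (HomY Y₁ A₁ U) = Module.finrank (KK Y₂ A₂) (HomY Y₂ A₂ W) := by
  have h1 := lift_rank_eq_of_equiv_equiv h.toEqv.symm.kk
    (AddEquiv.ofBijective h.hom ⟨h.hom_inj, h.hom_surj⟩) h.toEqv.symm.kk_bij fun κ f => by
      apply Subtype.ext
      ext a
      change i ((f : A₂ →+ W) (κ • θ a)) = i ((f : A₂ →+ W) (θ (h.toEqv.symm.kk κ • a)))
      rw [← h.toEqv.kk_smul, h.toEqv.kk_symm']
  have h2 := congrArg Cardinal.toNat h1
  rw [Cardinal.toNat_lift, Cardinal.toNat_lift] at h2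
  exact h2.symm

theorem map_img : (img Y₂ A₂ W).map i = img Y₁ A₁ U := by
  apply le_antisymm
  · rintro _ ⟨w, hw, rfl⟩
    induction hw using AddSubgroup.closure_induction with
    | mem w hw =>
      obtain ⟨f, a, rfl⟩ := hw
      have h1 := mem_img (h.hom f) (θ.symm a)
      rwa [h.hom_apply, θ.apply_symm_apply] at h1
    | zero => rw [map_zero]; exact zero_mem _
    | add a b _ _ ha hb => rw [map_add]; exact add_mem ha hb
    | neg a _ ha => rw [map_neg]; exact neg_mem ha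
  · refine (AddSubgroup.closure_le _).2 ?_
    rintro _ ⟨f, a, rfl⟩
    obtain ⟨g, rfl⟩ := h.hom_surj f
    exact ⟨_, mem_img g (θ a), rfl⟩

end EqvM

end hom

end Cfsg.Agent.Omega.NO3b.BasePt

end
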