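import Cfsg.Agent.Mrg.Omega.NO3b.BasePt.Def
import Cfsg.Agent.Mrg.Omega.NO3b.Exit.TenSplit
import Cfsg.Agent.Mrg.Omega.NO3b.Exit.TightDat

section


/-!
# One block `V = img Y A W = A ⊗_K E`, `E = Hom_Y(A, W)` (NotFFG, base point, (B1); helper25)

* `exists_coef` : for `0 ≠ f ∈ E` there is a `Y`-map `c : V → A` with `c (f a) = a`;
* `exists_act` : `k` normalising `V` and commuting with `End_Y(V)` acts on `V` as `θ ⊗ 1`, `θ` `K`-linear;
* `prod_tv` : a group inducing all transvections induces every `1 + δ`, `δ² = 0`;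
* `ns` : a group acting through `A`, normalised by `Y`, containing an involution moving `V`, induces all transvections;
* `contr`, `fix_eq_zero`, `exists_sub`.
-/

set_option autoImplicit false

namespace Cfsg.Agent.Omega.NO3b.BasePt.Pr

open Subgroup
open Cfsg.Agent.Omega.NO3b.Exit Cfsg.Agent.Omega.NO3b.Exit.Ten Cfsg.Agent.Omega.NO3b.Exit.Descent
open Cfsg.Agent.Omega.NO3b.OneR (all_tv exists_first exists_dual_one)
open Cfsg.Agent.Omega.FF.Basic (fx)
open scoped Pointwise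

universe u v w

variable {Γ : Type u} [Group Γ] {W : Type v} [AddCommGroup W] [DistribMulAction Γ W]
variable {Y : Subgroup Γ} {A : Type w} [AddCommGroup A] [Finite A] [DistribMulAction Y A] [hI : IsIrr Y A]

/-- `k` acts on `A ⊗ E` as `θ ⊗ 1` -/
def Ac (W : Type v) [AddCommGroup W] [DistribMulAction Γ W] {Y : Subgroup Γ} {A : Type w} [AddCommGroup A] [Finite A]
    [DistribMulAction Y A] [IsIrr Y A] (k : Γ) (θ : A →ₗ[KK Y A] A) : Prop :=
  ∀ (f : HomY Y A W) (a : A), k • (f : A →+ W) a = (f : A →+ W) (θ a)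

/-- `1 + φ ⊗ a` -/
noncomputable def tm (φ : Module.Dual (KK Y A) A) (a : A) : A →ₗ[KK Y A] A := LinearMap.id + φ.smulRight a

theorem tm_apply (φ : Module.Dual (KK Y A) A) (a x : A) : tm φ a x = x + φ x • a := rfl

/-- `N` induces all transvections of `A` -/
def AllT (W : Type v) [AddCommGroup W] [DistribMulAction Γ W] (N : Subgroup Γ) (Y : Subgroup Γ) (A : Type w)
    [AddCommGroup A] [Finite A] [DistribMulAction Y A] [IsIrr Y A] : Prop :=
  ∀ (φ : Module.Dual (KK Y A) A) (a : A), φ a = 0 → ∃ n ∈ N, Ac W n (tm φ a)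

theorem Ac.mul {k l : Γ} {θ η : A →ₗ[KK Y A] A} (hk : Ac W k θ) (hl : Ac W l η) : Ac W (k * l) (θ ∘ₗ η) := by
  intro f a
  rw [mul_smul, hl, hk]
  rfl

theorem Ac.congr {k : Γ} {θ η : A →ₗ[KK Y A] A} (hk : Ac W k θ) (h : ∀ a, θ a = η a) : Ac W k η := by
  intro f a
  rw [hk, h]

theorem allT_self (tv : AllTv Y A) : AllT W Y Y A := by
  intro φ a ha
  obtain ⟨k, hk⟩ := tv φ a ha
  exact ⟨k, k.2, fun f x => by rw [tm_apply, ← hk]; exact (f.2 k x).symm⟩

theorem AllT.mono {N N' : Subgroup Γ} (h : AllT W N Y A) (hN : N ≤ N') : AllT W N' Y A := fun φ a ha => by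
  obtain ⟨n, hn, h1⟩ := h φ a ha
  exact ⟨n, hN hn, h1⟩

omit [DistribMulAction Γ W] in
theorem kk_two (two : ∀ a : A, a + a = 0) (x : KK Y A) : x + x = 0 := by
  by_contra hne
  obtain ⟨a, ha⟩ := hI.ne
  apply ha
  have h3 : (x + x) • a = 0 := by rw [add_smul, two]
  rw [← one_smul (KK Y A) a, ← inv_mul_cancel₀ hne, mul_smul, h3, smul_zero]

/-- a nonzero vector in the kernel of a functional -/
theorem exists_ker (dA : 2 ≤ Module.finrank (KK Y A) A) (φ : Module.Dual (KK Y A) A) : ∃ a : A, a ≠ 0 ∧ φ a = 0 := by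
  have hfin : Module.Finite (KK Y A) A := Module.Finite.of_finite
  have h : LinearMap.ker φ ≠ ⊥ := by
    refine LinearMap.ker_ne_bot_of_finrank_lt ?_
    rw [Module.finrank_self]
    omega
  obtain ⟨a, ha, ha0⟩ := Submodule.exists_mem_ne_zero_of_ne_bot h
  exact ⟨a, ha0, ha⟩

theorem exists_indep (dA : 2 ≤ Module.finrank (KK Y A) A) (a : A) : ∃ b : A, ∀ κ : KK Y A, κ • a ≠ b := by
  by_contra hcon
  push Not at hcon
  have hfin : Module.Finite (KK Y A) A := Module.Finite.of_finite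
  have h1 : Submodule.span (KK Y A) ({a} : Set A) = ⊤ := by
    rw [eq_top_iff]
    intro b _
    obtain ⟨κ, hκ⟩ := hcon b
    exact Submodule.mem_span_singleton.2 ⟨κ, hκ⟩
  have h2 := finrank_span_le_card (R := KK Y A) ({a} : Set A)
  rw [h1, finrank_top] at h2
  have h3 : ({a} : Set A).toFinset.card = 1 := by simp
  omega

section fin

variable [Finite W]

/-- coordinates -/
theorem exists_crd : ∃ (d : ℕ) (b : Module.Basis (Fin d) (KK Y A) (HomY Y A W)), ∀ w ∈ img Y A W, ∃ a : Fin d → A,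
    w = ∑ i, ((b i : HomY Y A W) : A →+ W) (a i) := by
  have hfin3 : Module.Finite (KK Y A) (HomY Y A W) := Module.Finite.of_finite
  let b := Module.finBasis (KK Y A) (HomY Y A W)
  refine ⟨_, b, fun w hw => ?_⟩
  let N : AddSubgroup W :=
    { carrier := {w | ∃ a : Fin (Module.finrank (KK Y A) (HomY Y A W)) → A, w = ∑ i, ((b i : HomY Y A W) : A →+ W) (a i)}
      zero_mem' := ⟨0, by simp⟩
      add_mem' := by
        rintro x y ⟨a, rfl⟩ ⟨c, rfl⟩
        refine ⟨a + c, ?_⟩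
        rw [← Finset.sum_add_distrib]
        exact Finset.sum_congr rfl fun i _ => by rw [Pi.add_apply, map_add]
      neg_mem' := by
        rintro x ⟨a, rfl⟩
        refine ⟨-a, ?_⟩
        rw [← Finset.sum_neg_distrib]
        exact Finset.sum_congr rfl fun i _ => by rw [Pi.neg_apply, map_neg] }
  have h : img Y A W ≤ N := by
    refine (AddSubgroup.closure_le _).2 ?_
    rintro _ ⟨f, a, rfl⟩
    refine ⟨fun i => b.repr f i • a, ?_⟩
    conv_lhs => rw [← b.sum_repr f]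
    rw [AddSubgroup.val_finsetSum, AddMonoidHom.finsetSum_apply]
    exact Finset.sum_congr rfl fun i _ => by rw [HomY.smul_apply]
  exact h hw

omit [Finite W] [Finite A] hI in
theorem smul_img {y : Γ} (hy : y ∈ Y) {w : W} (hw : w ∈ img Y A W) : y • w ∈ img Y A W := by
  induction hw using AddSubgroup.closure_induction with
  | mem w hw =>
    obtain ⟨f, a, rfl⟩ := hw
    have : y • (f : A →+ W) a = (f : A →+ W) ((⟨y, hy⟩ : Y) • a) := (f.2 ⟨y, hy⟩ a).symm
    rw [this]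
    exact mem_img f _
  | zero => rw [smul_zero]; exact zero_mem _
  | add a b _ _ ha hb => rw [smul_add]; exact add_mem ha hb
  | neg a _ ha => rw [smul_neg]; exact neg_mem ha

/-- the projection to one coordinate -/
theorem exists_coef {V : AddSubgroup W} (hV : V = img Y A W) {f : HomY Y A W} (hf : f ≠ 0) :
    ∃ c : V →+ A, (∀ y (hy : y ∈ Y), ∀ v v' : V, (v' : W) = y • (v : W) → c v' = (⟨y, hy⟩ : Y) • c v) ∧
      ∀ (a : A) (v : V), (v : W) = (f : A →+ W) a → c v = a := by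
  subst hV
  obtain ⟨d, b, hb⟩ := exists_crd (Y := Y) (A := A) (W := W)
  have hfin3 : Module.Finite (KK Y A) (HomY Y A W) := Module.Finite.of_finite
  obtain ⟨l0, hl0, -⟩ := Submodule.exists_dual_map_eq_bot_of_notMem (p := (⊥ : Submodule (KK Y A) (HomY Y A W)))
    (x := f) (fun h => hf ((Submodule.mem_bot _).1 h)) inferInstance
  let l : Module.Dual (KK Y A) (HomY Y A W) := (l0 f)⁻¹ • l0
  have hl : l f = 1 := by
    change (l0 f)⁻¹ * l0 f = 1
    exact inv_mul_cancel₀ hl0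
  choose co hco using hb
  have huniq : ∀ a a' : Fin d → A, ∑ i, ((b i : HomY Y A W) : A →+ W) (a i) = ∑ i, ((b i : HomY Y A W) : A →+ W) (a' i) →
      a = a' := by
    intro a a' h
    funext i
    have h1 := HomY.ind b.linearIndependent Finset.univ (a - a') (by
      have e : ∑ i, ((b i : HomY Y A W) : A →+ W) ((a - a') i) =
          ∑ i, ((b i : HomY Y A W) : A →+ W) (a i) - ∑ i, ((b i : HomY Y A W) : A →+ W) (a' i) := by
        rw [← Finset.sum_sub_distrib]
        exact Finset.sum_congr rfl fun i _ => by rw [Pi.sub_apply, map_sub]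
      rw [e, h, sub_self]) i (Finset.mem_univ i)
    exact sub_eq_zero.1 h1
  refine ⟨AddMonoidHom.mk' (fun v => ∑ i, l (b i) • co v.1 v.2 i) ?_, ?_, ?_⟩
  · intro x y
    have h1 : co (x + y : img Y A W).1 (x + y).2 = co x.1 x.2 + co y.1 y.2 := by
      apply huniq
      rw [← hco]
      have e : ∑ i, ((b i : HomY Y A W) : A →+ W) ((co x.1 x.2 + co y.1 y.2) i) =
          ∑ i, ((b i : HomY Y A W) : A →+ W) (co x.1 x.2 i) + ∑ i, ((b i : HomY Y A W) : A →+ W) (co y.1 y.2 i) := by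
        rw [← Finset.sum_add_distrib]
        exact Finset.sum_congr rfl fun i _ => by rw [Pi.add_apply, map_add]
      rw [e, ← hco, ← hco]
      rfl
    rw [h1, ← Finset.sum_add_distrib]
    exact Finset.sum_congr rfl fun i _ => by rw [Pi.add_apply, smul_add]
  · intro y hy v v' h
    have h1 : co v'.1 v'.2 = fun i => (⟨y, hy⟩ : Y) • co v.1 v.2 i := by
      apply huniq
      rw [← hco, h]
      conv_lhs => rw [hco v.1 v.2]
      rw [Finset.smul_sum]
      exact Finset.sum_congr rfl fun i _ => ((b i : HomY Y A W).2 ⟨y, hy⟩ _).symm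
    change ∑ i, l (b i) • co v'.1 v'.2 i = (⟨y, hy⟩ : Y) • ∑ i, l (b i) • co v.1 v.2 i
    rw [h1, Finset.smul_sum]
    exact Finset.sum_congr rfl fun i _ => KK.smul_smul_comm _ _ _
  · intro a v h
    have h1 : co v.1 v.2 = fun i => b.repr f i • a := by
      apply huniq
      rw [← hco, h]
      conv_lhs => rw [← b.sum_repr f]
      rw [AddSubgroup.val_finsetSum, AddMonoidHom.finsetSum_apply]
      exact Finset.sum_congr rfl fun i _ => by rw [HomY.smul_apply]
    change ∑ i, l (b i) • co v.1 v.2 i = a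
    rw [h1]
    have h2 : ∑ i, l (b i) • b.repr f i • a = (∑ i, b.repr f i * l (b i)) • a := by
      rw [Finset.sum_smul]
      exact Finset.sum_congr rfl fun i _ => by rw [smul_smul, mul_comm]
    have h3 : ∑ i, b.repr f i * l (b i) = l f := by
      conv_rhs => rw [← b.sum_repr f, map_sum]
      exact Finset.sum_congr rfl fun i _ => by rw [map_smul, smul_eq_mul]
    rw [h2, h3, hl, one_smul]

/-- **(lin) ⇒ `θ ⊗ 1`** -/
theorem exists_act {V : AddSubgroup W} (hV : V = img Y A W) (hE : ∃ f : HomY Y A W, f ≠ 0) {k : Γ}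
    (kV : ∀ v ∈ V, k • v ∈ V)
    (lin : ∀ e : V →+ V, (∀ y ∈ Y, ∀ v v' : V, (v' : W) = y • (v : W) → (e v' : W) = y • (e v : W)) →
      ∀ v v' : V, (v' : W) = k • (v : W) → (e v' : W) = k • (e v : W)) : ∃ θ : A →ₗ[KK Y A] A, Ac W k θ := by
  obtain ⟨f₀, hf₀⟩ := hE
  obtain ⟨c, hc1, hc2⟩ := exists_coef hV hf₀
  have hmem : ∀ (g : HomY Y A W) (a : A), (g : A →+ W) a ∈ V := fun g a => by rw [hV]; exact mem_img g a
  let θ : A → A := fun a => c ⟨k • (f₀ : A →+ W) a, kV _ (hmem f₀ a)⟩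
  have key : ∀ (g : HomY Y A W) (a : A), k • (g : A →+ W) a = (g : A →+ W) (θ a) := by
    intro g a
    let e : V →+ V :=
      { toFun := fun v => ⟨(g : A →+ W) (c v), hmem g _⟩
        map_zero' := Subtype.ext (by
          change (g : A →+ W) (c 0) = 0
          rw [map_zero, map_zero])
        map_add' := fun x y => Subtype.ext (by
          change (g : A →+ W) (c (x + y)) = (g : A →+ W) (c x) + (g : A →+ W) (c y)
          rw [map_add, map_add]) }
    have he : ∀ v, (e v : W) = (g : A →+ W) (c v) := fun _ => rfl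
    have h1 := lin e (fun y hy v v' h => by rw [he, he, hc1 y hy v v' h]; exact g.2 ⟨y, hy⟩ _)
      ⟨(f₀ : A →+ W) a, hmem f₀ a⟩ ⟨k • (f₀ : A →+ W) a, kV _ (hmem f₀ a)⟩ rfl
    rw [he, he, hc2 a ⟨(f₀ : A →+ W) a, hmem f₀ a⟩ rfl] at h1
    exact h1.symm
  have hadd : ∀ a b, θ (a + b) = θ a + θ b := fun a b =>
    HomY.inj hf₀ (by rw [← key, map_add, smul_add, key, key, ← map_add])
  refine ⟨{ toFun := θ, map_add' := hadd, map_smul' := fun κ a => ?_ }, key⟩
  apply HomY.inj hf₀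
  rw [RingHom.id_apply, ← key, ← HomY.smul_apply, key, HomY.smul_apply]

/-- `w = ∑ f_i(a_i)`: the contraction with a functional -/
theorem contr {w : W} (hw : w ∈ img Y A W) (hw0 : w ≠ 0) : ∃ (φ : Module.Dual (KK Y A) A) (f : HomY Y A W), f ≠ 0 ∧
    ∀ (a : A) (n : Γ), Ac W n (tm φ a) → n • w = w + (f : A →+ W) a := by
  obtain ⟨d, b, hb⟩ := exists_crd (Y := Y) (A := A) (W := W)
  obtain ⟨a, rfl⟩ := hb w hw
  obtain ⟨j, hj⟩ : ∃ j, a j ≠ 0 := by
    by_contra hcon
    push Not at hcon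
    apply hw0
    exact Finset.sum_eq_zero fun i _ => by rw [hcon, map_zero]
  have hfin : Module.Finite (KK Y A) A := Module.Finite.of_finite
  obtain ⟨φ, hφ, -⟩ := Submodule.exists_dual_map_eq_bot_of_notMem (p := (⊥ : Submodule (KK Y A) A))
    (x := a j) (fun h => hj ((Submodule.mem_bot _).1 h)) inferInstance
  refine ⟨φ, ∑ i, φ (a i) • b i, ?_, ?_⟩
  · intro h0
    have h1 := Fintype.linearIndependent_iff.1 b.linearIndependent (fun i => φ (a i)) h0 j
    exact hφ h1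
  · intro x n hn
    rw [Finset.smul_sum, AddSubgroup.val_finsetSum, AddMonoidHom.finsetSum_apply, ← Finset.sum_add_distrib]
    refine Finset.sum_congr rfl fun i _ => ?_
    rw [hn, tm_apply, map_add, HomY.smul_apply]

/-- a subgroup of `A` invariant under all transvections -/
theorem irr_tv (dA : 2 ≤ Module.finrank (KK Y A) A) {B : AddSubgroup A}
    (hB : ∀ (φ : Module.Dual (KK Y A) A) (c : A), φ c = 0 → ∀ x ∈ B, φ x • c ∈ B) {a : A} (ha : a ∈ B) (ha0 : a ≠ 0)
    (x : A) : x ∈ B := by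
  have hfin : Module.Finite (KK Y A) A := Module.Finite.of_finite
  have key : ∀ x : A, (∀ κ : KK Y A, κ • a ≠ x) → x ∈ B := by
    intro x hx
    obtain ⟨φ, h1, h2⟩ := exists_dual_one hx ha0
    have h3 := hB φ x h2 a ha
    rwa [h1, one_smul] at h3
  by_cases hx : ∀ κ : KK Y A, κ • a ≠ x
  · exact key x hx
  · push Not at hx
    obtain ⟨κ, rfl⟩ := hx
    obtain ⟨y, hy⟩ := exists_indep dA a
    have h1 := key y hy
    have h2 := key (y + κ • a) (fun l e => hy (l - κ) (by rw [sub_smul, e]; abel))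
    have e : κ • a = (y + κ • a) - y := by abel
    rw [e]
    exact B.sub_mem h2 h1

/-- **An `N`-invariant subgroup meeting `V` contains some `f A`.** -/
theorem exists_sub (dA : 2 ≤ Module.finrank (KK Y A) A) {N : Subgroup Γ} (hN : AllT W N Y A) {X : AddSubgroup W}
    (hX : ∀ n ∈ N, ∀ x ∈ X, n • x ∈ X) {w : W} (hwX : w ∈ X) (hw : w ∈ img Y A W) (hw0 : w ≠ 0) :
    ∃ f : HomY Y A W, f ≠ 0 ∧ ∀ a, (f : A →+ W) a ∈ X := by
  obtain ⟨φ, f, hf, h1⟩ := contr hw hw0
  obtain ⟨a, ha0, ha⟩ := exists_ker dA φ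
  obtain ⟨n, hn, hn'⟩ := hN φ a ha
  have h2 : (f : A →+ W) a ∈ X := by
    have e : (f : A →+ W) a = n • w - w := by rw [h1 a n hn']; abel
    rw [e]
    exact X.sub_mem (hX n hn w hwX) hwX
  refine ⟨f, hf, fun x => ?_⟩
  let B : AddSubgroup A := X.comap (f : A →+ W)
  refine (irr_tv dA (B := B) (fun ψ c hc x hx => ?_) (a := a) h2 ha0 x : x ∈ B)
  obtain ⟨m, hm, hm'⟩ := hN ψ c hc
  change (f : A →+ W) (ψ x • c) ∈ X
  have e : (f : A →+ W) (ψ x • c) = m • (f : A →+ W) x - (f : A →+ W) x := by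
    rw [hm', tm_apply, map_add]; abel
  rw [e]
  exact X.sub_mem (hX m hm _ hx) hx

/-- no fixed points -/
theorem fix_eq_zero (dA : 2 ≤ Module.finrank (KK Y A) A) {N : Subgroup Γ} (hN : AllT W N Y A) {w : W}
    (hw : w ∈ img Y A W) (hfix : ∀ n ∈ N, n • w = w) : w = 0 := by
  by_contra hw0
  obtain ⟨φ, f, hf, h1⟩ := contr hw hw0
  obtain ⟨a, ha0, ha⟩ := exists_ker dA φ
  obtain ⟨n, hn, hn'⟩ := hN φ a ha
  have h2 := h1 a n hn'
  rw [hfix n hn] at h2
  exact hf (HomY.eq_zero (left_eq_add.1 h2) ha0)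

end fin

/-- **products of commuting transvections** -/
theorem prod_tv {N : Subgroup Γ} (hN : AllT W N Y A) (δ : A →ₗ[KK Y A] A) (h2 : ∀ x, δ (δ x) = 0) :
    ∃ n ∈ N, Ac W n (LinearMap.id + δ) := by
  classical
  have hfin : Module.Finite (KK Y A) A := Module.Finite.of_finite
  let b := Module.finBasis (KK Y A) (LinearMap.range δ)
  let φ : Fin (Module.finrank (KK Y A) (LinearMap.range δ)) → Module.Dual (KK Y A) A := fun i =>
    (b.coord i) ∘ₗ δ.rangeRestrict
  have hφ : ∀ i x, φ i x = b.repr (δ.rangeRestrict x) i := fun i x => rfl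
  have hφb : ∀ i j, φ i ((b j : LinearMap.range δ) : A) = 0 := by
    intro i j
    obtain ⟨x, hx⟩ := (b j).2
    have h3 : δ.rangeRestrict ((b j : LinearMap.range δ) : A) = 0 := Subtype.ext (by
      change δ ((b j : LinearMap.range δ) : A) = 0
      rw [← hx, h2])
    rw [hφ, h3, map_zero]; rfl
  have key : ∀ s : Finset (Fin (Module.finrank (KK Y A) (LinearMap.range δ))),
      ∃ n ∈ N, Ac W n (LinearMap.id + ∑ i ∈ s, (φ i).smulRight ((b i : LinearMap.range δ) : A)) := by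
    intro s
    induction s using Finset.induction_on with
    | empty => exact ⟨1, one_mem _, fun f a => by rw [Finset.sum_empty, add_zero, one_smul]; rfl⟩
    | insert j s hj ih =>
      obtain ⟨n, hn, h3⟩ := ih
      obtain ⟨m, hm, h4⟩ := hN (φ j) ((b j : LinearMap.range δ) : A) (hφb j j)
      refine ⟨m * n, mul_mem hm hn, (h4.mul h3).congr fun a => ?_⟩
      rw [LinearMap.comp_apply, tm_apply, LinearMap.add_apply, LinearMap.id_apply, LinearMap.sum_apply,
        Finset.sum_insert hj, LinearMap.add_apply, LinearMap.id_apply, LinearMap.add_apply, LinearMap.sum_apply]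
      have h5 : φ j (a + ∑ i ∈ s, ((φ i).smulRight ((b i : LinearMap.range δ) : A)) a) = φ j a := by
        rw [map_add, map_sum]
        have : ∑ i ∈ s, φ j (((φ i).smulRight ((b i : LinearMap.range δ) : A)) a) = 0 :=
          Finset.sum_eq_zero fun i _ => by
            rw [LinearMap.smulRight_apply, map_smul, hφb, smul_zero]
        rw [this, add_zero]
      rw [h5, LinearMap.smulRight_apply]
      abel
  obtain ⟨n, hn, h3⟩ := key Finset.univ
  refine ⟨n, hn, h3.congr fun a => ?_⟩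
  rw [LinearMap.add_apply, LinearMap.add_apply, LinearMap.id_apply, LinearMap.sum_apply]
  congr 1
  have h4 := congrArg Subtype.val (b.sum_repr (δ.rangeRestrict a))
  have h5 : ((δ.rangeRestrict a : LinearMap.range δ) : A) = δ a := rfl
  rw [h5] at h4
  rw [← h4, AddSubmonoidClass.coe_finsetSum]
  rfl

/-- **LEMMA NS** -/
theorem ns (two : ∀ a : A, a + a = 0) (tv : AllTv Y A) {N : Subgroup Γ}
    (hY : ∀ y ∈ Y, ∀ n ∈ N, y * n * y⁻¹ ∈ N) {t : Γ} (ht : t ∈ N) {θ : A →ₗ[KK Y A] A} (hθ : Ac W t θ)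
    (h2 : ∀ a, θ (θ a) = a) (h0 : ∃ a, θ a ≠ a) : AllT W N Y A := by
  have hK := kk_two (Y := Y) two
  have neg : ∀ a : A, -a = a := fun a => neg_eq_of_add_eq_zero_left (two a)
  have hinv : ∀ {y : Γ} {η : A →ₗ[KK Y A] A}, Ac W y η → (∀ a, η (η a) = a) → Ac W y⁻¹ η := by
    intro y η hy hη f a
    rw [inv_smul_eq_iff, hy, hη]
  have htm : ∀ (φ : Module.Dual (KK Y A) A) (a : A), φ a = 0 → ∀ x, tm φ a (tm φ a x) = x := by
    intro φ a ha x
    rw [tm_apply, tm_apply, map_add, map_smul, ha, smul_zero, add_zero, add_assoc, two, add_zero]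
  have hAY := allT_self (W := W) tv
  refine all_tv hK two (fun φ a => ∃ n ∈ N, Ac W n (tm φ a)) ?_ ?_ ?_ ?_ ?_
  · rintro φ a b ha hb ⟨n, hn, h3⟩ ⟨m, hm, h4⟩
    refine ⟨n * m, mul_mem hn hm, (h3.mul h4).congr fun x => ?_⟩
    rw [LinearMap.comp_apply, tm_apply, tm_apply, tm_apply, map_add, map_smul, hb, smul_zero, add_zero, smul_add]
    abel
  · rintro κ φ a ⟨n, hn, h3⟩
    refine ⟨n, hn, h3.congr fun x => ?_⟩
    rw [tm_apply, tm_apply, LinearMap.smul_apply, smul_eq_mul, mul_comm, mul_smul]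
  · rintro κ φ a ⟨n, hn, h3⟩
    refine ⟨n, hn, h3.congr fun x => ?_⟩
    rw [tm_apply, tm_apply, LinearMap.smul_apply, smul_eq_mul, mul_comm, mul_smul]
  · rintro φ a χ b ha hb ⟨n, hn, h3⟩
    obtain ⟨y, hy, h4⟩ := hAY χ b hb
    refine ⟨y * n * y⁻¹, hY y hy n hn, ((h4.mul h3).mul (hinv h4 (htm χ b hb))).congr fun x => ?_⟩
    have hs : φ (x + χ x • b) = (φ + φ b • χ) x := by
      rw [map_add, map_smul, LinearMap.add_apply, LinearMap.smul_apply, smul_eq_mul, smul_eq_mul, mul_comm]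
    rw [LinearMap.comp_apply, LinearMap.comp_apply, tm_apply χ b x, tm_apply φ a, hs, tm_apply χ b, tm_apply]
    have h5 : ∀ s : KK Y A, χ (x + χ x • b + s • a) = χ x + s * χ a := fun s => by
      rw [map_add, map_add, map_smul, map_smul, hb, smul_zero, add_zero, smul_eq_mul]
    rw [h5, add_smul, mul_smul, smul_add]
    calc x + χ x • b + (φ + φ b • χ) x • a + (χ x • b + (φ + φ b • χ) x • χ a • b)
        = (x + ((φ + φ b • χ) x • a + (φ + φ b • χ) x • χ a • b)) + (χ x • b + χ x • b) := by abel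
      _ = _ := by rw [two, add_zero]
  · let δ : A →ₗ[KK Y A] A := θ - LinearMap.id
    have hδ : ∀ x, δ x = θ x - x := fun x => rfl
    have hθδ : ∀ x, θ x = x + δ x := fun x => by rw [hδ]; abel
    have hδ2 : ∀ x, δ (δ x) = 0 := fun x => by
      rw [hδ, hδ, map_sub, h2]
      have e : x - θ x - (θ x - x) = (x + x) - (θ x + θ x) := by abel
      rw [e, two, two, sub_zero]
    rcases exists_first δ hδ2 (by
      obtain ⟨a, ha⟩ := h0
      exact ⟨a, fun h => ha (by rw [hθδ, h, add_zero])⟩) with ⟨φ, a, h3, h4, h5, h6⟩ | ⟨φ, a, h3, h4, h5, h6⟩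
    · refine ⟨φ, a, h3, h4, h5, t, ht, hθ.congr fun x => ?_⟩
      rw [hθδ, h6, tm_apply]
    · obtain ⟨y, hy, h7⟩ := hAY φ a h5
      refine ⟨φ, δ a, h3, h4, h6 a, t * (y * t⁻¹ * y⁻¹), mul_mem ht (hY y hy _ (inv_mem ht)),
        (hθ.mul ((h7.mul (hinv hθ h2)).mul (hinv h7 (htm φ a h5)))).congr fun x => ?_⟩
      rw [LinearMap.comp_apply, LinearMap.comp_apply, LinearMap.comp_apply, tm_apply φ a x, hθδ (x + φ x • a),
        map_add δ, map_smul δ, tm_apply φ a]
      have h8 : φ (x + φ x • a + (δ x + φ x • δ a)) = φ x := by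
        rw [map_add, map_add, map_add, map_smul, map_smul, h5, h6, h6, smul_zero, add_zero, add_zero, add_zero]
      have h9 : δ (x + φ x • a + (δ x + φ x • δ a) + φ x • a) = δ x + (φ x • δ a + φ x • δ a) := by
        simp only [map_add, map_smul, hδ2, smul_zero, add_zero]
        abel
      rw [h8, hθδ, h9, tm_apply, two, add_zero]
      calc x + φ x • a + (δ x + φ x • δ a) + φ x • a + δ x
          = (x + φ x • δ a) + ((φ x • a + φ x • a) + (δ x + δ x)) := by abel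
        _ = _ := by rw [two, two, add_zero, add_zero]

end Cfsg.Agent.Omega.NO3b.BasePt.Pr

end

section


/-!
# Two panels (NotFFG, base point, (B1); helper25, helper957): the core

`Ya ≤ Ka`, `Yb ≤ Kb` blocks on `V`, `Ka ≤ Kb` normal in `M`, `O₂(M) = 1`.

* `pair_core` : if `Ya` moves `[W, Yb]` then `Ya = Yb`;
* `pair_triv` : if all conjugates of `Ya` centralise `[W, Yb]` then all conjugates of `Yb` centralise `[W, Ya]`.
-/

set_option autoImplicit false

namespace Cfsg.Agent.Omega.NO3b.BasePt.Pr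

open Subgroup
open Cfsg.Agent.Omega.NO3b.Exit Cfsg.Agent.Omega.NO3b.Exit.Ten Cfsg.Agent.Omega.NO3b.Exit.Descent
open Cfsg.Agent.Omega.NO3b.Exit.TDat (Red)
open Cfsg.Agent.Omega.NO3b.OneR (exists_dual_one)
open Cfsg.Agent.Omega.FF.Basic (fx)
open scoped Pointwise

universe u v w

variable {Γ : Type u} [Group Γ] {W : Type v} [AddCommGroup W] [DistribMulAction Γ W]

theorem br_mem_cm {Y : Subgroup Γ} {y : Γ} (hy : y ∈ Y) (w : W) : y • w - w ∈ cm W Y :=
  AddSubgroup.subset_closure ⟨y, hy, w, rfl⟩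

theorem smul_cm {Y : Subgroup Γ} {y : Γ} (hy : y ∈ Y) {v : W} (hv : v ∈ cm W Y) : y • v ∈ cm W Y := by
  have e : y • v = (y • v - v) + v := by abel
  rw [e]
  exact add_mem (br_mem_cm hy v) hv

/-- an element of a normal subgroup `K` of `M` trivial on `V` and `W / V` is trivial if `O₂(M) = 1` -/
theorem eq_one_of_red [Finite Γ] {M K : Subgroup Γ} (faith : ∀ g : Γ, (∀ w : W, g • w = w) → g = 1)
    (two : ∀ w : W, w + w = 0) (red : Red M (⊤ : AddSubgroup W)) (KM : K ≤ M)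
    (nK : ∀ m ∈ M, ∀ k ∈ K, m * k * m⁻¹ ∈ K) {V : AddSubgroup W} (KV : ∀ k ∈ K, ∀ v ∈ V, k • v ∈ V) {k : Γ}
    (hk : k ∈ K) (h1 : ∀ v ∈ V, k • v = v) (h2 : ∀ w : W, k • w - w ∈ V) : k = 1 := by
  have hred : Red K (⊤ : AddSubgroup W) := red.normal (fun _ _ _ _ => trivial) KM nK
  let N : Subgroup Γ :=
    { carrier := {g | g ∈ K ∧ (∀ v ∈ V, g • v = v) ∧ ∀ w : W, g • w - w ∈ V}
      one_mem' := ⟨one_mem _, fun v _ => one_smul _ v, fun w => by rw [one_smul, sub_self]; exact zero_mem _⟩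
      mul_mem' := by
        rintro a b ⟨ha, ha1, ha2⟩ ⟨hb, hb1, hb2⟩
        refine ⟨mul_mem ha hb, fun v hv => by rw [mul_smul, hb1 v hv, ha1 v hv], fun w => ?_⟩
        have e : (a * b) • w - w = a • (b • w - w) + (a • w - w) := by rw [mul_smul, smul_sub]; abel
        rw [e, ha1 _ (hb2 w)]
        exact add_mem (hb2 w) (ha2 w)
      inv_mem' := by
        rintro a ⟨ha, ha1, ha2⟩
        have h3 : ∀ v ∈ V, a⁻¹ • v = v := fun v hv => by rw [inv_smul_eq_iff, ha1 v hv]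
        refine ⟨inv_mem ha, h3, fun w => ?_⟩
        have e : a⁻¹ • w - w = - (a⁻¹ • (a • w - w)) := by rw [smul_sub, inv_smul_smul]; abel
        rw [e, h3 _ (ha2 w)]
        exact neg_mem (ha2 w) }
  refine faith k fun w => hred N (fun g hg => hg.1) ?_ ?_ k ⟨hk, h1, h2⟩ w trivial
  · rintro g hg n ⟨hn, hn1, hn2⟩
    refine ⟨mul_mem (mul_mem hg hn) (inv_mem hg), fun v hv => ?_, fun w => ?_⟩
    · rw [mul_smul, mul_smul, hn1 _ (KV _ (inv_mem hg) v hv), smul_inv_smul]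
    · have e : (g * n * g⁻¹) • w - w = g • (n • (g⁻¹ • w) - g⁻¹ • w) := by
        rw [smul_sub, smul_inv_smul, mul_smul, mul_smul]
      rw [e]
      exact KV g hg _ (hn2 _)
  · rintro n ⟨hn, hn1, hn2⟩
    refine ⟨1, fun w _ => ?_⟩
    have e : n ^ 2 ^ 1 • w = w + ((n • w - w) + (n • w - w)) := by
      have e1 : n • (n • w) = n • (n • w - w) + n • w := by rw [smul_sub]; abel
      rw [pow_one, sq, mul_smul, e1, hn1 _ (hn2 w)]
      abel
    rw [e, two, add_zero]

section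

variable {Y : Subgroup Γ} {A : Type w} [AddCommGroup A] [Finite A] [DistribMulAction Y A] [hI : IsIrr Y A]

theorem exists_hom_ne (dE : 2 ≤ Module.finrank (KK Y A) (HomY Y A W)) : ∃ f : HomY Y A W, f ≠ 0 := by
  by_contra hcon
  push Not at hcon
  have : Subsingleton (HomY Y A W) := ⟨fun a b => by rw [hcon a, hcon b]⟩
  rw [Module.finrank_zero_of_subsingleton] at dE
  omega

/-- `y ∈ Y` acts as `θ ⊗ 1` -/
theorem exists_actY {y : Γ} (hy : y ∈ Y) : ∃ θ : A →ₗ[KK Y A] A, Ac W y θ :=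
  ⟨{ toFun := fun a => (⟨y, hy⟩ : Y) • a, map_add' := fun _ _ => smul_add _ _ _,
     map_smul' := fun _ _ => (KK.smul_smul_comm _ _ _).symm }, fun f a => (f.2 ⟨y, hy⟩ a).symm⟩

/-- `k`, `l` acting in the same way on `A` agree on `img` -/
theorem eq_on {k l : Γ} {θ η : A →ₗ[KK Y A] A} (hk : Ac W k θ) (hl : Ac W l η) (h : ∀ a, θ a = η a) {v : W}
    (hv : v ∈ img Y A W) : k • v = l • v := by
  induction hv using AddSubgroup.closure_induction with
  | mem v hv =>
    obtain ⟨f, a, rfl⟩ := hv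
    rw [hk, hl, h]
  | zero => rw [smul_zero, smul_zero]
  | add a b _ _ ha hb => rw [smul_add, smul_add, ha, hb]
  | neg a _ ha => rw [smul_neg, smul_neg, ha]

/-- an involution acting as `θ ⊗ 1` acts like an element of `N`, if `N` induces all transvections -/
theorem exists_of_invol (two : ∀ a : A, a + a = 0) (hE : ∃ f : HomY Y A W, f ≠ 0) {N : Subgroup Γ} (hN : AllT W N Y A)
    {k : Γ} {θ : A →ₗ[KK Y A] A} (hk : Ac W k θ) (h2 : k * k = 1) :
    ∃ n ∈ N, Ac W n θ ∧ ∀ v ∈ img Y A W, k • v = n • v := by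
  obtain ⟨f, hf⟩ := hE
  have hθ : ∀ a, θ (θ a) = a := fun a => HomY.inj hf (by rw [← hk, ← hk, smul_smul, h2, one_smul])
  obtain ⟨n, hn, h3⟩ := prod_tv hN (θ - LinearMap.id) (fun x => by
    rw [LinearMap.sub_apply, LinearMap.sub_apply, map_sub, hθ, LinearMap.id_apply, LinearMap.id_apply]
    have e : x - θ x - (θ x - x) = (x + x) - (θ x + θ x) := by abel
    rw [e, two, two, sub_zero])
  have h4 : Ac W n θ := h3.congr fun a => by
    rw [LinearMap.add_apply, LinearMap.sub_apply, LinearMap.id_apply]; abel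
  exact ⟨n, hn, h4, fun v hv => eq_on hk h4 (fun _ => rfl) hv⟩

end

section core

variable [Finite Γ] [Finite W] {M : Subgroup Γ} {Fa Fb : AddSubgroup W} {Ya Ka Yb Kb : Subgroup Γ}

omit [Finite Γ] [Finite W] in
theorem pb_KV {F : AddSubgroup W} {Y K : Subgroup Γ} (p : PB W M F Y K) : ∀ k ∈ K, ∀ v ∈ cm W Y, k • v ∈ cm W Y := by
  intro k hk v hv
  rw [← p.stab k hk]
  exact AddSubgroup.smul_mem_pointwise_smul _ _ _ hv

/-- **The core.** -/
theorem pair_core (faith : ∀ g : Γ, (∀ w : W, g • w = w) → g = 1) (two : ∀ w : W, w + w = 0)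
    (red : Red M (⊤ : AddSubgroup W)) (pa : PB W M Fa Ya Ka) (pb : PB W M Fb Yb Kb) (hK : Ka ≤ Kb)
    (hne : ∃ y ∈ Ya, ∃ v ∈ cm W Yb, y • v ≠ v) : Ya = Yb := by
  classical
  obtain ⟨A, _, _, _, hIA, tvA, twoA, hVA, dA, dEA⟩ := pa.blk.ex
  obtain ⟨B, _, _, _, hIB, tvB, twoB, hVB, dB, dEB⟩ := pb.blk.ex
  have hEA := exists_hom_ne dEA
  have hEB := exists_hom_ne dEB
  have actA : ∀ k ∈ Ka, ∃ θ : A →ₗ[KK Ya A] A, Ac W k θ := fun k hk =>
    exists_act hVA hEA ((pb_KV pa) k hk) (pa.lin k hk)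
  have actB : ∀ k ∈ Kb, ∃ θ : B →ₗ[KK Yb B] B, Ac W k θ := fun k hk =>
    exists_act hVB hEB ((pb_KV pb) k hk) (pb.lin k hk)
  have hYaKb : Ya ≤ Kb := pa.YK.trans hK
  -- an involution
  obtain ⟨t, htY, ht2, v₀, hv₀, htv⟩ : ∃ t ∈ Ya, t * t = 1 ∧ ∃ v ∈ cm W Yb, t • v ≠ v := by
    by_contra hcon
    push Not at hcon
    obtain ⟨y, hy, v, hv, hne⟩ := hne
    apply hne
    have h1 := pa.blk.gen hy
    clear hy hne
    induction h1 using closure_induction with
    | mem x hx => exact hcon x hx.1 hx.2 v hv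
    | one => exact one_smul _ _
    | mul a b _ _ ha hb => rw [mul_smul, hb, ha]
    | inv a _ ha => rw [inv_smul_eq_iff, ha]
  obtain ⟨θt, hθt⟩ := actB t (hYaKb htY)
  obtain ⟨fB, hfB⟩ := hEB
  have hKb : AllT W Ka Yb B := by
    refine ns twoB tvB (fun y hy n hn => pa.nK y (pb.KM (pb.YK hy)) n hn) (pa.YK htY) hθt ?_ ?_
    · exact fun a => HomY.inj hfB (by rw [← hθt, ← hθt, smul_smul, ht2, one_smul])
    · by_contra hcon
      push Not at hcon
      apply htv
      rw [hVB] at hv₀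
      have h1 : Ac W (1 : Γ) (LinearMap.id : B →ₗ[KK Yb B] B) := fun f a => by rw [one_smul]; rfl
      have h2 := eq_on hθt h1 hcon hv₀
      rwa [one_smul] at h2
  have hKa : AllT W Ka Ya A := (allT_self tvA).mono pa.YK
  -- `V_a ∩ V_b ≠ 0`
  have hKXa : ∀ n ∈ Ka, ∀ x ∈ cm W Ya ⊓ cm W Yb, n • x ∈ cm W Ya ⊓ cm W Yb := fun n hn x hx =>
    ⟨(pb_KV pa) n hn x hx.1, (pb_KV pb) n (hK hn) x hx.2⟩
  have hw : t • v₀ - v₀ ∈ cm W Ya ⊓ cm W Yb :=
    ⟨br_mem_cm htY v₀, (cm W Yb).sub_mem ((pb_KV pb) t (hYaKb htY) v₀ hv₀) hv₀⟩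
  obtain ⟨f, hf, hfX⟩ := exists_sub dB hKb hKXa hw (by rw [← hVB]; exact hw.2) (sub_ne_zero.2 htv)
  have hKf : ∀ n ∈ Ka, ∀ x ∈ (f : B →+ W).range, n • x ∈ (f : B →+ W).range := by
    rintro n hn _ ⟨b, rfl⟩
    obtain ⟨η, hη⟩ := actB n (hK hn)
    exact ⟨η b, (hη f b).symm⟩
  obtain ⟨b₁, hb₁⟩ := hIB.ne
  obtain ⟨g, hg, hgf⟩ := exists_sub dA hKa hKf (w := (f : B →+ W) b₁) ⟨b₁, rfl⟩
    (by rw [← hVA]; exact (hfX b₁).1) (fun h0 => hb₁ (HomY.inj hf (h0.trans (map_zero _).symm)))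
  -- `τ`
  have hτ : ∀ a : A, ∃ b : B, (f : B →+ W) b = (g : A →+ W) a := fun a => hgf a
  choose τ hτ using hτ
  have hτ0 : ∀ a, a ≠ 0 → τ a ≠ 0 := fun a ha h0 => ha (HomY.inj hg (by rw [← hτ, h0, map_zero, map_zero]))
  have hτa : ∀ a a', τ (a + a') = τ a + τ a' := fun a a' => HomY.inj hf (by
    rw [hτ, map_add, map_add, hτ, hτ])
  have hτs : ∀ b : B, ∃ a : A, τ a = b := by
    obtain ⟨a₁, ha₁⟩ := hIA.ne
    intro b
    have h1 : ∀ b : B, b ∈ ((g : A →+ W).range.comap (f : B →+ W)) := by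
      refine irr_tv dB (fun ψ c hc x hx => ?_) (a := τ a₁) (show (f : B →+ W) (τ a₁) ∈ (g : A →+ W).range from
        ⟨a₁, (hτ a₁).symm⟩) (hτ0 a₁ ha₁)
      obtain ⟨n, hn, hn'⟩ := hKb ψ c hc
      obtain ⟨a, ha⟩ := hx
      obtain ⟨θ, hθ⟩ := actA n hn
      change (f : B →+ W) (ψ x • c) ∈ (g : A →+ W).range
      have e : (f : B →+ W) (ψ x • c) = n • (f : B →+ W) x - (f : B →+ W) x := by
        rw [hn', tm_apply, map_add]; abel
      rw [e, ← ha, hθ, ← map_sub]
      exact ⟨_, rfl⟩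
    obtain ⟨a, ha⟩ := h1 b
    exact ⟨a, HomY.inj hf (by rw [hτ, ha])⟩
  -- `τ` intertwines `Ka`
  have hτK : ∀ n ∈ Ka, ∀ {θ : A →ₗ[KK Ya A] A} {η : B →ₗ[KK Yb B] B}, Ac W n θ → Ac W n η → ∀ a, η (τ a) = τ (θ a) := by
    intro n _ θ η h1 h2 a
    apply HomY.inj hf
    rw [← h2, hτ, hτ, h1]
  -- `V_b ≤ V_a`
  have hba : cm W Yb ≤ cm W Ya := by
    rw [hVB]
    refine (AddSubgroup.closure_le _).2 ?_
    rintro _ ⟨h, b, rfl⟩
    obtain ⟨a, rfl⟩ := hτs b
    have hh : ∀ (y : Ya) (a : A), (h : B →+ W) (τ (y • a)) = y • (h : B →+ W) (τ a) := by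
      intro y a
      obtain ⟨η, hη⟩ := actB y (hYaKb y.2)
      have h1 : η (τ a) = τ (y • a) := HomY.inj hf (by rw [← hη, hτ, hτ, g.2]; rfl)
      rw [← h1]
      exact (hη h (τ a)).symm
    let h' : HomY Ya A W := ⟨AddMonoidHom.mk' (fun a => (h : B →+ W) (τ a)) fun a a' => by rw [hτa, map_add], hh⟩
    have e : (h : B →+ W) (τ a) = (h' : A →+ W) a := rfl
    change (h : B →+ W) (τ a) ∈ cm W Ya
    rw [e, hVA]
    exact mem_img h' a
  -- `V_a ≤ V_b`
  have hab : cm W Ya ≤ cm W Yb := by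
    by_contra hcon
    obtain ⟨g', a', hg'⟩ : ∃ (g' : HomY Ya A W) (a : A), (g' : A →+ W) a ∉ cm W Yb := by
      by_contra h0
      push Not at h0
      apply hcon
      rw [hVA]
      refine (AddSubgroup.closure_le _).2 ?_
      rintro _ ⟨h, a, rfl⟩
      exact h0 h a
    have hno : ∀ x : A, (g' : A →+ W) x ∈ cm W Yb → x = 0 := by
      intro x hx
      by_contra hx0
      apply hg'
      refine (irr_tv dA (B := (cm W Yb).comap (g' : A →+ W)) (fun ψ c hc x hx => ?_) (a := x) hx hx0 a' :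
        a' ∈ (cm W Yb).comap (g' : A →+ W))
      obtain ⟨n, hn, hn'⟩ := hKa ψ c hc
      change (g' : A →+ W) (ψ x • c) ∈ cm W Yb
      have e : (g' : A →+ W) (ψ x • c) = n • (g' : A →+ W) x - (g' : A →+ W) x := by
        rw [hn', tm_apply, map_add]; abel
      rw [e]
      exact (cm W Yb).sub_mem ((pb_KV pb) n (hK hn) _ hx) hx
    -- `Yb` commutes with `Ka` on `V_b`
    have hcomm : ∀ y ∈ Yb, ∀ n ∈ Ka, ∀ v ∈ cm W Yb, y • n • v = n • y • v := by
      intro y hy n hn v hv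
      have hn' : y * n * y⁻¹ ∈ Ka := pa.nK y (pb.KM (pb.YK hy)) n hn
      obtain ⟨θ, hθ⟩ := actA n hn
      obtain ⟨θ', hθ'⟩ := actA _ hn'
      obtain ⟨η, hη⟩ := actB n (hK hn)
      obtain ⟨η', hη'⟩ := actB _ (hK hn')
      have h1 : ∀ x, θ x = θ' x := by
        intro x
        rw [← sub_eq_zero]
        apply hno
        have h2 : y • n • (g' : A →+ W) x = (y * n * y⁻¹) • y • (g' : A →+ W) x := by
          rw [smul_smul, smul_smul, inv_mul_cancel_right]
        have h3 : y • (g' : A →+ W) x = (g' : A →+ W) x + (y • (g' : A →+ W) x - (g' : A →+ W) x) := by abel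
        rw [hθ, h3, smul_add, hθ'] at h2
        have h4 : (g' : A →+ W) (θ x - θ' x) =
            (y * n * y⁻¹) • (y • (g' : A →+ W) x - (g' : A →+ W) x) - (y • (g' : A →+ W) (θ x) - (g' : A →+ W) (θ x)) := by
          rw [h2, map_sub]; abel
        rw [h4]
        exact (cm W Yb).sub_mem ((pb_KV pb) _ (hK hn') _ (br_mem_cm hy _)) (br_mem_cm hy _)
      have h5 : ∀ b, η b = η' b := by
        intro b
        obtain ⟨a, rfl⟩ := hτs b
        rw [hτK n hn hθ hη, hτK _ hn' hθ' hη', h1]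
      have h6 := eq_on hη hη' h5 (v := y • v) (by rw [← hVB]; exact smul_cm hy hv)
      rw [h6, smul_smul, smul_smul, inv_mul_cancel_right]
    -- two transvections which do not commute
    obtain ⟨c, hc0⟩ := hIB.ne
    obtain ⟨b₀, hb₀⟩ := exists_indep dB c
    have hb₀0 : b₀ ≠ 0 := fun h => hb₀ 0 (by rw [zero_smul, h])
    obtain ⟨φ, hφ1, hφ2⟩ := exists_dual_one (K := KK Yb B) (a := b₀) (b := c) (fun κ e => by
      have hκ : κ ≠ 0 := by
        rintro rfl
        rw [zero_smul] at e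
        exact hc0 e.symm
      exact hb₀ κ⁻¹ (by rw [← e, smul_smul, inv_mul_cancel₀ hκ, one_smul])) hb₀0
    obtain ⟨χ, hχ1, hχ2⟩ := exists_dual_one (K := KK Yb B) (a := c) (b := b₀) hb₀ hc0
    obtain ⟨n, hn, hn'⟩ := hKb φ c hφ2
    obtain ⟨y, hy, hy'⟩ := (allT_self (W := W) tvB) χ b₀ hχ2
    have h1 := hcomm y hy n hn ((f : B →+ W) b₀) (hfX b₀).2
    have e1 : tm φ c b₀ = b₀ + c := by rw [tm_apply, hφ1, one_smul]
    have e2 : tm χ b₀ (b₀ + c) = c := by
      rw [tm_apply, map_add, hχ2, hχ1, zero_add, one_smul]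
      calc b₀ + c + b₀ = c + (b₀ + b₀) := by abel
        _ = c := by rw [twoB, add_zero]
    have e3 : tm χ b₀ b₀ = b₀ := by rw [tm_apply, hχ2, zero_smul, add_zero]
    rw [hn', hy', hy', hn', e1, e2, e3, e1] at h1
    have h2 := HomY.inj hf h1
    exact hb₀0 (right_eq_add.1 h2)
  have hVab : cm W Ya = cm W Yb := le_antisymm hab hba
  -- elements of `Ya`, `Yb` which agree on `V`
  have heq : ∀ x ∈ Ya, ∀ y ∈ Yb, (∀ v ∈ cm W Yb, y • v = x • v) → x = y := by
    intro x hx y hy h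
    have h1 : x⁻¹ * y = 1 := by
      refine eq_one_of_red faith two red pb.KM pb.nK (pb_KV pb) (mul_mem (inv_mem (hYaKb hx)) (pb.YK hy)) ?_ ?_
      · intro v hv
        rw [mul_smul, h v hv, inv_smul_smul]
      · intro w
        have e : (x⁻¹ * y) • w - w = x⁻¹ • (y • w - w) + (x⁻¹ • w - w) := by rw [mul_smul, smul_sub]; abel
        rw [e]
        refine add_mem ((pb_KV pb) _ (inv_mem (hYaKb hx)) _ (br_mem_cm hy w)) ?_
        rw [← hVab]
        exact br_mem_cm (inv_mem hx) w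
    exact inv_mul_eq_one.1 h1
  refine le_antisymm ?_ ?_
  · refine pa.blk.gen.trans ((closure_le _).2 ?_)
    rintro x ⟨hx, hx2⟩
    obtain ⟨η, hη⟩ := actB x (hYaKb hx)
    obtain ⟨y, hy, -, h1⟩ := exists_of_invol twoB ⟨fB, hfB⟩ (allT_self tvB) hη hx2
    have h2 := heq x hx y hy fun v hv => by
      rw [hVB] at hv
      exact (h1 v hv).symm
    rw [h2]
    exact hy
  · refine pb.blk.gen.trans ((closure_le _).2 ?_)
    rintro y ⟨hy, hy2⟩
    obtain ⟨η, hη⟩ := actB y (pb.YK hy)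
    obtain ⟨n, hn, -, h1⟩ := exists_of_invol twoB ⟨fB, hfB⟩ hKb hη hy2
    rw [← hVB] at h1
    obtain ⟨θ, hθ⟩ := exists_act (k := y) hVA hEA (fun v hv => by
      rw [hVab] at hv ⊢
      exact smul_cm hy hv) (fun e he v v' h => by
        have h2 : (v' : W) = n • (v : W) := by rw [h, h1 v (hVab ▸ v.2)]
        have h3 := pa.lin n hn e he v v' h2
        rw [h3, h1 _ (hVab ▸ (e v).2)])
    obtain ⟨x, hx, -, h2⟩ := exists_of_invol twoA hEA (allT_self tvA) hθ hy2
    have h3 := heq x hx y hy fun v hv => by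
      rw [← hVab, hVA] at hv
      exact h2 v hv
    rw [← h3]
    exact hx

omit [Finite Γ] in
/-- **The disjoint case.** -/
theorem pair_triv (pa : PB W M Fa Ya Ka) (hYM : Yb ≤ M)
    (h : ∀ m ∈ M, ∀ y ∈ Ya, ∀ v ∈ m • cm W Yb, y • v = v) : ∀ m ∈ M, ∀ y ∈ Yb, ∀ v ∈ m • cm W Ya, y • v = v := by
  obtain ⟨A, _, _, _, hIA, tvA, twoA, hVA, dA, dEA⟩ := pa.blk.ex
  have hsm : ∀ (m : Γ) (X : AddSubgroup W) (v : W), v ∈ m • X ↔ m⁻¹ • v ∈ X := fun m X v =>
    AddSubgroup.mem_pointwise_smul_iff_inv_smul_mem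
  -- conjugates of `Ya` centralise `V_b`
  have h' : ∀ m ∈ M, ∀ y ∈ Ya, ∀ v ∈ cm W Yb, (m * y * m⁻¹) • v = v := by
    intro m hm y hy v hv
    have h1 := h m⁻¹ (inv_mem hm) y hy (m⁻¹ • v) ((hsm _ _ _).2 (by rwa [inv_inv, smul_inv_smul]))
    rw [mul_smul, mul_smul, h1, smul_inv_smul]
  intro m hm y hy v hv
  have hv' := (hsm _ _ _).1 hv
  -- `y m V_a = m V_a`
  have hst : (m⁻¹ * y * m) • cm W Ya = cm W Ya := by
    by_contra hcon
    have hmM : m⁻¹ * y * m ∈ M := mul_mem (mul_mem (inv_mem hm) (hYM hy)) hm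
    -- `m Ya m⁻¹` centralises `m V_a`
    have h2 : ∀ x ∈ Ya, ∀ u ∈ cm W Ya, x • u = u := by
      intro x hx u hu
      have h3 := h' m hm x hx (y • m • u - m • u) (br_mem_cm hy _)
      have h4 : (m * x * m⁻¹) • (y • m • u) = y • m • u := by
        have h5 := pa.cen _ hmM hcon x hx ((m⁻¹ * y * m) • u) (AddSubgroup.smul_mem_pointwise_smul _ _ _ hu)
        have e : m⁻¹ • (y • m • u) = (m⁻¹ * y * m) • u := by rw [mul_smul, mul_smul]
        rw [mul_smul, mul_smul, e, h5, ← e, smul_inv_smul]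
      rw [smul_sub, h4] at h3
      have h5 : (m * x * m⁻¹) • (m • u) = m • u := sub_right_injective h3
      rw [mul_smul, inv_smul_smul, mul_smul] at h5
      exact smul_left_cancel m h5
    obtain ⟨f, hf⟩ := exists_hom_ne dEA
    obtain ⟨a, ha⟩ := hIA.ne
    have h6 : (f : A →+ W) a ∈ img Ya A W := mem_img f a
    have h7 := fix_eq_zero dA (allT_self tvA) h6 fun x hx => h2 x hx _ (by rw [hVA]; exact h6)
    exact ha (HomY.inj hf (h7.trans (map_zero _).symm))
  have h1 : m⁻¹ • (y • v - v) ∈ cm W Ya := by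
    have e : m⁻¹ • (y • v - v) = (m⁻¹ * y * m) • (m⁻¹ • v) - m⁻¹ • v := by
      rw [smul_sub, mul_smul, mul_smul, smul_inv_smul]
    rw [e]
    refine (cm W Ya).sub_mem ?_ hv'
    have h2 : (m⁻¹ * y * m) • (m⁻¹ • v) ∈ (m⁻¹ * y * m) • cm W Ya := AddSubgroup.smul_mem_pointwise_smul _ _ _ hv'
    rwa [hst] at h2
  have h2 : m⁻¹ • (y • v - v) = 0 := by
    rw [hVA] at h1
    refine fix_eq_zero dA (allT_self tvA) h1 fun x hx => ?_
    have h3 := h' m hm x hx (y • v - v) (br_mem_cm hy v)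
    rw [mul_smul, mul_smul] at h3
    conv_rhs => rw [← h3]
    rw [inv_smul_smul]
  have h3 : y • v - v = 0 := by rw [← smul_inv_smul m (y • v - v), h2, smul_zero]
  exact sub_eq_zero.1 h3

end core

end Cfsg.Agent.Omega.NO3b.BasePt.Pr

end

section


/-!
# Two panels (NotFFG, base point, (B1); helper25, helper957)

* `isBlk_conj`, `pb_conj` : conjugation with `m ∈ M`;
* **`pair`** : for two panels with `Ka ≤ Kb`: `Yb` is conjugate to `Ya` in `M`, or all conjugates of `Ya`, `Yb`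
  centralise the blocks of each other.
-/

set_option autoImplicit false

namespace Cfsg.Agent.Omega.NO3b.BasePt.Pr

open Subgroup
open Cfsg.Agent.Omega.NO3b.Exit Cfsg.Agent.Omega.NO3b.Exit.Ten Cfsg.Agent.Omega.NO3b.Exit.Descent
open Cfsg.Agent.Omega.NO3b.Exit.TDat (Red)
open Cfsg.Agent.Omega.FF.Basic (fx)
open scoped Pointwise

universe u v w

variable {Γ : Type u} [Group Γ] {W : Type v} [AddCommGroup W] [DistribMulAction Γ W]

/-- `m Y m⁻¹` -/
abbrev cj (m : Γ) (Y : Subgroup Γ) : Subgroup Γ := Y.map (MulAut.conj m).toMonoidHom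

theorem mem_cj {m : Γ} {Y : Subgroup Γ} {x : Γ} : x ∈ cj m Y ↔ m⁻¹ * x * m ∈ Y := by
  constructor
  · rintro ⟨y, hy, rfl⟩
    have e : m⁻¹ * (m * y * m⁻¹) * m = y := by group
    change m⁻¹ * (m * y * m⁻¹) * m ∈ Y
    rwa [e]
  · intro h
    refine ⟨m⁻¹ * x * m, h, ?_⟩
    change m * (m⁻¹ * x * m) * m⁻¹ = x
    group

theorem cj_cj (m n : Γ) (Y : Subgroup Γ) : cj m (cj n Y) = cj (m * n) Y := by
  ext x
  rw [mem_cj, mem_cj, mem_cj]
  have e : n⁻¹ * (m⁻¹ * x * m) * n = (m * n)⁻¹ * x * (m * n) := by group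
  rw [e]

theorem cj_one (Y : Subgroup Γ) : cj 1 Y = Y := by
  ext x
  rw [mem_cj, inv_one, one_mul, mul_one]

theorem cj_mem {m : Γ} {Y : Subgroup Γ} {y : Γ} (hy : y ∈ Y) : m * y * m⁻¹ ∈ cj m Y := ⟨y, hy, rfl⟩

theorem cm_cj (m : Γ) (Y : Subgroup Γ) : cm W (cj m Y) = m • cm W Y := by
  apply le_antisymm
  · refine (AddSubgroup.closure_le _).2 ?_
    rintro _ ⟨_, ⟨y, hy, rfl⟩, w, rfl⟩
    have e : (MulAut.conj m).toMonoidHom y • w - w = m • (y • (m⁻¹ • w) - m⁻¹ • w) := by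
      change (m * y * m⁻¹) • w - w = _
      rw [smul_sub, smul_inv_smul, mul_smul, mul_smul]
    rw [e]
    exact AddSubgroup.smul_mem_pointwise_smul _ _ _ (br_mem_cm hy _)
  · intro v hv
    obtain ⟨w, hw, rfl⟩ := (AddSubgroup.mem_smul_pointwise_iff_exists _ _ _).1 hv
    clear hv
    change w ∈ AddSubgroup.closure _ at hw
    induction hw using AddSubgroup.closure_induction with
    | mem w hw =>
      obtain ⟨y, hy, w, rfl⟩ := hw
      have e : m • (y • w - w) = (m * y * m⁻¹) • (m • w) - m • w := by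
        rw [smul_sub, mul_smul, mul_smul, inv_smul_smul]
      rw [e]
      exact br_mem_cm (cj_mem hy) _
    | zero => rw [smul_zero]; exact zero_mem _
    | add a b _ _ ha hb => rw [smul_add]; exact add_mem ha hb
    | neg a _ ha => rw [smul_neg]; exact neg_mem ha

/-- `m Y m⁻¹ → Y` -/
def rho (m : Γ) (Y : Subgroup Γ) : cj m Y →* Y where
  toFun x := ⟨m⁻¹ * x * m, mem_cj.1 x.2⟩
  map_one' := Subtype.ext (by change m⁻¹ * 1 * m = 1; group)
  map_mul' x y := Subtype.ext (by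
    change m⁻¹ * ((x : Γ) * (y : Γ)) * m = m⁻¹ * x * m * (m⁻¹ * y * m)
    group)

theorem rho_surj (m : Γ) (Y : Subgroup Γ) (y : Y) : ∃ x, rho m Y x = y :=
  ⟨⟨m * y * m⁻¹, cj_mem y.2⟩, Subtype.ext (by change m⁻¹ * (m * (y : Γ) * m⁻¹) * m = y; group)⟩

section tr

variable {Y : Subgroup Γ} {A : Type w} [AddCommGroup A] [Finite A] [iA : DistribMulAction Y A] [hI : IsIrr Y A]

/-- `A` with the action of `m Y m⁻¹` -/
@[reducible] def actCj (m : Γ) (Y : Subgroup Γ) (A : Type w) [AddCommGroup A] [DistribMulAction Y A] :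
    DistribMulAction (cj m Y) A := DistribMulAction.compHom A (rho m Y)

omit [Finite A] in
theorem isIrr_cj (m : Γ) : letI := actCj m Y A; IsIrr (cj m Y) A := by
  let _ := actCj m Y A
  refine ⟨hI.ne, fun N hN => hI.irr N fun k n hn => ?_⟩
  obtain ⟨x, rfl⟩ := rho_surj m Y k
  exact hN x n hn

/-- `End_Y(A) = End_{mYm⁻¹}(A)` -/
def kkEquiv (m : Γ) : letI := actCj m Y A; letI := isIrr_cj (A := A) (Y := Y) m; KK Y A ≃+* KK (cj m Y) A :=
  letI := actCj m Y A
  letI := isIrr_cj (A := A) (Y := Y) m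
  let F : KK Y A → KK (cj m Y) A := fun κ => ⟨κ.1, fun x a => κ.2 (rho m Y x) a⟩
  { toFun := F
    invFun := fun κ => ⟨κ.1, fun k a => by
      obtain ⟨x, rfl⟩ := rho_surj m Y k
      exact κ.2 x a⟩
    left_inv := fun κ => rfl
    right_inv := fun κ => rfl
    map_mul' := fun x y => Subtype.ext ((KK.val_mul x y).trans (KK.val_mul (F x) (F y)).symm)
    map_add' := fun x y => Subtype.ext ((KK.val_add x y).trans (KK.val_add (F x) (F y)).symm) }

theorem kkEquiv_smul (m : Γ) (κ : KK Y A) (a : A) :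
    letI := actCj m Y A; letI := isIrr_cj (A := A) (Y := Y) m; kkEquiv (A := A) (Y := Y) m κ • a = κ • a := rfl

theorem kkEquiv_symm_smul (m : Γ) (κ : letI := actCj m Y A; letI := isIrr_cj (A := A) (Y := Y) m; KK (cj m Y) A)
    (a : A) : letI := actCj m Y A; letI := isIrr_cj (A := A) (Y := Y) m;
      (kkEquiv (A := A) (Y := Y) m).symm κ • a = κ • a := rfl

/-- `Hom_Y(A, W) = Hom_{mYm⁻¹}(A, W)` -/
def homEquiv (m : Γ) : letI := actCj m Y A; HomY Y A W ≃+ HomY (cj m Y) A W := by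
  letI := actCj m Y A
  have key : ∀ (l : Γ) (x : Γ) (w : W), (l * x * l⁻¹) • l • w = l • x • w := fun l x w => by
    rw [mul_smul, mul_smul, inv_smul_smul]
  exact
    { toFun := fun f => ⟨(DistribSMul.toAddMonoidHom W m).comp (f : A →+ W), fun x a => by
        change m • (f : A →+ W) (rho m Y x • a) = (x : Γ) • m • (f : A →+ W) a
        rw [f.2]
        change m • (m⁻¹ * (x : Γ) * m) • (f : A →+ W) a = _
        rw [← key m]
        congr 1
        group⟩
      invFun := fun f => ⟨(DistribSMul.toAddMonoidHom W m⁻¹).comp (f : A →+ W), fun k a => by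
        obtain ⟨x, rfl⟩ := rho_surj m Y k
        change m⁻¹ • (f : A →+ W) (x • a) = (m⁻¹ * (x : Γ) * m) • m⁻¹ • (f : A →+ W) a
        rw [f.2, mul_smul, mul_smul, smul_inv_smul]
        rfl⟩
      left_inv := fun f => Subtype.ext (by ext a; exact inv_smul_smul m _)
      right_inv := fun f => Subtype.ext (by ext a; exact smul_inv_smul m _)
      map_add' := fun f g => Subtype.ext (by ext a; exact smul_add m _ _) }

theorem allTv_cj (m : Γ) (tv : AllTv Y A) :
    letI := actCj m Y A; letI := isIrr_cj (A := A) (Y := Y) m; AllTv (cj m Y) A := by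
  let _ := actCj m Y A
  let _ := isIrr_cj (A := A) (Y := Y) m
  intro φ a ha
  let r := kkEquiv (A := A) (Y := Y) m
  let ψ : Module.Dual (KK Y A) A :=
    { toFun := fun x => r.symm (φ x)
      map_add' := fun x y => by rw [map_add, map_add]
      map_smul' := fun κ x => by
        have h1 : φ (κ • x) = r κ * φ x := by
          have h2 := φ.map_smul (r κ) x
          rw [smul_eq_mul] at h2
          exact h2
        rw [h1, map_mul, RingEquiv.symm_apply_apply]
        rfl }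
  obtain ⟨k, hk⟩ := tv ψ a (by change r.symm (φ a) = 0; rw [ha, map_zero])
  obtain ⟨x, rfl⟩ := rho_surj m Y k
  exact ⟨x, fun b => (hk b).trans rfl⟩

theorem finrank_cj (m : Γ) : letI := actCj m Y A; letI := isIrr_cj (A := A) (Y := Y) m;
    Module.finrank (KK (cj m Y) A) A = Module.finrank (KK Y A) A := by
  let _ := actCj m Y A
  let _ := isIrr_cj (A := A) (Y := Y) m
  let r := kkEquiv (A := A) (Y := Y) m
  have h := rank_eq_of_equiv_equiv (R := KK Y A) (R' := KK (cj m Y) A) (M := A) (M₁ := A) r (AddEquiv.refl A) r.bijective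
    (fun κ a => rfl)
  unfold Module.finrank
  rw [h]

theorem finrank_hom_cj (m : Γ) : letI := actCj m Y A; letI := isIrr_cj (A := A) (Y := Y) m;
    Module.finrank (KK (cj m Y) A) (HomY (cj m Y) A W) = Module.finrank (KK Y A) (HomY Y A W) := by
  let _ := actCj m Y A
  let _ := isIrr_cj (A := A) (Y := Y) m
  let r := kkEquiv (A := A) (Y := Y) m
  have h := rank_eq_of_equiv_equiv (R := KK Y A) (R' := KK (cj m Y) A) (M := HomY Y A W) (M₁ := HomY (cj m Y) A W) r
    (homEquiv m) r.bijective (fun κ a => rfl)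
  unfold Module.finrank
  rw [h]

end tr

theorem isBlk_conj {Y : Subgroup Γ} (h : IsBlk W Y) (m : Γ) : IsBlk W (cj m Y) := by
  obtain ⟨A, iA1, iA2, iA3, iA4, tv, two, hV, dA, dE⟩ := h.ex
  refine ⟨?_, A, iA1, iA2, actCj m Y A, isIrr_cj m, allTv_cj m tv, two, ?_, ?_, ?_⟩
  · rintro _ ⟨y, hy, rfl⟩
    have h1 := h.gen hy
    clear hy
    induction h1 using closure_induction with
    | mem y hy =>
      refine subset_closure ⟨cj_mem hy.1, ?_⟩
      change m * y * m⁻¹ * (m * y * m⁻¹) = 1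
      have e : m * y * m⁻¹ * (m * y * m⁻¹) = m * (y * y) * m⁻¹ := by group
      rw [e, hy.2]
      group
    | one => rw [map_one]; exact one_mem _
    | mul a b _ _ ha hb => rw [map_mul]; exact mul_mem ha hb
    | inv a _ ha => rw [map_inv]; exact inv_mem ha
  · let _ := actCj m Y A
    rw [cm_cj, hV]
    apply le_antisymm
    · intro v hv
      obtain ⟨w, hw, rfl⟩ := (AddSubgroup.mem_smul_pointwise_iff_exists _ _ _).1 hv
      clear hv
      change w ∈ AddSubgroup.closure _ at hw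
      induction hw using AddSubgroup.closure_induction with
      | mem w hw =>
        obtain ⟨f, a, rfl⟩ := hw
        exact mem_img (homEquiv m f) a
      | zero => rw [smul_zero]; exact zero_mem _
      | add a b _ _ ha hb => rw [smul_add]; exact add_mem ha hb
      | neg a _ ha => rw [smul_neg]; exact neg_mem ha
    · refine (AddSubgroup.closure_le _).2 ?_
      rintro _ ⟨f, a, rfl⟩
      obtain ⟨g, rfl⟩ := (homEquiv (W := W) (A := A) (Y := Y) m).surjective f
      exact AddSubgroup.smul_mem_pointwise_smul _ _ _ (mem_img g a)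
  · rw [finrank_cj]; exact dA
  · rw [finrank_hom_cj]; exact dE

theorem pb_conj {M Y K : Subgroup Γ} {F : AddSubgroup W} (p : PB W M F Y K) {m : Γ} (hm : m ∈ M) :
    PB W M (m • F) (cj m Y) K := by
  have hsm : ∀ (m : Γ) (X : AddSubgroup W) (v : W), v ∈ m • X ↔ m⁻¹ • v ∈ X := fun m X v =>
    AddSubgroup.mem_pointwise_smul_iff_inv_smul_mem
  have hcm := cm_cj (W := W) m Y
  have hK : ∀ k ∈ K, m⁻¹ * k * m ∈ K := fun k hk => by
    have := p.nK m⁻¹ (inv_mem hm) k hk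
    rwa [inv_inv] at this
  refine
    { blk := isBlk_conj p.blk m
      YK := fun x hx => by
        obtain ⟨y, hy, rfl⟩ := hx
        exact p.nK m hm y (p.YK hy)
      KM := p.KM
      nK := p.nK
      flat := ?_
      dich := ?_
      cen := ?_
      stab := ?_
      lin := ?_ }
  · obtain ⟨Q, hQ, hQF⟩ := p.flat
    refine ⟨cj m Q, Subgroup.map_mono hQ, ?_⟩
    rw [← hQF]
    ext v
    rw [hsm]
    constructor
    · intro hv q hq
      have h1 := hv (m * q * m⁻¹) (cj_mem hq)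
      rw [mul_smul, mul_smul] at h1
      rw [← inv_smul_smul m (q • m⁻¹ • v), h1]
    · rintro hv _ ⟨q, hq, rfl⟩
      change (m * q * m⁻¹) • v = v
      rw [mul_smul, mul_smul, hv q hq, smul_inv_smul]
  · intro l hl
    rw [hcm]
    have e : l • m • cm W Y = m • ((m⁻¹ * l * m) • cm W Y) := by
      rw [smul_smul, smul_smul]; congr 1; group
    rcases p.dich (m⁻¹ * l * m) (mul_mem (mul_mem (inv_mem hm) hl) hm) with h1 | h1
    · left; rw [e, h1]
    · right
      rw [e, eq_bot_iff]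
      rintro v ⟨h2, h3⟩
      have h4 : m⁻¹ • v ∈ (m⁻¹ * l * m) • cm W Y ⊓ cm W Y := ⟨(hsm _ _ _).1 h2, (hsm _ _ _).1 h3⟩
      rw [h1, AddSubgroup.mem_bot] at h4
      rw [AddSubgroup.mem_bot, ← smul_inv_smul m v, h4, smul_zero]
  · intro l hl hne y hy v hv
    rw [hcm] at hne hv
    have e : l • m • cm W Y = m • ((m⁻¹ * l * m) • cm W Y) := by
      rw [smul_smul, smul_smul]; congr 1; group
    rw [e] at hne hv
    have h1 := p.cen (m⁻¹ * l * m) (mul_mem (mul_mem (inv_mem hm) hl) hm) (fun h => hne (by rw [h]))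
      (m⁻¹ * y * m) (mem_cj.1 hy) (m⁻¹ • v) ((hsm _ _ _).1 hv)
    rw [mul_smul, mul_smul, smul_inv_smul] at h1
    exact smul_left_cancel m⁻¹ h1
  · intro k hk
    rw [hcm]
    have e : k • m • cm W Y = m • ((m⁻¹ * k * m) • cm W Y) := by
      rw [smul_smul, smul_smul]; congr 1; group
    rw [e, p.stab _ (hK k hk)]
  · intro k hk e he v v' h
    -- transport `e`
    have hm1 : ∀ v ∈ cm W Y, m • v ∈ cm W (cj m Y) := fun v hv => by
      rw [hcm]; exact AddSubgroup.smul_mem_pointwise_smul _ _ _ hv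
    have hm2 : ∀ v ∈ cm W (cj m Y), m⁻¹ • v ∈ cm W Y := fun v hv => by
      rw [hcm] at hv; exact (hsm _ _ _).1 hv
    let e' : cm W Y →+ cm W Y :=
      { toFun := fun v => ⟨m⁻¹ • (e ⟨m • (v : W), hm1 _ v.2⟩ : W), hm2 _ (e _).2⟩
        map_zero' := Subtype.ext (by
          have h1 : (⟨m • ((0 : cm W Y) : W), hm1 _ (0 : cm W Y).2⟩ : cm W (cj m Y)) = 0 := Subtype.ext (smul_zero m)
          change m⁻¹ • (e ⟨m • ((0 : cm W Y) : W), hm1 _ (0 : cm W Y).2⟩ : W) = 0
          rw [h1, map_zero]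
          exact smul_zero _)
        map_add' := fun x y => Subtype.ext (by
          have h1 : (⟨m • ((x + y : cm W Y) : W), hm1 _ (x + y).2⟩ : cm W (cj m Y)) =
              ⟨m • (x : W), hm1 _ x.2⟩ + ⟨m • (y : W), hm1 _ y.2⟩ := Subtype.ext (smul_add m _ _)
          change m⁻¹ • (e ⟨m • ((x + y : cm W Y) : W), hm1 _ (x + y).2⟩ : W) = _
          rw [h1, map_add]
          exact smul_add _ _ _) }
    have he' : ∀ (v : cm W Y) (w : cm W (cj m Y)), (w : W) = m • (v : W) → (e' v : W) = m⁻¹ • (e w : W) := by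
      intro v w hw
      have h1 : w = ⟨m • (v : W), hm1 _ v.2⟩ := Subtype.ext hw
      rw [h1]
      rfl
    have h1 := p.lin (m⁻¹ * k * m) (hK k hk) e' (fun y hy w w' hw => by
      rw [he' w ⟨m • (w : W), hm1 _ w.2⟩ rfl, he' w' ⟨m • (w' : W), hm1 _ w'.2⟩ rfl]
      have h2 := he (m * y * m⁻¹) (cj_mem hy) ⟨m • (w : W), hm1 _ w.2⟩ ⟨m • (w' : W), hm1 _ w'.2⟩ (by
        change m • (w' : W) = (m * y * m⁻¹) • m • (w : W)
        rw [hw, mul_smul, mul_smul, inv_smul_smul])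
      rw [h2, mul_smul, mul_smul, inv_smul_smul])
      ⟨m⁻¹ • (v : W), hm2 _ v.2⟩ ⟨m⁻¹ • (v' : W), hm2 _ v'.2⟩ (by
        change m⁻¹ • (v' : W) = (m⁻¹ * k * m) • m⁻¹ • (v : W)
        rw [h, mul_smul, mul_smul, smul_inv_smul])
    have h2 := he' ⟨m⁻¹ • (v : W), hm2 _ v.2⟩ v (smul_inv_smul m (v : W)).symm
    have h3 := he' ⟨m⁻¹ • (v' : W), hm2 _ v'.2⟩ v' (smul_inv_smul m (v' : W)).symm
    rw [h2, h3, mul_smul, mul_smul, smul_inv_smul] at h1
    exact smul_left_cancel m⁻¹ h1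

end Cfsg.Agent.Omega.NO3b.BasePt.Pr

namespace Cfsg.Agent.Omega.NO3b.BasePt

open Subgroup Pr
open Cfsg.Agent.Omega.NO3b.Exit.TDat (Red)
open scoped Pointwise

universe u v

variable {Γ : Type u} [Group Γ] {W : Type v} [AddCommGroup W] [DistribMulAction Γ W]

/-- **Two panels.** -/
theorem pair [Finite Γ] [Finite W] {M : Subgroup Γ} {Fa Fb : AddSubgroup W} {Ya Ka Yb Kb : Subgroup Γ}
    (faith : ∀ g : Γ, (∀ w : W, g • w = w) → g = 1) (two : ∀ w : W, w + w = 0)
    (red : Red M (⊤ : AddSubgroup W)) (pa : PB W M Fa Ya Ka) (pb : PB W M Fb Yb Kb) (hK : Ka ≤ Kb) :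
    (∃ m ∈ M, Yb = cj m Ya) ∨
      ∀ m ∈ M, (∀ y ∈ Ya, ∀ v ∈ m • cm W Yb, y • v = v) ∧ ∀ y ∈ Yb, ∀ v ∈ m • cm W Ya, y • v = v := by
  by_cases h : ∀ m ∈ M, ∀ y ∈ Ya, ∀ v ∈ m • cm W Yb, y • v = v
  · exact Or.inr fun m hm => ⟨h m hm, pair_triv pa (pb.YK.trans pb.KM) h m hm⟩
  · left
    push Not at h
    obtain ⟨m, hm, y, hy, v, hv, hne⟩ := h
    have hv' : m⁻¹ • v ∈ cm W Yb := AddSubgroup.mem_pointwise_smul_iff_inv_smul_mem.1 hv
    refine ⟨m⁻¹, inv_mem hm, (pair_core faith two red (pb_conj pa (inv_mem hm)) pb hK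
      ⟨m⁻¹ * y * m⁻¹⁻¹, cj_mem hy, m⁻¹ • v, hv', fun h1 => hne ?_⟩).symm⟩
    rw [inv_inv, mul_smul, mul_smul, smul_inv_smul] at h1
    exact smul_left_cancel m⁻¹ h1

end Cfsg.Agent.Omega.NO3b.BasePt

end
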