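import Cfsg.Agent.Mrg.Omega.NO3b.BasePt.Def

section


/-!
# NotFFG (NO-3L), the base point, (E2), part 3: consequences of `Fam`

`F : Fam W M 𝒴`, split : `W = ⨆ [W, Y] + C_W(RR)`; `S` a Sylow 2-subgroup of `M`; `FamS W M 𝒴 S`.

* `norm`, `norm'` : `Y ⊴ RR`; `act` : `RR` acts on `[W, Y]` as `Y`; `one` : every `Y` is a faithful split block;
* `syl` : `S ∩ Y` is a Sylow 2-subgroup of `Y`; `actS` : `S ∩ RR` acts on `[W, Y]` as `S ∩ Y`;
* `Z1 W S 𝒴` = `C_W(S ∩ RR)`, `V2 W S 𝒴` = `{v | [v, S ∩ RR] ≤ Z1}`;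
* `mem_Z1_iff` : `Z1 = {w | w is fixed by all S ∩ Y}`; `lT_le_Z1` : `[W, Y] ∩ C_W(S ∩ Y) ≤ Z1`;
* `fix_Z1` : `y ∈ Y` which fixes `[W, Y] ∩ C_W(S ∩ Y)` fixes `Z1`;
* `V2_of` : `y ∈ Y`, `[W, y, S ∩ Y] ≤ [W, Y] ∩ C_W(S ∩ Y)` implies `[W, y] ≤ V2`.
-/

set_option autoImplicit false
set_option linter.unusedSectionVars false

namespace Cfsg.Agent.Omega.NO3b.BasePt

open Subgroup
open Cfsg.Agent.Omega.NO3b.Exit Cfsg.Agent.Omega.NO3b.Exit.Ten Cfsg.Agent.Omega.NO3b.Exit.Descent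
open Cfsg.Agent.Omega.FF.Basic (fx mem_fx cj mem_cj mem_cj_of)
open Cfsg.Agent.Omega.NO3b.BasePt.Node

universe u v w

variable {Γ : Type u} [Group Γ] {W : Type v} [AddCommGroup W] [DistribMulAction Γ W]
variable {M S : Subgroup Γ} {𝒴 : Set (Subgroup Γ)}

theorem cj_eq_map (g : Γ) (A : Subgroup Γ) : cj g A = A.map (MulAut.conj g).toMonoidHom := by
  ext x
  rw [mem_cj, mem_map]
  constructor
  · intro h
    exact ⟨_, h, by change g * (g⁻¹ * x * g) * g⁻¹ = x; group⟩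
  · rintro ⟨y, hy, rfl⟩
    have e : g⁻¹ * ((MulAut.conj g).toMonoidHom y) * g = y := by
      change g⁻¹ * (g * y * g⁻¹) * g = y; group
    rwa [e]

theorem le_RR {Y : Subgroup Γ} (hY : Y ∈ 𝒴) : Y ≤ RR 𝒴 := le_sSup hY

theorem odd_normal {M : Type*} [Group M] [Finite M] {S N : Subgroup M} [N.Normal] (h : ¬ 2 ∣ S.index) :
    ¬ 2 ∣ S.relIndex N := by
  have h1 : S.relIndex N * N.relIndex (N ⊔ S) = (S ⊓ N).relIndex (N ⊔ S) := by
    have := relIndex_inf_mul_relIndex S N (N ⊔ S)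
    rwa [inf_eq_left.2 (le_sup_left : N ≤ N ⊔ S)] at this
  have h2 : N.relIndex S * S.relIndex (N ⊔ S) = (N ⊓ S).relIndex (N ⊔ S) := by
    have := relIndex_inf_mul_relIndex N S (N ⊔ S)
    rwa [inf_eq_left.2 (le_sup_right : S ≤ N ⊔ S)] at this
  rw [relIndex_sup_left] at h1
  rw [inf_comm, ← h1] at h2
  have h3 : N.relIndex S ≠ 0 := index_ne_zero_of_finite
  have h4 : S.relIndex (N ⊔ S) = S.relIndex N := by
    refine Nat.eq_of_mul_eq_mul_left (Nat.pos_of_ne_zero h3) ?_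
    rw [h2, mul_comm]
  rw [← h4]
  intro h5
  exact h (h5.trans (relIndex_dvd_index_of_le le_sup_right))

/-- a subgroup of odd index meets a normal subgroup in a subgroup of odd index -/
theorem odd_of_cj [Finite Γ] {S K M : Subgroup Γ} (hKM : K ≤ M) (hn : ∀ m ∈ M, cj m K = K)
    (h : ¬ 2 ∣ S.relIndex M) : ¬ 2 ∣ S.relIndex K := by
  have hN : (K.subgroupOf M).Normal := ⟨fun n hn' g => by
    have h2 := mem_cj_of (g := (g : Γ)) (mem_subgroupOf.1 hn')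
    rw [hn g g.2] at h2
    exact h2⟩
  have h3 := odd_normal (M := M) (S := S.subgroupOf M) (N := K.subgroupOf M) h
  rwa [relIndex_subgroupOf hKM] at h3

/-- Sylow's theorem for subgroups -/
theorem exists_le_cj [Finite Γ] {K T R : Subgroup Γ} (hT2 : IsPGroup 2 T) (hTo : ¬ 2 ∣ T.relIndex K)
    (hRK : R ≤ K) (hR2 : IsPGroup 2 R) : ∃ k ∈ K, R ≤ cj k T := by
  have : Fact (Nat.Prime 2) := ⟨Nat.prime_two⟩
  let P₀ : Sylow 2 K := IsPGroup.toSylow (hT2.comap_of_injective K.subtype K.subtype_injective :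
    IsPGroup 2 (T.subgroupOf K)) hTo
  obtain ⟨Q, hQ⟩ := IsPGroup.exists_le_sylow (hR2.comap_of_injective K.subtype K.subtype_injective :
    IsPGroup 2 (R.subgroupOf K))
  obtain ⟨k, hk⟩ := MulAction.exists_smul_eq K P₀ Q
  refine ⟨k, k.2, fun r hr => ?_⟩
  have h1 : (⟨r, hRK hr⟩ : K) ∈ (Q : Subgroup K) := hQ hr
  rw [← hk, Sylow.coe_subgroup_smul, Subgroup.mem_pointwise_smul_iff_inv_smul_mem] at h1
  have h2 : (k : Γ)⁻¹ * r * k ∈ T := by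
    have h3 : ((MulAut.conj k)⁻¹ • (⟨r, hRK hr⟩ : K) : K) ∈ T.subgroupOf K := h1
    rw [mem_subgroupOf, ← map_inv] at h3
    simpa using h3
  exact mem_cj.2 h2

/-- **Frattini.** -/
theorem frattini [Finite Γ] {S K P : Subgroup Γ} (hKP : K ≤ P) (hn : ∀ p ∈ P, cj p K = K)
    (hS2 : IsPGroup 2 S) (hS : ¬ 2 ∣ S.relIndex P) {p : Γ} (hp : p ∈ P) :
    ∃ k ∈ K, cj (k⁻¹ * p) (S ⊓ K) = S ⊓ K := by
  have h1 : ¬ 2 ∣ (S ⊓ K).relIndex K := by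
    rw [inf_relIndex_right]
    exact odd_of_cj hKP hn hS
  have h2 : cj p (S ⊓ K) ≤ K := by
    have h3 := FF.Basic.cj_mono p (inf_le_right : S ⊓ K ≤ K)
    rwa [hn p hp] at h3
  obtain ⟨k, hk, h3⟩ := exists_le_cj (hS2.to_le inf_le_left : IsPGroup 2 (S ⊓ K : Subgroup Γ)) h1 h2
    (FF.Basic.isPGroup_cj p (hS2.to_le inf_le_left))
  refine ⟨k, hk, FF.Basic.cj_eq_of_le ?_⟩
  have h4 := FF.Basic.cj_mono k⁻¹ h3
  rwa [FF.Basic.cj_inv_cj, FF.Basic.cj_cj] at h4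

/-- A subgroup `P ≥ S` not generated by two proper subgroups over `S`, `K ⊴ P`: `P = K S` or `P` normalises
`S ∩ K`. -/
theorem sup_or [Finite Γ] {S K P : Subgroup Γ} (hKP : K ≤ P) (hn : ∀ p ∈ P, cj p K = K) (hSP : S ≤ P)
    (hS2 : IsPGroup 2 S) (hS : ¬ 2 ∣ S.relIndex P)
    (hP : ∀ Q₁ Q₂ : Subgroup Γ, S ≤ Q₁ → S ≤ Q₂ → Q₁ ⊔ Q₂ = P → Q₁ = P ∨ Q₂ = P) :
    K ⊔ S = P ∨ ∀ p ∈ P, cj p (S ⊓ K) = S ⊓ K := by
  have h1 : S ≤ P ⊓ normalizer ((S ⊓ K : Subgroup Γ) : Set Γ) := by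
    intro s hs
    refine ⟨hSP hs, FF.Basic.cj_eq_iff_mem_normalizer.1 (FF.Basic.cj_eq_of_le ?_)⟩
    refine le_inf ?_ ?_
    · have h2 := FF.Basic.cj_mono s (inf_le_left : S ⊓ K ≤ S)
      rwa [FF.Basic.cj_eq_self_of_mem hs] at h2
    · have h2 := FF.Basic.cj_mono s (inf_le_right : S ⊓ K ≤ K)
      rwa [hn s (hSP hs)] at h2
  rcases hP (K ⊔ S) (P ⊓ normalizer ((S ⊓ K : Subgroup Γ) : Set Γ)) le_sup_right h1 (by
    refine le_antisymm (sup_le (sup_le hKP hSP) inf_le_left) fun p hp => ?_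
    obtain ⟨k, hk, h2⟩ := frattini hKP hn hS2 hS hp
    have h3 : p = k * (k⁻¹ * p) := by group
    rw [h3]
    exact mul_mem (mem_sup_left (mem_sup_left hk))
      (mem_sup_right ⟨P.mul_mem (P.inv_mem (hKP hk)) hp, FF.Basic.cj_eq_iff_mem_normalizer.1 h2⟩)) with h | h
  · exact Or.inl h
  · right
    intro p hp
    rw [← h] at hp
    exact FF.Basic.cj_eq_iff_mem_normalizer.2 hp.2

namespace Fam

variable (F : Fam W M 𝒴)
include F

theorem mem_cj {Y : Subgroup Γ} (hY : Y ∈ 𝒴) {m : Γ} (hm : m ∈ M) : cj m Y ∈ 𝒴 := by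
  rw [cj_eq_map]
  exact F.conj Y hY m hm

theorem RR_le_top : RR 𝒴 ≤ M := sSup_le F.le

theorem cj_RR {m : Γ} (hm : m ∈ M) : cj m (RR 𝒴) = RR 𝒴 := by
  have key : ∀ m ∈ M, RR 𝒴 ≤ cj m (RR 𝒴) := by
    intro m hm
    refine sSup_le fun Y hY => ?_
    have h1 := FF.Basic.cj_mono m (le_RR (F.mem_cj hY (inv_mem hm)))
    rwa [FF.Basic.cj_cj_inv] at h1
  refine le_antisymm ?_ (key m hm)
  have h1 := FF.Basic.cj_mono m (key m⁻¹ (inv_mem hm))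
  rwa [FF.Basic.cj_cj_inv] at h1

theorem norm {Y Y' : Subgroup Γ} (hY : Y ∈ 𝒴) (hY' : Y' ∈ 𝒴) {y : Γ} (hy : y ∈ Y') : cj y Y = Y := by
  by_cases h0 : Y' = Y
  · subst h0
    exact FF.Basic.cj_eq_self_of_mem hy
  by_contra hne
  have hm := F.mem_cj hY (F.le _ hY' hy)
  obtain ⟨x, hx, v, hv, hxv⟩ := exists_move (F.blk _ hm)
  have h1 := mem_cm_cj.1 hv
  have h2 := F.triv Y' hY' Y hY h0 y hy _ h1
  rw [smul_inv_smul] at h2
  rw [← h2] at h1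
  exact hxv (F.triv _ hm Y hY hne x hx v h1)

theorem norm' {Y : Subgroup Γ} (hY : Y ∈ 𝒴) {g : Γ} (hg : g ∈ RR 𝒴) : cj g Y = Y := by
  have h1 : RR 𝒴 ≤ normalizer (Y : Set Γ) := sSup_le fun Y' hY' y hy =>
    FF.Basic.cj_eq_iff_mem_normalizer.1 (F.norm hY hY' hy)
  exact FF.Basic.cj_eq_iff_mem_normalizer.2 (h1 hg)

theorem act {Y : Subgroup Γ} (hY : Y ∈ 𝒴) {g : Γ} (hg : g ∈ RR 𝒴) : ∃ y ∈ Y, ∀ v ∈ cm W Y, g • v = y • v := by
  let Q : Subgroup Γ :=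
    { carrier := {g | ∃ y ∈ Y, ∀ v ∈ cm W Y, g • v = y • v}
      one_mem' := ⟨1, one_mem _, fun _ _ => rfl⟩
      mul_mem' := by
        rintro a b ⟨x, hx, h1⟩ ⟨y, hy, h2⟩
        exact ⟨x * y, mul_mem hx hy, fun v hv => by rw [mul_smul, mul_smul, h2 v hv, h1 _ (smul_cm hy hv)]⟩
      inv_mem' := by
        rintro a ⟨x, hx, h1⟩
        refine ⟨x⁻¹, inv_mem hx, fun v hv => ?_⟩
        rw [inv_smul_eq_iff, h1 _ (smul_cm (inv_mem hx) hv), smul_inv_smul] }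
  have h1 : RR 𝒴 ≤ Q := by
    refine sSup_le fun Y' hY' y hy => ?_
    by_cases h0 : Y' = Y
    · subst h0
      exact ⟨y, hy, fun _ _ => rfl⟩
    · exact ⟨1, one_mem _, fun v hv => by rw [one_smul]; exact F.triv Y' hY' Y hY h0 y hy v hv⟩
  exact h1 hg

end Fam

variable (W) in
/-- `Z₁ = C_W(S ∩ RR)` -/
def Z1 (S : Subgroup Γ) (𝒴 : Set (Subgroup Γ)) : AddSubgroup W := fx W (S ⊓ RR 𝒴)

variable (W) in
/-- `V₍₂₎ = {v | [v, S ∩ RR] ≤ Z₁}` -/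
def V2 (S : Subgroup Γ) (𝒴 : Set (Subgroup Γ)) : AddSubgroup W where
  carrier := {v | ∀ d ∈ S ⊓ RR 𝒴, d • v - v ∈ Z1 W S 𝒴}
  zero_mem' := fun d _ => by rw [smul_zero, sub_self]; exact zero_mem _
  add_mem' := fun {v w} hv hw d hd => by
    have e : d • (v + w) - (v + w) = (d • v - v) + (d • w - w) := by rw [smul_add]; abel
    rw [e]
    exact add_mem (hv d hd) (hw d hd)
  neg_mem' := fun {v} hv d hd => by
    have e : d • (-v) - (-v) = - (d • v - v) := by rw [smul_neg]; abel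
    rw [e]
    exact neg_mem (hv d hd)

theorem mem_Z1 {v : W} : v ∈ Z1 W S 𝒴 ↔ ∀ d ∈ S ⊓ RR 𝒴, d • v = v := Iff.rfl

theorem mem_V2 {v : W} : v ∈ V2 W S 𝒴 ↔ ∀ d ∈ S ⊓ RR 𝒴, d • v - v ∈ Z1 W S 𝒴 := Iff.rfl

variable (W) in
/-- `Fam`, split, with a Sylow 2-subgroup `S` of `M`. -/
structure FamS (M : Subgroup Γ) (𝒴 : Set (Subgroup Γ)) (S : Subgroup Γ) : Prop where
  fam : Fam W M 𝒴
  sp : (⨆ Y ∈ 𝒴, cm W Y) ⊔ fx W (RR 𝒴) = ⊤
  S2 : IsPGroup 2 S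
  SM : S ≤ M
  odd : ¬ 2 ∣ S.relIndex M

namespace FamS

variable (F : FamS W M 𝒴 S)
include F

open Classical in
theorem dec [Finite Γ] (w : W) : ∃ c : Subgroup Γ → W, (∀ Y ∈ 𝒴, c Y ∈ cm W Y) ∧
    w - ∑ Y ∈ (Set.toFinite 𝒴).toFinset, c Y ∈ fx W (RR 𝒴) := by
  let N : AddSubgroup W :=
    { carrier := {w | ∃ c : Subgroup Γ → W, (∀ Y ∈ 𝒴, c Y ∈ cm W Y) ∧
        w - ∑ Y ∈ (Set.toFinite 𝒴).toFinset, c Y ∈ fx W (RR 𝒴)}
      zero_mem' := ⟨0, fun _ _ => zero_mem _, by simp⟩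
      add_mem' := by
        rintro a b ⟨c, hc, h1⟩ ⟨c', hc', h2⟩
        refine ⟨fun Y => c Y + c' Y, fun Y hY => add_mem (hc Y hY) (hc' Y hY), ?_⟩
        rw [Finset.sum_add_distrib, add_sub_add_comm]
        exact add_mem h1 h2
      neg_mem' := by
        rintro a ⟨c, hc, h1⟩
        refine ⟨fun Y => - c Y, fun Y hY => neg_mem (hc Y hY), ?_⟩
        rw [Finset.sum_neg_distrib]
        have e : -a - -∑ Y ∈ (Set.toFinite 𝒴).toFinset, c Y = - (a - ∑ Y ∈ (Set.toFinite 𝒴).toFinset, c Y) := by abel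
        rw [e]
        exact neg_mem h1 }
  have h1 : (⊤ : AddSubgroup W) ≤ N := by
    rw [← F.sp]
    refine sup_le (iSup₂_le fun Y hY w hw => ?_) fun w hw => ⟨0, fun _ _ => zero_mem _, by simpa using hw⟩
    refine ⟨fun Y' => if Y' = Y then w else 0, fun Y' hY' => ?_, ?_⟩
    · change (if Y' = Y then w else 0) ∈ cm W Y'
      split_ifs with h
      · rw [h]
        exact hw
      · exact zero_mem _
    · rw [Finset.sum_ite_eq' _ Y, if_pos ((Set.toFinite 𝒴).mem_toFinset.2 hY), sub_self]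
      exact zero_mem _
  exact h1 trivial

theorem one [Finite Γ] {Y : Subgroup Γ} (hY : Y ∈ 𝒴) : One W Y where
  blk := F.fam.blk Y hY
  faith := F.fam.faith
  two := F.fam.two
  sp w := by
    classical
    obtain ⟨c, hc, h1⟩ := F.dec w
    refine ⟨c Y, hc Y hY, fun y hy => ?_⟩
    have e : w - c Y = (w - ∑ Y ∈ (Set.toFinite 𝒴).toFinset, c Y) + ∑ Y' ∈ (Set.toFinite 𝒴).toFinset.erase Y, c Y' := by
      rw [← Finset.add_sum_erase _ c ((Set.toFinite 𝒴).mem_toFinset.2 hY)]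
      abel
    rw [e, smul_add, h1 y (le_RR hY hy), Finset.smul_sum]
    congr 1
    refine Finset.sum_congr rfl fun Y' hY' => ?_
    rw [Finset.mem_erase, Set.Finite.mem_toFinset] at hY'
    exact F.fam.triv Y hY Y' hY'.2 (Ne.symm hY'.1) y hy _ (hc Y' hY'.2)

theorem syl [Finite Γ] {Y : Subgroup Γ} (hY : Y ∈ 𝒴) : Syl Y (S ⊓ Y) where
  le := inf_le_right
  two := F.S2.to_le inf_le_left
  odd := by
    rw [inf_relIndex_right]
    exact odd_of_cj (le_RR hY) (fun g hg => F.fam.norm' hY hg)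
      (odd_of_cj F.fam.RR_le_top (fun m hm => F.fam.cj_RR hm) F.odd)

theorem actS [Finite Γ] {Y : Subgroup Γ} (hY : Y ∈ 𝒴) {d : Γ} (hd : d ∈ S ⊓ RR 𝒴) :
    ∃ t ∈ S ⊓ Y, ∀ v ∈ cm W Y, d • v = t • v := by
  let T' : Subgroup Γ :=
    { carrier := {y | y ∈ Y ∧ ∃ d ∈ S ⊓ RR 𝒴, ∀ v ∈ cm W Y, d • v = y • v}
      one_mem' := ⟨one_mem _, 1, one_mem _, fun _ _ => rfl⟩
      mul_mem' := by
        rintro a b ⟨ha, x, hx, h1⟩ ⟨hb, y, hy, h2⟩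
        exact ⟨mul_mem ha hb, x * y, mul_mem hx hy, fun v hv => by
          rw [mul_smul, mul_smul, h2 v hv, h1 _ (smul_cm hb hv)]⟩
      inv_mem' := by
        rintro a ⟨ha, x, hx, h1⟩
        refine ⟨inv_mem ha, x⁻¹, inv_mem hx, fun v hv => ?_⟩
        rw [inv_smul_eq_iff, h1 _ (smul_cm (inv_mem ha) hv), smul_inv_smul] }
  have h1 : IsPGroup 2 T' := by
    rintro ⟨y, hy, d, hd, h⟩
    obtain ⟨k, hk⟩ := F.S2 ⟨d, hd.1⟩
    refine ⟨k, Subtype.ext ?_⟩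
    have hk' : d ^ 2 ^ k = 1 := congrArg Subtype.val hk
    have h2 : ∀ j : ℕ, ∀ v ∈ cm W Y, d ^ j • v = y ^ j • v := by
      intro j
      induction j with
      | zero => intro v _; rw [pow_zero, pow_zero]
      | succ j ih =>
        intro v hv
        rw [pow_succ', pow_succ', mul_smul, mul_smul, ih v hv, h _ (smul_cm (pow_mem hy j) hv)]
    change y ^ 2 ^ k = 1
    refine (F.one hY).eq_one (pow_mem hy _) fun v hv => ?_
    rw [← h2 _ v hv, hk', one_smul]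
  have h2 : T' ≤ S ⊓ Y := le_of_odd h1 (fun y hy => ⟨hy.2, y, ⟨hy.1, le_RR hY hy.2⟩, fun _ _ => rfl⟩)
    (fun y hy => hy.1) (F.syl hY).odd
  obtain ⟨y, hy, h⟩ := F.fam.act hY hd.2
  exact ⟨y, h2 ⟨hy, d, hd, h⟩, h⟩

theorem lT_le_Z1 [Finite Γ] {Y : Subgroup Γ} (hY : Y ∈ 𝒴) : lT W Y (S ⊓ Y) ≤ Z1 W S 𝒴 := by
  rintro v ⟨h1, h2⟩ d hd
  obtain ⟨t, ht, h⟩ := F.actS hY hd
  rw [h v h1]
  exact h2 t ht

/-- `Z₁` is fixed by `y ∈ Y` which fixes the point of `S ∩ Y`. -/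
theorem fix_Z1 [Finite Γ] {Y : Subgroup Γ} (hY : Y ∈ 𝒴) {y : Γ} (hy : y ∈ Y)
    (h : ∀ v ∈ lT W Y (S ⊓ Y), y • v = v) {w : W} (hw : ∀ s ∈ S ⊓ Y, s • w = w) : y • w = w := by
  obtain ⟨c, hc, h1⟩ := (F.one hY).sp w
  have e : w = c + (w - c) := by abel
  have h2 : c ∈ lT W Y (S ⊓ Y) := by
    refine ⟨hc, fun s hs => ?_⟩
    have h3 := hw s hs
    rw [e, smul_add, h1 s hs.2] at h3
    exact add_right_cancel h3
  rw [e, smul_add, h1 y hy, h c h2]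

theorem mem_Z1_iff [Finite Γ] {w : W} : w ∈ Z1 W S 𝒴 ↔ ∀ Y ∈ 𝒴, ∀ s ∈ S ⊓ Y, s • w = w := by
  classical
  constructor
  · exact fun h Y hY s hs => h s ⟨hs.1, le_RR hY hs.2⟩
  · intro h d hd
    obtain ⟨c, hc, h1⟩ := F.dec w
    have h2 : ∀ Y ∈ 𝒴, ∀ s ∈ S ⊓ Y, s • c Y = c Y := by
      intro Y hY s hs
      have e : w = c Y + ((w - ∑ Y ∈ (Set.toFinite 𝒴).toFinset, c Y) +
          ∑ Y' ∈ (Set.toFinite 𝒴).toFinset.erase Y, c Y') := by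
        rw [← Finset.add_sum_erase _ c ((Set.toFinite 𝒴).mem_toFinset.2 hY)]
        abel
      have h3 := h Y hY s hs
      rw [e, smul_add, smul_add, h1 s (le_RR hY hs.2), Finset.smul_sum] at h3
      have h4 : ∑ Y' ∈ (Set.toFinite 𝒴).toFinset.erase Y, s • c Y' =
          ∑ Y' ∈ (Set.toFinite 𝒴).toFinset.erase Y, c Y' := Finset.sum_congr rfl fun Y' hY' => by
        rw [Finset.mem_erase, Set.Finite.mem_toFinset] at hY'
        exact F.fam.triv Y hY Y' hY'.2 (Ne.symm hY'.1) s hs.2 _ (hc Y' hY'.2)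
      rw [h4] at h3
      exact add_right_cancel h3
    have e : w = (w - ∑ Y ∈ (Set.toFinite 𝒴).toFinset, c Y) + ∑ Y ∈ (Set.toFinite 𝒴).toFinset, c Y := by abel
    rw [e, smul_add, h1 d hd.2, Finset.smul_sum]
    congr 1
    refine Finset.sum_congr rfl fun Y hY => ?_
    rw [Set.Finite.mem_toFinset] at hY
    obtain ⟨t, ht, h3⟩ := F.actS hY hd
    rw [h3 _ (hc Y hY), h2 Y hY t ht]

theorem V2_of [Finite Γ] {Y : Subgroup Γ} (hY : Y ∈ 𝒴) {y : Γ} (hy : y ∈ Y)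
    (h : ∀ w : W, ∀ t ∈ S ⊓ Y, t • (y • w - w) - (y • w - w) ∈ lT W Y (S ⊓ Y)) (w : W) : y • w - w ∈ V2 W S 𝒴 := by
  intro d hd
  obtain ⟨t, ht, h1⟩ := F.actS hY hd
  rw [h1 _ (mem_cm_of hy w)]
  exact F.lT_le_Z1 hY (h w t ht)

end FamS

end Cfsg.Agent.Omega.NO3b.BasePt

end

section


/-!
# NotFFG (NO-3L), the base point, (E2): the node-1 lemma (bb 22687, 23192)

`F : FamS W M 𝒴 S`. **`node_one`** : `S ≤ P ≤ M`, `P` is not generated by two proper subgroups over `S`, `P` does not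
centralise `C_W(S)`. Then `P` normalises `V₍₂₎ = {v | [v, S ∩ RR] ≤ Z₁}`, `Z₁ = C_W(S ∩ RR)`.

Proof: `P` normalises `S ∩ RR` or `P = (P ∩ RR) S`. If `P` normalises `Z₁` too, `C_{P ∩ RR}(Z₁)` is normal in `P`, so `P`
normalises `S ∩ RR` or `P = C_{P ∩ RR}(Z₁) S` centralises `C_W(S)`. Otherwise `N` = the group generated by all the full
transvection groups `AT W Y T ≤ P` is normal in `P`, `P = N S` (if `P` normalises `S ∩ N`, it permutes the points of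
`S`), and `N ≤ ⟨N_P(Z₁), N_P(V₍₂₎)⟩` by `AT_le_of`.
-/

set_option autoImplicit false
set_option linter.unusedSectionVars false

namespace Cfsg.Agent.Omega.NO3b.BasePt

open Subgroup
open Cfsg.Agent.Omega.NO3b.Exit Cfsg.Agent.Omega.NO3b.Exit.Ten Cfsg.Agent.Omega.NO3b.Exit.Descent
open Cfsg.Agent.Omega.FF.Basic (fx mem_fx cj mem_cj mem_cj_of)
open Cfsg.Agent.Omega.NO3b.BasePt.Node

universe u v w

variable {Γ : Type u} [Group Γ] {W : Type v} [AddCommGroup W] [DistribMulAction Γ W]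
variable {M S P : Subgroup Γ} {𝒴 : Set (Subgroup Γ)}

/-- the elements of `P` which map `X` into itself -/
def stb [Finite Γ] (P : Subgroup Γ) (X : AddSubgroup W) : Subgroup Γ where
  carrier := {p | p ∈ P ∧ ∀ v ∈ X, p • v ∈ X}
  one_mem' := ⟨one_mem _, fun v hv => by rwa [one_smul]⟩
  mul_mem' := fun {a b} ha hb => ⟨mul_mem ha.1 hb.1, fun v hv => by rw [mul_smul]; exact ha.2 _ (hb.2 v hv)⟩
  inv_mem' := fun {a} ha => ⟨inv_mem ha.1, fun v hv => by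
    have h1 : ∀ j : ℕ, ∀ v ∈ X, a ^ j • v ∈ X := by
      intro j
      induction j with
      | zero => intro v hv; rwa [pow_zero, one_smul]
      | succ j ih => intro v hv; rw [pow_succ', mul_smul]; exact ha.2 _ (ih v hv)
    obtain ⟨k, hk⟩ := mem_powers_iff_mem_zpowers.2 (inv_mem (mem_zpowers a))
    have hk' : a ^ k = a⁻¹ := hk
    rw [← hk']
    exact h1 k v hv⟩

theorem mem_stb [Finite Γ] {X : AddSubgroup W} {p : Γ} : p ∈ stb P X ↔ p ∈ P ∧ ∀ v ∈ X, p • v ∈ X := Iff.rfl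

namespace FamS

variable (F : FamS W M 𝒴 S)
include F

theorem smul_Z1 {p : Γ} (hp : cj p (S ⊓ RR 𝒴) = S ⊓ RR 𝒴) {v : W} (hv : v ∈ Z1 W S 𝒴) : p • v ∈ Z1 W S 𝒴 := by
  have h1 := FF.Basic.smul_mem_fx_cj (g := p) hv
  rwa [hp] at h1

theorem smul_V2 {p : Γ} (hp : cj p (S ⊓ RR 𝒴) = S ⊓ RR 𝒴) {v : W} (hv : v ∈ V2 W S 𝒴) : p • v ∈ V2 W S 𝒴 := by
  intro d hd
  rw [← hp, mem_cj] at hd
  have h1 := F.smul_Z1 hp (hv _ hd)
  rwa [smul_sub, mul_smul, mul_smul, smul_inv_smul] at h1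

theorem cj_S {s : Γ} (hs : s ∈ S) : cj s (S ⊓ RR 𝒴) = S ⊓ RR 𝒴 := by
  ext x
  have h1 : cj s (RR 𝒴) = RR 𝒴 := F.fam.cj_RR (F.SM hs)
  constructor
  · intro h
    have h2 := mem_cj.1 h
    refine ⟨?_, ?_⟩
    · have h3 := S.mul_mem (S.mul_mem hs h2.1) (S.inv_mem hs)
      have e : s * (s⁻¹ * x * s) * s⁻¹ = x := by group
      rwa [e] at h3
    · rw [← h1]
      exact mem_cj.2 h2.2
  · intro h
    refine mem_cj.2 ⟨S.mul_mem (S.mul_mem (S.inv_mem hs) h.1) hs, ?_⟩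
    have h2 := h.2
    rw [← h1] at h2
    exact mem_cj.1 h2

/-- **(E2).** -/
theorem node_one [Finite Γ] [Finite W] (SP : S ≤ P) (PM : P ≤ M)
    (hP : ∀ Q₁ Q₂ : Subgroup Γ, S ≤ Q₁ → S ≤ Q₂ → Q₁ ⊔ Q₂ = P → Q₁ = P ∨ Q₂ = P)
    (hZ : ¬ ∀ p ∈ P, ∀ w : W, (∀ s ∈ S, s • w = w) → p • w = w) : ∀ p ∈ P, ∀ v ∈ V2 W S 𝒴, p • v ∈ V2 W S 𝒴 := by
  have hodd : ¬ 2 ∣ S.relIndex P := fun h => F.odd (by
    rw [← relIndex_mul_relIndex S P M SP PM]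
    exact h.mul_right _)
  have hSZ : ∀ w : W, (∀ s ∈ S, s • w = w) → w ∈ Z1 W S 𝒴 := fun w hw d hd => hw d hd.1
  by_cases hD : ∀ p ∈ P, cj p (S ⊓ RR 𝒴) = S ⊓ RR 𝒴
  · exact fun p hp v hv => F.smul_V2 (hD p hp) hv
  by_cases hZ1 : ∀ p ∈ P, ∀ v ∈ Z1 W S 𝒴, p • v ∈ Z1 W S 𝒴
  · -- `P` normalises `Z₁`
    exfalso
    let C : Subgroup Γ :=
      { carrier := {g | g ∈ P ⊓ RR 𝒴 ∧ ∀ v ∈ Z1 W S 𝒴, g • v = v}
        one_mem' := ⟨one_mem _, fun v _ => one_smul _ v⟩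
        mul_mem' := fun {a b} ha hb => ⟨mul_mem ha.1 hb.1, fun v hv => by rw [mul_smul, hb.2 v hv, ha.2 v hv]⟩
        inv_mem' := fun {a} ha => ⟨inv_mem ha.1, fun v hv => by rw [inv_smul_eq_iff, ha.2 v hv]⟩ }
    have hCP : C ≤ P := fun g hg => hg.1.1
    have hn : ∀ p ∈ P, cj p C = C := by
      intro p hp
      refine FF.Basic.cj_eq_of_le (FF.Basic.cj_le_iff.2 fun g hg => ?_)
      refine ⟨⟨P.mul_mem (P.mul_mem hp hg.1.1) (P.inv_mem hp), ?_⟩, fun v hv => ?_⟩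
      · have h1 := mem_cj_of (g := p) hg.1.2
        rwa [F.fam.cj_RR (PM hp)] at h1
      · rw [mul_smul, mul_smul, hg.2 _ (hZ1 p⁻¹ (inv_mem hp) v hv), smul_inv_smul]
    have hSC : S ⊓ C = S ⊓ RR 𝒴 := by
      ext x
      exact ⟨fun h => ⟨h.1, h.2.1.2⟩, fun h => ⟨h.1, ⟨SP h.1, h.2⟩, fun v hv => hv x h⟩⟩
    rcases sup_or hCP hn SP F.S2 hodd hP with h | h
    · refine hZ fun p hp w hw => ?_
      rw [← h] at hp
      have h1 : C ⊔ S ≤ MulAction.stabilizer Γ w := sup_le (fun g hg => hg.2 w (hSZ w hw)) fun s hs => hw s hs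
      exact h1 hp
    · rw [hSC] at h
      exact hD h
  -- `P` does not normalise `Z₁`
  by_contra hV
  let J : Subgroup Γ := stb P (Z1 W S 𝒴) ⊔ stb P (V2 W S 𝒴)
  have hS1 : S ≤ stb P (Z1 W S 𝒴) := fun s hs => ⟨SP hs, fun v hv => F.smul_Z1 (F.cj_S hs) hv⟩
  have hS2 : S ≤ stb P (V2 W S 𝒴) := fun s hs => ⟨SP hs, fun v hv => F.smul_V2 (F.cj_S hs) hv⟩
  have hJ : ¬ P ≤ J := by
    intro hJ
    rcases hP _ _ hS1 hS2 (le_antisymm (sup_le (fun p hp => hp.1) fun p hp => hp.1) hJ) with h | h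
    · exact hZ1 fun p hp => (h.ge hp).2
    · exact hV fun p hp => (h.ge hp).2
  let N : Subgroup Γ := closure {x | ∃ Y ∈ 𝒴, ∃ T, Syl Y T ∧ AT W Y T ≤ P ∧ x ∈ AT W Y T}
  have hNP : N ≤ P := (closure_le _).2 (by
    rintro x ⟨Y, -, T, -, h1, h2⟩
    exact h1 h2)
  have hSylcj : ∀ {Y T : Subgroup Γ} (g : Γ), Syl Y T → Syl (cj g Y) (cj g T) := by
    intro Y T g h
    refine ⟨FF.Basic.cj_mono g h.le, FF.Basic.isPGroup_cj g h.two, ?_⟩
    rw [cj_eq_map, cj_eq_map, relIndex_map_map_of_injective _ _ (MulAut.conj g).injective]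
    exact h.odd
  have hn : ∀ p ∈ P, cj p N = N := by
    intro p hp
    refine FF.Basic.cj_eq_of_le ?_
    have h1 : N ≤ cj p⁻¹ N := (closure_le _).2 (by
      rintro x ⟨Y, hY, T, hT, h1, h2⟩
      refine mem_cj.2 (subset_closure ⟨cj p Y, F.fam.mem_cj hY (PM hp), cj p T, hSylcj p hT, ?_, ?_⟩)
      · rw [AT_cj]
        have h3 := FF.Basic.cj_mono p h1
        rwa [FF.Basic.cj_eq_self_of_mem hp] at h3
      · rw [AT_cj, mem_cj]
        have e : p⁻¹ * (p⁻¹⁻¹ * x * p⁻¹) * p = x := by group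
        rwa [e])
    have h2 := FF.Basic.cj_mono p h1
    rwa [FF.Basic.cj_cj_inv] at h2
  have hNJ : N ≤ J := (closure_le _).2 (by
    rintro x ⟨Y, hY, T, hT, h1, h2⟩
    refine (F.one hY).AT_le_of (P := P) (J := J) (F.syl hY) hT (inf_le_left.trans SP)
      ((inf_le_left.trans hS1).trans le_sup_left) h1 (fun y hy hyP h => ?_) (fun y hy hyP h => ?_) h2
    · have h3 : y ∈ stb P (Z1 W S 𝒴) := ⟨hyP, fun v hv => by
        rw [F.fix_Z1 hY hy h (F.mem_Z1_iff.1 hv Y hY)]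
        exact hv⟩
      exact mem_sup_left h3
    · have h3 : y ∈ stb P (V2 W S 𝒴) := ⟨hyP, fun v hv => by
        have e : y • v = (y • v - v) + v := by abel
        rw [e]
        exact add_mem (F.V2_of hY hy h v) hv⟩
      exact mem_sup_right h3)
  rcases sup_or hNP hn SP F.S2 hodd hP with h | h
  · refine hJ ?_
    rw [← h]
    exact sup_le hNJ (hS1.trans le_sup_left)
  · apply hZ1
    intro p hp w hw
    refine F.mem_Z1_iff.2 fun Y' hY' s hs => ?_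
    set Y := cj p⁻¹ Y' with hYdef
    have hY : Y ∈ 𝒴 := F.fam.mem_cj hY' (PM (inv_mem hp))
    have hYY' : cj p Y = Y' := FF.Basic.cj_cj_inv p Y'
    have hg : p⁻¹ * s * p ∈ Y := by
      have h1 : s ∈ cj p Y := by rw [hYY']; exact hs.2
      exact mem_cj.1 h1
    -- the point of `S ∩ Y`
    have h1 : AT W Y (S ⊓ Y) ≤ S ⊓ N := by
      have h2 : AT W Y (S ⊓ Y) ≤ S := ((F.one hY).AT_le (F.syl hY)).trans inf_le_left
      exact fun x hx => ⟨h2 hx, subset_closure ⟨Y, hY, S ⊓ Y, F.syl hY, h2.trans SP, hx⟩⟩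
    have h2 : AT W Y' (cj p (S ⊓ Y)) ≤ S ⊓ Y' := by
      refine le_inf ?_ AT_Y
      rw [← hYY', AT_cj]
      have h3 := FF.Basic.cj_mono p h1
      rw [h p hp] at h3
      exact h3.trans inf_le_left
    have h3 : Syl Y' (cj p (S ⊓ Y)) := by
      have h4 := hSylcj p (F.syl hY)
      rwa [hYY'] at h4
    have h4 := (F.one hY').lT_le (F.syl hY') h3 h2
    have h5 : (p⁻¹ * s * p) • w = w := by
      refine F.fix_Z1 hY hg (fun v hv => ?_) (F.mem_Z1_iff.1 hw Y hY)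
      have h6 : p • v ∈ lT W Y' (cj p (S ⊓ Y)) := by
        rw [← hYY', mem_lT_cj, inv_smul_smul]
        exact hv
      have h7 := (h4 h6).2 s hs
      rw [mul_smul, mul_smul, h7, inv_smul_smul]
    rw [mul_smul, mul_smul, inv_smul_eq_iff] at h5
    exact h5

end FamS

/-- **(E2)**, the announced form. -/
theorem node_one [Finite Γ] [Finite W] (F : Fam W M 𝒴) (hsp : (⨆ Y ∈ 𝒴, cm W Y) ⊔ fx W (RR 𝒴) = ⊤)
    (hS2 : IsPGroup 2 S) (syl : ¬ 2 ∣ S.relIndex M) (SP : S ≤ P) (PM : P ≤ M)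
    (hP : ∀ Q₁ Q₂ : Subgroup Γ, S ≤ Q₁ → S ≤ Q₂ → Q₁ ⊔ Q₂ = P → Q₁ = P ∨ Q₂ = P)
    (hZ : ¬ ∀ p ∈ P, ∀ w : W, (∀ s ∈ S, s • w = w) → p • w = w) : ∀ p ∈ P, ∀ v ∈ V2 W S 𝒴, p • v ∈ V2 W S 𝒴 :=
  FamS.node_one ⟨F, hsp, hS2, SP.trans PM, syl⟩ SP PM hP hZ

end Cfsg.Agent.Omega.NO3b.BasePt

end
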