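import Cfsg.Agent.Mrg.Omega.NO3b.BasePt.FamU
import Cfsg.Agent.Mrg.Omega.NO3b.BetaTwo.FamPlug
import Cfsg.Agent.Mrg.Omega.NOThreeL.EndFiveKey

section


/-!
# NotFFG (3L-T), (B): the blocks of `V` at the base point

`LocG S M B`, `V = VB S B`: the blocks of all the panels over `Z` form a family `Fam (MU hV) (im hN (N_G(B)))`.

* `BlkOf.bu`, `bu_JB` : the input of `FamU.lean` from `GamJB.lean`;
* `exists_famG`.
-/

set_option autoImplicit false

namespace Cfsg.Agent.Omega.NO3b.BasePt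

open Subgroup Cfsg
open Cfsg.Agent.ZN (o2 zc zl)
open Cfsg.Agent.MinSimple.EmptyTI (syl_of_le)
open Cfsg.Agent.MinSimple.VModule (zl_le zc_le_zl le_normalizer_zl le_centralizer_zc)
open Cfsg.Agent.Omega.NO3b.EZero (NotFF Par)
open Cfsg.Agent.Omega.NO3b.Alpha (Fl)
open Cfsg.Agent.Omega.NO3b.Exit
open Cfsg.Agent.Omega.NO3b.Exit.Bridge
open Cfsg.Agent.Omega.NO3b.Exit.TDat (Red)
open Cfsg.Agent.Omega.NO3b.BetaTwo (JB)
open Cfsg.Agent.Omega.NO3b.BasePt.FamG
open Cfsg.Agent.Omega.NOThreeL.HypGFrame (LocG)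
open Cfsg.Agent.Omega.NOThreeL.Star (Opt)
open Cfsg.Agent.Omega.FFBr (XX pr im mem_im)
open Cfsg.Agent.Omega.FF.Basic (fx)
open scoped Pointwise

universe u v

variable {G : Type u} [Group G]

theorem BlkOf.bu {S B F H : Subgroup G} {hU : zl S H ≤ centralizer (zl S H : Set G)}
    (hM : normalizer (B : Set G) ≤ H) (b : BlkOf S B F H hU) : BU (VB S B) (normalizer (B : Set G)) F (zl S H) := by
  obtain ⟨BB, Lw, C, x, hV, blk⟩ := b
  exact ⟨V_le_H hM _, H, nH S H, hU, hV, hM, _, _, BB, Lw, C, x, _, blk⟩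

variable [Finite G] {S : Sylow 2 G} {M B : Subgroup G} (h : LocG S M B)
  (hc : IsCharacteristicTwoType G) (hSne : (S : Subgroup G) ≠ ⊥)
include h hc hSne

/-- a panel of the family with `Blk0` in `V_J` -/
theorem bu_JB {ι : Type v} [Nonempty ι] (F T X : ι → Subgroup G)
    (f : ∀ i, Fl S (VB (S : Subgroup G) B) (F i) (T i)) (hZ : ∀ i, zc (S : Subgroup G) ≤ F i)
    (p : ∀ i, Par (VB (S : Subgroup G) B) (F i) (T i) (X i)) :
    ∃ i, BU (VB (S : Subgroup G) B) (normalizer (B : Set G)) (F i) (zl (S : Subgroup G) (JB B X)) := by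
  obtain ⟨A, hA, hAB, i, hAX⟩ := h.exists_opt_fam hc hSne F T X f hZ p
  have hH := BetaTwo.char2_JB h.adm hc (h.loc_fam hc hSne F T X f hZ p)
  exact ⟨i, (blkH h.adm hc (f i) (p i) BetaTwo.NB_le_JB (BetaTwo.X_le_JB i) hH hA hAB hAX
    (h.two hc hSne (f i) (hZ i) (p i))).bu BetaTwo.NB_le_JB⟩

/-- one panel -/
theorem bu_one {F T X : Subgroup G} (f : Fl S (VB (S : Subgroup G) B) F T) (hZ : zc (S : Subgroup G) ≤ F)
    (p : Par (VB (S : Subgroup G) B) F T X) :
    BU (VB (S : Subgroup G) B) (normalizer (B : Set G)) F (zl (S : Subgroup G) (JB B fun _ : Unit => X)) := by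
  obtain ⟨i, hi⟩ := bu_JB h hc hSne (fun _ : Unit => F) (fun _ => T) (fun _ => X) (fun _ => f) (fun _ => hZ)
    (fun _ => p)
  exact hi

/-- two panels -/
theorem bu_two {F T X F' T' X' : Subgroup G} (f : Fl S (VB (S : Subgroup G) B) F T)
    (hZ : zc (S : Subgroup G) ≤ F) (p : Par (VB (S : Subgroup G) B) F T X)
    (f' : Fl S (VB (S : Subgroup G) B) F' T') (hZ' : zc (S : Subgroup G) ≤ F')
    (p' : Par (VB (S : Subgroup G) B) F' T' X') :
    ∃ U, zl (S : Subgroup G) (JB B fun _ : Unit => X) ≤ U ∧ zl (S : Subgroup G) (JB B fun _ : Unit => X') ≤ U ∧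
      (BU (VB (S : Subgroup G) B) (normalizer (B : Set G)) F U ∨
        BU (VB (S : Subgroup G) B) (normalizer (B : Set G)) F' U) := by
  have hJ : ∀ b : Bool, JB B (fun _ : Unit => if b then X else X') ≤ JB B (fun b : Bool => if b then X else X') :=
    fun b => sup_le BetaTwo.NB_le_JB (iSup_le fun _ => BetaTwo.X_le_JB (X := fun b : Bool => if b then X else X') b)
  refine ⟨_, NOThreeL.Star.zl_mono _ (hJ true), NOThreeL.Star.zl_mono _ (hJ false), ?_⟩
  obtain ⟨i, hi⟩ := bu_JB h hc hSne (ι := Bool) (fun b => if b then F else F') (fun b => if b then T else T')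
    (fun b => if b then X else X') (by rintro (_ | _); exacts [f', f]) (by rintro (_ | _); exacts [hZ', hZ])
    (by rintro (_ | _); exacts [p', p])
  rcases i with _ | _
  · exact Or.inr hi
  · exact Or.inl hi

omit hc hSne in
theorem red_NB {N : Subgroup G} (hN : N ≤ normalizer (VB (S : Subgroup G) B : Set G))
    (hV : VB (S : Subgroup G) B ≤ centralizer (VB (S : Subgroup G) B : Set G)) (hMN : normalizer (B : Set G) ≤ N) :
    Red (im hN (normalizer (B : Set G))) (⊤ : AddSubgroup (MU hV)) := by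
  have h1 := LocBar.red_im (hc := hV) (S := (S : Subgroup G)) (Z := zc (S : Subgroup G)) hN hMN
    (syl_of_le (wc_S_le h.adm.wc)) le_rfl (le_normalizer_zl _ _) (zc_le_zl _ _) (le_centralizer_zc _)
    fun _ hW hWM => zl_le hW hWM
  rwa [ad_U] at h1

/-- **The blocks of `V`.** -/
theorem exists_famG {N : Subgroup G} (hN : N ≤ normalizer (VB (S : Subgroup G) B : Set G))
    (hV : VB (S : Subgroup G) B ≤ centralizer (VB (S : Subgroup G) B : Set G)) (hMN : normalizer (B : Set G) ≤ N) :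
    ∃ 𝒴 : Set (Subgroup (XX hN)), Fam (MU hV) (im hN (normalizer (B : Set G))) 𝒴 ∧
      (∀ w : MU hV, ∃ a ∈ AddSubgroup.closure {v : MU hV | ∃ Y ∈ 𝒴, v ∈ cm (MU hV) Y}, ∃ c : MU hV,
        (∀ r ∈ RR 𝒴, r • c = c) ∧ w = a + c) ∧
      ∀ F T X : Subgroup G, Fl S (VB (S : Subgroup G) B) F T → zc (S : Subgroup G) ≤ F →
        Par (VB (S : Subgroup G) B) F T X → ∃ Y ∈ 𝒴, ∃ Q ≤ Y, fx (MU hV) Q = ad hV F := by
  obtain ⟨𝒴, h1, h2, h3⟩ := exists_fam (hN := hN) (hV := hV) h.adm.sq (red_NB h hN hV hMN) hMN h.adm.nff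
    (ι := {t : Subgroup G × Subgroup G × Subgroup G // Fl S (VB (S : Subgroup G) B) t.1 t.2.1 ∧
      zc (S : Subgroup G) ≤ t.1 ∧ Par (VB (S : Subgroup G) B) t.1 t.2.1 t.2.2})
    (fun t => t.1.1) (fun t => zl (S : Subgroup G) (JB B fun _ : Unit => t.1.2.2))
    (fun t => t.2.1.le) (fun t h0 => t.2.1.nle (by
      rw [h0]
      exact centralizer_le_normalizer _))
    (fun t => bu_one h hc hSne t.2.1 t.2.2.1 t.2.2.2)
    (fun t t' => bu_two h hc hSne t.2.1 t.2.2.1 t.2.2.2 t'.2.1 t'.2.2.1 t'.2.2.2)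
  exact ⟨𝒴, h1, h2, fun F T X f hZ p => h3 ⟨(F, T, X), f, hZ, p⟩⟩

end Cfsg.Agent.Omega.NO3b.BasePt

end

section


/-!
# NotFFG (3L-T): `BasePoint`

* `existsFam : ExistsFam` (helper823's `exists_famG`), **`basePoint : BasePoint`** (helper235's `basePoint_of`).
-/

set_option autoImplicit false

namespace Cfsg.Agent.Omega.NO3b.BasePt

open Subgroup Cfsg

universe u

/-- **the family of blocks exists** -/
theorem existsFam : ExistsFam.{u} := by
  intro G _ _ S M B hc hSne g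
  have l := g.adm.lines
  obtain ⟨𝒴, h1, h2, h3⟩ := exists_famG g hc hSne (N := normalizer (Exit.VB (S : Subgroup G) B : Set G)) le_rfl l.comm
    l.NJ
  exact ⟨_, le_rfl, l.comm, 𝒴, l.NJ, h1, h2, h3⟩

/-- **`BasePoint`** -/
theorem basePoint : BasePoint.{u} := basePoint_of existsFam

end Cfsg.Agent.Omega.NO3b.BasePt

end
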