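import Cfsg.Agent.Mrg.Omega.NO3b.Closed.CountB
import Cfsg.Agent.Mrg.Omega.NO3b.Wc.Frame


/-!
# NotFFG (3L-T), the end: the flag `(S₁, Z₁, V₍₂₎)` at the base point (#22497 (d), #22687 (E3))

`(S, Z, V)` is a flag (`S` Sylow in `C_G(Z)`), `Z ≤ Z₁ ≤ V' ≤ V`, `C₀ ≤ N_G(Z₁)` (THEOREM BP; `C₀ = C_G(Ω₁Z(S))`),
`S₁ = C_S(Z₁)`.

* `FlagDat S Z V Z₁ V' M₀ C₀` : the data;
* `FlagDat.frattini` : `C₀ ≤ ⟨C_G(Z₁), N_G(S₁) ∩ N_G(Z₁)⟩`;
* `FlagDat.fixC` : `w ∈ ⟨V^{C_G(Z)}⟩` fixed by `S₁` and `C_G(V)` is centralised by `C_G(Z₁)` (one trace argument);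
* `FlagDat.nonloc'` : `⟨N_G(V'), C_G(Z₁)⟩` is nonlocal;
* **`FlagDat.flag`, `FlagDat.geo`** : `ClosedPt.Flag S₁ Z₁ V'`, `ClosedPt.Geo S₁ Z₁ V' N_G(V')`;
* `syl_of_norm`, `syl_of_wc` : `S₁` is Sylow in `C_G(Z₁)`;
* `FlagDat.of_wc` : the data from a weakly closed `B ≤ C_S(V)`, `N_G(B) ≤ N_G(V)`, `Z₁ = C_V(S₁)`,
  `V' = {v ∈ V | [v, S₁] ≤ Z₁}`.
-/

set_option autoImplicit false

namespace Cfsg.Agent.Omega.NO3b.BasePt

open Subgroup Cfsg
open Cfsg.Agent.ZN (o2 zc zl)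
open Cfsg.Agent.ZN.ChoiceBase hiding mem_zc
open Cfsg.Agent.ZN.ChoiceSit (Syl exists_syl syl_conj o2_le_syl syl_not_dvd)
open Cfsg.Agent.Omega.MinPar (NonLoc)
open Cfsg.Agent.Omega.NO3b.EZero (cl cl_le le_cl cj_le_cl cent_symm cj_cent le_normalizer_cl sq_of_comm)
open Cfsg.Agent.Omega.NO3b.ClosedPt (norm_cent norm_inf norm_of cent_mono odd_inf trace trace' Flag Geo)
open Cfsg.Agent.Omega.NO3b.Wc (WC)

universe u

variable {G : Type u} [Group G]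

/-! ### Sylow subgroups -/

theorem syl_cj [Finite G] {T X : Subgroup G} (g : G) (h : Syl T X) : Syl (cj g T) (cj g X) := by
  refine ⟨cj_mono g h.1, isPGroup_cj g h.2.1, fun Q hQ hp hT => ?_⟩
  have h1 := h.2.2 (cj g⁻¹ Q) ?_ (isPGroup_cj _ hp) ?_
  · rw [← h1, cj_cj_inv]
  · have := cj_mono g⁻¹ hQ
    rwa [cj_inv_cj] at this
  · have := cj_mono g⁻¹ hT
    rwa [cj_inv_cj] at this

/-- `C_G(Z) ≤ N_G(Z₁)`, `Z ≤ Z₁`: `C_S(Z₁)` is Sylow in `C_G(Z₁)`. -/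
theorem syl_of_norm [Finite G] {S Z Z₁ : Subgroup G} (hS : Syl S (centralizer (Z : Set G))) (hZ : Z ≤ Z₁)
    (hn : centralizer (Z : Set G) ≤ normalizer (Z₁ : Set G)) :
    Syl (S ⊓ centralizer (Z₁ : Set G)) (centralizer (Z₁ : Set G)) := by
  have hCn := norm_cent hn
  refine ⟨inf_le_right, hS.2.1.to_le inf_le_left, fun Q hQ hp hle => ?_⟩
  obtain ⟨T, hT, hQT⟩ := exists_syl hp (hQ.trans (cent_mono hZ))
  obtain ⟨x, hx, hxT⟩ := syl_conj hT hS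
  have h1 : cj x Q ≤ S ⊓ centralizer (Z₁ : Set G) := by
    refine le_inf ?_ ?_
    · rw [← hxT]; exact cj_mono x hQT
    · have h2 := cj_mono x hQ
      rwa [mem_normalizer_iff_cj.1 (hCn hx)] at h2
  have h2 := card_le_of_le h1
  rw [card_cj] at h2
  exact (eq_of_le_of_card_ge hle h2).symm

/-- `B` weakly closed in `S`, `B ≤ S₁`: a Sylow subgroup `S₁` of `N_G(B) ∩ X` is Sylow in `X`. -/
theorem syl_of_wc [Finite G] {S B S₁ X : Subgroup G} (wc : WC S B) (hB : B ≤ S₁) (hS₁ : S₁ ≤ S)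
    (hS : Syl S₁ (normalizer (B : Set G) ⊓ X)) : Syl S₁ X := by
  refine ⟨hS.1.trans inf_le_right, hS.2.1, fun Q hQ hp hle => ?_⟩
  by_contra hne
  have hn : ¬ Q ⊓ normalizer (S₁ : Set G) ≤ S₁ := by
    intro h0
    have hf : Fact (Nat.Prime 2) := ⟨Nat.prime_two⟩
    have hlt : S₁ < Q := lt_of_le_of_ne hle fun h => hne h.symm
    have h1 : S₁.subgroupOf Q < ⊤ := by
      refine lt_top_iff_ne_top.2 fun h2 => ?_
      exact hlt.not_ge (subgroupOf_eq_top.1 h2)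
    have h2 := hp.isNilpotent
    have h3 := Group.normalizerCondition_of_isNilpotent (G := Q) _ h1
    refine h3.not_ge ?_
    intro x hx
    rw [mem_subgroupOf]
    refine h0 ⟨x.2, ?_⟩
    rw [mem_normalizer_iff] at hx
    refine mem_normalizer_iff.2 fun y => ?_
    constructor
    · intro hy
      exact (hx ⟨y, hle hy⟩).1 hy
    · intro hy
      have hyQ : y ∈ Q := by
        have h4 := Q.mul_mem (Q.mul_mem (Q.inv_mem x.2) (hle hy)) x.2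
        have e : (x : G)⁻¹ * (x * y * (x : G)⁻¹) * x = y := by group
        rwa [e] at h4
      exact (hx ⟨y, hyQ⟩).2 hy
  apply hn
  have h1 : Q ⊓ normalizer (S₁ : Set G) ≤ normalizer (B : Set G) ⊓ X := by
    refine le_inf ?_ (inf_le_left.trans hQ)
    intro n hn
    rw [mem_normalizer_iff_cj]
    refine wc.eq n ?_
    have h2 := cj_mono n hB
    rw [mem_normalizer_iff_cj.1 hn.2] at h2
    exact h2.trans hS₁
  rw [hS.2.2 _ h1 (hp.to_le inf_le_left) (le_inf hle le_normalizer)]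

/-- The data at the base point. -/
structure FlagDat (S Z V Z₁ V' M₀ C₀ : Subgroup G) : Prop where
  syl : Syl S (centralizer (Z : Set G))
  SV : S ≤ normalizer (V : Set G)
  ZZ₁ : Z ≤ Z₁
  Z₁V' : Z₁ ≤ V'
  V'V : V' ≤ V
  ne : Z₁ ≠ ⊥
  sq : ∀ v ∈ V, v * v = 1
  Vo₁ : V' ≤ o2 (centralizer (Z₁ : Set G))
  comm : cl V (centralizer (Z : Set G)) ≤ centralizer (cl V (centralizer (Z : Set G)) : Set G)
  fix : ∀ w ∈ cl V (centralizer (Z : Set G)), (∀ s ∈ S, s * w = w * s) →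
    (∀ y ∈ centralizer (V : Set G), y * w = w * y) → ∀ c ∈ centralizer (Z : Set G), c * w = w * c
  hz : ∀ a b : G, cj a V ⊓ cj b V ≠ ⊥ → cj a V ≤ centralizer ((cj b V : Subgroup G) : Set G)
  SZ₁ : S ≤ normalizer (Z₁ : Set G)
  syl₁ : Syl (S ⊓ centralizer (Z₁ : Set G)) (centralizer (Z₁ : Set G))
  CZ₁ : C₀ ≤ normalizer (Z₁ : Set G)
  fixV : ∀ v ∈ V', (∀ s ∈ S ⊓ centralizer (Z₁ : Set G), s * v = v * s) → v ∈ Z₁
  frat : normalizer ((S ⊓ centralizer (Z₁ : Set G) : Subgroup G) : Set G) ⊓ normalizer (Z₁ : Set G) ≤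
    normalizer (V' : Set G)
  gen : M₀ ≤ normalizer (V' : Set G) ⊔ C₀
  nonloc : NonLoc M₀ C₀

namespace FlagDat

variable {S Z V Z₁ V' M₀ C₀ : Subgroup G} (h : FlagDat S Z V Z₁ V' M₀ C₀)
include h

theorem cent_le : centralizer (Z₁ : Set G) ≤ centralizer (Z : Set G) := cent_mono h.ZZ₁

/-- Frattini: `N_G(Z₁) ≤ ⟨C_G(Z₁), N_G(S₁) ∩ N_G(Z₁)⟩`. -/
theorem frattini [Finite G] : normalizer (Z₁ : Set G) ≤ centralizer (Z₁ : Set G) ⊔
    (normalizer ((S ⊓ centralizer (Z₁ : Set G) : Subgroup G) : Set G) ⊓ normalizer (Z₁ : Set G)) := by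
  intro c hc
  have h1 := syl_cj c h.syl₁
  rw [mem_normalizer_iff_cj.1 (norm_cent le_rfl hc)] at h1
  obtain ⟨x, hx, hxT⟩ := syl_conj h1 h.syl₁
  rw [cj_cj] at hxT
  have h2 : x * c ∈ centralizer (Z₁ : Set G) ⊔
      (normalizer ((S ⊓ centralizer (Z₁ : Set G) : Subgroup G) : Set G) ⊓ normalizer (Z₁ : Set G)) :=
    (le_sup_right : _ ≤ centralizer (Z₁ : Set G) ⊔ _)
      ⟨mem_normalizer_iff_cj.2 hxT, mul_mem (centralizer_le_normalizer _ hx) hc⟩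
  have h3 := mul_mem (inv_mem ((le_sup_left : centralizer (Z₁ : Set G) ≤ centralizer (Z₁ : Set G) ⊔
      (normalizer ((S ⊓ centralizer (Z₁ : Set G) : Subgroup G) : Set G) ⊓ normalizer (Z₁ : Set G))) hx)) h2
  rwa [inv_mul_cancel_left] at h3

theorem SV' : S ≤ normalizer (V' : Set G) :=
  (le_inf (norm_inf le_normalizer (norm_cent h.SZ₁)) h.SZ₁).trans h.frat

/-- `⟨N_G(V'), C_G(Z₁)⟩` is nonlocal. -/
theorem nonloc' [Finite G] (R : Subgroup G) (hR : IsPGroup 2 R)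
    (h1 : normalizer (V' : Set G) ≤ normalizer (R : Set G))
    (h2 : centralizer (Z₁ : Set G) ≤ normalizer (R : Set G)) : R = ⊥ := by
  have h3 : C₀ ≤ normalizer (R : Set G) := h.CZ₁.trans (h.frattini.trans (sup_le h2 (h.frat.trans h1)))
  exact h.nonloc R hR (h.gen.trans (sup_le h1 h3)) h3

theorem cl_le_cl : cl V' (centralizer (Z₁ : Set G)) ≤ cl V (centralizer (Z : Set G)) :=
  cl_le fun _ hc => (cj_mono _ h.V'V).trans (cj_le_cl (h.cent_le hc))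

theorem comm' : cl V' (centralizer (Z₁ : Set G)) ≤ centralizer (cl V' (centralizer (Z₁ : Set G)) : Set G) :=
  h.cl_le_cl.trans (h.comm.trans (cent_mono h.cl_le_cl))

theorem W_sq : ∀ a ∈ cl V (centralizer (Z : Set G)), a ^ 2 = 1 :=
  sq_of_comm h.comm (B := fun c : centralizer (Z : Set G) => cj (c : G) V) (fun c => cj_le_cl c.2) le_rfl (by
    rintro c _ ⟨x, hx, rfl⟩
    rw [← map_pow, pow_two, h.sq x hx, map_one])

/-- **fixC**: `w ∈ ⟨V^{C_G(Z)}⟩` fixed by `S₁` and by `C_G(V)` is centralised by `C_G(Z₁)`. -/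
theorem fixC [Finite G] : ∀ w ∈ cl V (centralizer (Z : Set G)),
    (∀ s ∈ S ⊓ centralizer (Z₁ : Set G), s * w = w * s) → (∀ y ∈ centralizer (V : Set G), y * w = w * y) →
      ∀ c ∈ centralizer (Z₁ : Set G), c * w = w * c :=
  trace' (fun a ha b hb => mem_centralizer_iff.1 (h.comm hb) a ha) (fun a ha => by rw [← pow_two]; exact h.W_sq a ha)
    (h.cent_le.trans (le_normalizer_cl _ _)) h.syl.2.1 (h.syl.1.trans (le_normalizer_cl _ _)) (norm_cent h.SZ₁)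
    (cent_mono (h.Z₁V'.trans h.V'V)) (norm_cent h.SV) (syl_not_dvd h.syl₁)
    fun w hw hS hy x hx => h.fix w hw hS hy x (h.cent_le hx)

/-- the form for the flag `(S₁, Z₁, V')` -/
theorem fixC' [Finite G] : ∀ w ∈ cl V' (centralizer (Z₁ : Set G)),
    (∀ s ∈ S ⊓ centralizer (Z₁ : Set G), s * w = w * s) → (∀ y ∈ centralizer (V' : Set G), y * w = w * y) →
      ∀ c ∈ centralizer (Z₁ : Set G), c * w = w * c := fun w hw hs hy =>
  h.fixC w (h.cl_le_cl hw) hs fun y hyV => hy y (cent_mono h.V'V hyV)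

/-- **fixC**, the strong form (without `C_G(V)`), if the strong form holds for `(S, Z, V)`. -/
theorem fixS [Finite G] (hs : ∀ w ∈ cl V (centralizer (Z : Set G)), (∀ s ∈ S, s * w = w * s) →
      ∀ c ∈ centralizer (Z : Set G), c * w = w * c) :
    ∀ w ∈ cl V' (centralizer (Z₁ : Set G)), (∀ s ∈ S ⊓ centralizer (Z₁ : Set G), s * w = w * s) →
      ∀ c ∈ centralizer (Z₁ : Set G), c * w = w * c := fun w hw =>
  trace (fun a ha b hb => mem_centralizer_iff.1 (h.comm hb) a ha) (fun a ha => by rw [← pow_two]; exact h.W_sq a ha)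
    (h.cent_le.trans (le_normalizer_cl _ _)) h.syl.2.1 (h.syl.1.trans (le_normalizer_cl _ _)) (norm_cent h.SZ₁)
    (syl_not_dvd h.syl₁) (fun w hw hS x hx => hs w hw hS x (h.cent_le hx)) w (h.cl_le_cl hw)

theorem hz' (a b : G) (hab : cj a V' ⊓ cj b V' ≠ ⊥) :
    cj a V' ≤ centralizer ((cj b V' : Subgroup G) : Set G) :=
  (cj_mono a h.V'V).trans ((h.hz a b fun h0 => hab (by
    rw [eq_bot_iff, ← h0]
    exact inf_le_inf (cj_mono _ h.V'V) (cj_mono _ h.V'V))).trans (cent_mono (cj_mono b h.V'V)))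

/-- the flag `(S₁, Z₁, V')` -/
theorem flag [Finite G] : Flag (S ⊓ centralizer (Z₁ : Set G)) Z₁ V' where
  syl := h.syl₁
  ZV := h.Z₁V'
  SV := inf_le_left.trans h.SV'
  Vo := h.Vo₁
  comm := h.comm'
  sq := fun v hv => h.sq v (h.V'V hv)
  fixC := h.fixC'
  fixV := h.fixV

/-- **`(N_G(V'), V')` is a pair for #19499 at the base point `Z₁`.** -/
theorem geo [Finite G] : Geo (S ⊓ centralizer (Z₁ : Set G)) Z₁ V' (normalizer (V' : Set G)) where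
  flag := h.flag
  ne := h.ne
  norm := le_rfl
  hz := h.hz'
  nonloc := h.nonloc'

end FlagDat

/-- `⟨V^{C_G(D)}⟩` is abelian for `1 ≠ D ≤ V`. -/
theorem cl_comm {V D : Subgroup G}
    (hz : ∀ a b : G, cj a V ⊓ cj b V ≠ ⊥ → cj a V ≤ centralizer ((cj b V : Subgroup G) : Set G))
    (hD : D ≤ V) (hne : D ≠ ⊥) :
    cl V (centralizer (D : Set G)) ≤ centralizer (cl V (centralizer (D : Set G)) : Set G) := by
  have key : ∀ c ∈ centralizer (D : Set G), D ≤ cj c V := by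
    intro c hcc z hz
    rw [mem_cj]
    have h1 := mem_centralizer_iff.1 hcc z hz
    have e : c⁻¹ * z * c = z := by rw [mul_assoc, h1]; group
    rw [e]
    exact hD hz
  refine cl_le fun a ha => cent_symm (cl_le fun b hb => ?_)
  refine hz b a fun h0 => hne ?_
  rw [eq_bot_iff, ← h0]
  exact le_inf (key b hb) (key a ha)

/-- **The data from the frame.** -/
theorem FlagDat.of_wc [Finite G] {S Z V Z₁ V' M₀ C₀ B : Subgroup G} (syl : Syl S (centralizer (Z : Set G)))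
    (SV : S ≤ normalizer (V : Set G)) (ne : Z ≠ ⊥)
    (ZV : Z ≤ Z₁) (sq : ∀ v ∈ V, v * v = 1)
    (Vo : ∀ D : Subgroup G, D ≤ V → D ≠ ⊥ → V ≤ o2 (centralizer (D : Set G)))
    (hz : ∀ a b : G, cj a V ⊓ cj b V ≠ ⊥ → cj a V ≤ centralizer ((cj b V : Subgroup G) : Set G))
    (fix : ∀ w ∈ cl V (centralizer (Z : Set G)), (∀ s ∈ S, s * w = w * s) →
      (∀ y ∈ centralizer (V : Set G), y * w = w * y) → ∀ c ∈ centralizer (Z : Set G), c * w = w * c)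
    (SZ₁ : S ≤ normalizer (Z₁ : Set G))
    (syl₁ : Syl (S ⊓ centralizer (Z₁ : Set G)) (centralizer (Z₁ : Set G)))
    (wc : WC S B) (BV : B ≤ centralizer (V : Set G))
    (hN : normalizer (B : Set G) ≤ normalizer (V : Set G))
    (hZ₁ : ∀ v, v ∈ Z₁ ↔ v ∈ V ∧ ∀ s ∈ S ⊓ centralizer (Z₁ : Set G), s * v = v * s)
    (hV' : ∀ v, v ∈ V' ↔ v ∈ V ∧ ∀ s ∈ S ⊓ centralizer (Z₁ : Set G), s * v * s⁻¹ * v⁻¹ ∈ Z₁)
    (CZ₁ : C₀ ≤ normalizer (Z₁ : Set G))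
    (gen : M₀ ≤ normalizer (V' : Set G) ⊔ C₀) (nonloc : NonLoc M₀ C₀) : FlagDat S Z V Z₁ V' M₀ C₀ := by
  have hZ₁V : Z₁ ≤ V := fun v hv => ((hZ₁ v).1 hv).1
  have hV'V : V' ≤ V := fun v hv => ((hV' v).1 hv).1
  have hZV' : Z₁ ≤ V' := fun v hv => (hV' v).2 ⟨hZ₁V hv, fun s hs => by
    rw [((hZ₁ v).1 hv).2 s hs]
    simp⟩
  have hB : B ≤ S ⊓ centralizer (Z₁ : Set G) := le_inf wc.le (BV.trans (cent_mono hZ₁V))
  have ne₁ : Z₁ ≠ ⊥ := fun h0 => ne (le_bot_iff.1 (ZV.trans h0.le))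
  refine ⟨syl, SV, ZV, hZV', hV'V, ne₁, sq, hV'V.trans (Vo _ hZ₁V ne₁), cl_comm hz (ZV.trans hZ₁V) ne, fix, hz, SZ₁,
    syl₁, CZ₁, fun v hv hs => (hZ₁ v).2 ⟨hV'V hv, hs⟩, ?_, gen, nonloc⟩
  rintro n ⟨hn, hnZ₁⟩
  have hnB : n ∈ normalizer (B : Set G) := by
    rw [mem_normalizer_iff_cj]
    refine wc.eq n ?_
    have h1 := cj_mono n hB
    rw [mem_normalizer_iff_cj.1 hn] at h1
    exact h1.trans inf_le_left
  have hnV := hN hnB
  have key : ∀ m : G, m ∈ normalizer ((S ⊓ centralizer (Z₁ : Set G) : Subgroup G) : Set G) →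
      m ∈ normalizer (V : Set G) → m ∈ normalizer (Z₁ : Set G) → ∀ v ∈ V', m * v * m⁻¹ ∈ V' := by
    intro m hm hmV hmZ v hv
    obtain ⟨h1, h2⟩ := (hV' v).1 hv
    refine (hV' _).2 ⟨(mem_normalizer_iff.1 hmV v).1 h1, fun s hs => ?_⟩
    have h3 : m⁻¹ * s * m ∈ S ⊓ centralizer (Z₁ : Set G) := (mem_normalizer_iff''.1 hm s).1 hs
    have h4 := (mem_normalizer_iff.1 hmZ _).1 (h2 _ h3)
    have e : s * (m * v * m⁻¹) * s⁻¹ * (m * v * m⁻¹)⁻¹ =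
        m * ((m⁻¹ * s * m) * v * (m⁻¹ * s * m)⁻¹ * v⁻¹) * m⁻¹ := by group
    rw [e]
    exact h4
  rw [mem_normalizer_iff]
  intro v
  refine ⟨key n hn hnV hnZ₁ v, fun hv => ?_⟩
  have h1 := key n⁻¹ (inv_mem hn) (inv_mem hnV) (inv_mem hnZ₁) _ hv
  have e : n⁻¹ * (n * v * n⁻¹) * n⁻¹⁻¹ = v := by group
  rwa [e] at h1

end Cfsg.Agent.Omega.NO3b.BasePt
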