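import Cfsg.Agent.Mrg.Omega.NO3b.BasePt.Trans
import Cfsg.Agent.Mrg.Omega.NO3b.Chain.Group


/-!
# NotFFG (NO-3L), the base point: a panel on `V` from `Blk0` in `U` (helper957)

`V ≤ U` abelian subgroups, `H ≤ N_G(U)`, `N ≤ N_G(V)`, `M₀ ≤ H ∩ N`.

* `trG hH hN M₀ X` : the image in `XX hN` of the elements of `M₀` whose image in `XX hH` lies in `X`;
* **`pb_of_blk0`** : `Blk0 .. (ad hU V) (ad hU F₀) .. (im hH M₀) KV S'` gives
  `PB (MU hV) (im hN M₀) (ad hV F₀) (trG Y) (trG KV)`, if `V` is not FF;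
* `dec_of_blk0` : `V = [V, trG Y] + C_V(trG Y)`.
-/

set_option autoImplicit false

namespace Cfsg.Agent.Omega.NO3b.BasePt

open Subgroup Cfsg
open Cfsg.Agent.Omega.NO3b.EZero (NotFF)
open Cfsg.Agent.Omega.NO3b.Exit
open Cfsg.Agent.Omega.NO3b.Exit.Bridge
open Cfsg.Agent.Omega.NO3b.Exit.BlkZ (Blk0)
open Cfsg.Agent.Omega.NO3b.Exit.LocBar (pr_mem_im)
open Cfsg.Agent.Omega.NO3b.Chain (pre mem_pre pre_le)
open Cfsg.Agent.Omega.FFBr (XX pr im mem_im card_im pr_eq_one pr_surjective)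
open Cfsg.Agent.Omega.FF.Basic (fx)
open scoped Pointwise

universe u

variable {G : Type u} [Group G] {U V H N M₀ : Subgroup G}

/-! ### Lifting of 2-subgroups, `NotFF` -/

section lift

variable (hN : N ≤ normalizer (V : Set G))

/-- every 2-subgroup of `XX hN` is the image of a 2-subgroup of `N` -/
theorem exists_im [Finite G] {A : Subgroup (XX hN)} (hA : IsPGroup 2 A) :
    ∃ A₀ : Subgroup G, A₀ ≤ N ∧ IsPGroup 2 A₀ ∧ im hN A₀ = A := by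
  have hfact : Fact (Nat.Prime 2) := ⟨Nat.prime_two⟩
  set K : Subgroup N := A.comap (pr hN) with hK
  let ψ : K →* A := ((pr hN).comp K.subtype).codRestrict A fun x => x.2
  have hψ : Function.Surjective ψ := by
    rintro ⟨y, hy⟩
    obtain ⟨x, rfl⟩ := pr_surjective hN y
    exact ⟨⟨x, hy⟩, rfl⟩
  obtain ⟨P⟩ := (inferInstance : Nonempty (Sylow 2 K))
  have h1 : (P.mapSurjective hψ : Subgroup A) = ⊤ := by
    apply (P.mapSurjective hψ).3 _ le_top |>.symm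
    exact hA.of_equiv Subgroup.topEquiv.symm
  refine ⟨((P : Subgroup K).map K.subtype).map N.subtype, map_subtype_le _, (P.2.map _).map _, ?_⟩
  apply le_antisymm
  · rintro _ ⟨x, ⟨_, ⟨k, -, rfl⟩, hk⟩, rfl⟩
    have e : x = (k : N) := Subtype.ext hk.symm
    rw [e]
    exact k.2
  · intro y hy
    have h2 : (⟨y, hy⟩ : A) ∈ (P.mapSurjective hψ : Subgroup A) := by rw [h1]; exact mem_top _
    rw [Sylow.coe_mapSurjective] at h2
    obtain ⟨k, hk, hky⟩ := h2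
    refine ⟨(k : N), ⟨(k : N), ⟨k, hk, rfl⟩, rfl⟩, congrArg Subtype.val hky⟩

variable {hV : V ≤ centralizer (V : Set G)}

/-- `NotFF` on the module -/
theorem nff_bar [Finite G] (nff : NotFF V) (A : Subgroup (XX hN)) (hA : IsPGroup 2 A)
    (hsq : ∀ a ∈ A, ∀ w : MU hV, a • a • w = w) (hne : A ≠ ⊥) :
    Nat.card A * Nat.card (fx (MU hV) A) < Nat.card (MU hV) := by
  obtain ⟨A₀, hA₀N, hA₀p, rfl⟩ := exists_im hN hA
  have hsq' : ∀ a ∈ A₀, a ^ 2 ∈ centralizer (V : Set G) := by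
    intro a ha
    rw [mem_centralizer_iff]
    intro v hv
    have h1 := congrArg val (hsq (pr hN ⟨a, hA₀N ha⟩) (pr_mem_im hN ha (hA₀N ha)) (Bridge.mk hV hv))
    have h2 : a * (a * v * a⁻¹) * a⁻¹ = v := h1
    have e : v * a ^ 2 = (a * (a * v * a⁻¹) * a⁻¹) * a ^ 2 := by rw [h2]
    rw [e, pow_two]; group
  have hcomm : ∀ a ∈ A₀, ∀ b ∈ A₀, a * b * a⁻¹ * b⁻¹ ∈ centralizer (V : Set G) := by
    intro a ha b hb
    have hVn : (centralizer (V : Set G)).subgroupOf (normalizer (V : Set G)) |>.Normal := inferInstance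
    have h1 := hsq' a ha
    have h2 := hsq' b hb
    have h3 := hsq' (a * b) (mul_mem ha hb)
    have e : a * b * a⁻¹ * b⁻¹ = (a * b) ^ 2 * ((b⁻¹ * (a ^ 2)⁻¹ * b)) * (b ^ 2)⁻¹ := by
      rw [pow_two, pow_two, pow_two]; group
    rw [e]
    refine mul_mem (mul_mem h3 ?_) (inv_mem h2)
    have h4 := hVn.conj_mem ⟨(a ^ 2)⁻¹, inv_mem (centralizer_le_normalizer _ h1)⟩ (inv_mem h1)
      (⟨b, hN (hA₀N hb)⟩⁻¹ : ↥(normalizer (V : Set G)))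
    have h5 : b⁻¹ * (a ^ 2)⁻¹ * (b⁻¹)⁻¹ ∈ centralizer (V : Set G) := h4
    rwa [inv_inv] at h5
  have hnc : ¬ A₀ ≤ centralizer (V : Set G) := fun h0 => hne (by
    rw [eq_bot_iff]
    rintro _ ⟨a, ha, rfl⟩
    exact mem_bot.2 ((pr_eq_one hN).2 (h0 ha)))
  have h1 := nff A₀ hA₀p (hA₀N.trans hN) hsq' hcomm hnc
  rw [fx_im hN hA₀N, card_ad, card_MU]
  have c1 := card_im hN hA₀N
  have r1 := NOThreeL.Star.rel_mul_card A₀ (centralizer (V : Set G))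
  have r2 := NOThreeL.Star.rel_mul_card V (centralizer (A₀ : Set G))
  have e1 : Nat.card (im hN A₀) = (centralizer (V : Set G)).relIndex A₀ := by
    rw [← c1] at r1
    exact (Nat.eq_of_mul_eq_mul_right Nat.card_pos r1).symm
  rw [e1, ← r2]
  exact Nat.mul_lt_mul_of_pos_right h1 Nat.card_pos

end lift

/-! ### The transfer -/

section

variable (hH : H ≤ normalizer (U : Set G)) (hN : N ≤ normalizer (V : Set G))

/-- the image in `XX hN` of the elements of `M₀` whose image in `XX hH` lies in `X` -/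
def trG (M₀ : Subgroup G) (X : Subgroup (XX hH)) : Subgroup (XX hN) := im hN (M₀ ⊓ pre hH X)

theorem mem_trG (hMH : M₀ ≤ H) (hMN : M₀ ≤ N) {X : Subgroup (XX hH)} {y : XX hN} :
    y ∈ trG hH hN M₀ X ↔ ∃ m, ∃ hm : m ∈ M₀, pr hH ⟨m, hMH hm⟩ ∈ X ∧ pr hN ⟨m, hMN hm⟩ = y := by
  constructor
  · rintro ⟨m, ⟨hm, hm'⟩, rfl⟩
    obtain ⟨_, h1⟩ := (mem_pre hH).1 hm'
    exact ⟨m, hm, h1, rfl⟩
  · rintro ⟨m, hm, h1, rfl⟩
    exact ⟨⟨m, hMN hm⟩, ⟨hm, (mem_pre hH).2 ⟨hMH hm, h1⟩⟩, rfl⟩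

theorem trG_mono {X X' : Subgroup (XX hH)} (h : X ≤ X') : trG hH hN M₀ X ≤ trG hH hN M₀ X' := by
  rintro _ ⟨m, ⟨hm, hm'⟩, rfl⟩
  obtain ⟨h1, h2⟩ := (mem_pre hH).1 hm'
  exact ⟨m, ⟨hm, (mem_pre hH).2 ⟨h1, h h2⟩⟩, rfl⟩

theorem trG_eq (hMH : M₀ ≤ H) (hMN : M₀ ≤ N) (X : Subgroup (XX hH)) :
    tr ((pr hH).comp (inclusion hMH)) ((pr hN).comp (inclusion hMN)) X = trG hH hN M₀ X := by
  ext y
  rw [mem_trG hH hN hMH hMN, mem_tr]
  constructor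
  · rintro ⟨p, hp, rfl⟩
    exact ⟨p, p.2, hp, rfl⟩
  · rintro ⟨m, hm, h1, rfl⟩
    exact ⟨⟨m, hm⟩, h1, rfl⟩

/-- the range is `im` -/
theorem range_eq (hMH : M₀ ≤ H) : ((pr hH).comp (inclusion hMH)).range = im hH M₀ := by
  ext y
  constructor
  · rintro ⟨m, rfl⟩
    exact ⟨⟨m, hMH m.2⟩, m.2, rfl⟩
  · rintro ⟨m, hm, rfl⟩
    exact ⟨⟨m, hm⟩, rfl⟩

variable (hU : U ≤ centralizer (U : Set G)) (hV : V ≤ centralizer (V : Set G))

/-- `V → U` -/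
def iVU (hVU : V ≤ U) : MU hV →+ MU hU := AddMonoidHom.mk' (fun w => Bridge.mk hU (hVU (val_mem w))) fun _ _ => rfl

theorem val_iVU (hVU : V ≤ U) (w : MU hV) : val (iVU hU hV hVU w) = val w := rfl

theorem range_iVU (hVU : V ≤ U) : (iVU hU hV hVU).range = ad hU V := by
  ext w
  constructor
  · rintro ⟨v, rfl⟩
    exact val_mem v
  · intro hw
    exact ⟨Bridge.mk hV hw, rfl⟩

theorem comap_iVU (hVU : V ≤ U) (F₀ : Subgroup G) : (ad hU F₀).comap (iVU hU hV hVU) = ad hV F₀ := rfl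

theorem tr_iVU (hVU : V ≤ U) (hMH : M₀ ≤ H) (hMN : M₀ ≤ N) :
    Tr ((pr hH).comp (inclusion hMH)) ((pr hN).comp (inclusion hMN)) (iVU hU hV hVU) where
  inj _ _ h := val_inj (congrArg (fun x : MU hU => val x) h)
  eqv _ _ := rfl
  faith := faith hN

variable {hH hN hU hV}

/-- **One panel on `V`.** -/
theorem pb_of_blk0 [Finite G] (hVU : V ≤ U) (hMH : M₀ ≤ H) (hMN : M₀ ≤ N) (nff : NotFF V) {F₀ : Subgroup G}
    {Y Q BB KV S' : Subgroup (XX hH)} {Lw C : AddSubgroup (MU hU)} {x : XX hH}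
    (B : Blk0 Y Q BB (ad hU V) (ad hU F₀) Lw C x (im hH M₀) KV S') :
    PB (MU hV) (im hN M₀) (ad hV F₀) (trG hH hN M₀ Y) (trG hH hN M₀ KV) := by
  have h1 := (tr_iVU hH hN hU hV hVU hMH hMN).pb B (range_iVU hU hV hVU) (range_eq hH hMH)
    (nff_bar hN (hV := hV) nff)
  rwa [range_eq hN hMN, trG_eq hH hN hMH hMN, trG_eq hH hN hMH hMN, comap_iVU] at h1

theorem dec_of_blk0 [Finite G] (hVU : V ≤ U) (hMH : M₀ ≤ H) (hMN : M₀ ≤ N) {F₀ : Subgroup G}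
    {Y Q BB KV S' : Subgroup (XX hH)} {Lw C : AddSubgroup (MU hU)} {x : XX hH}
    (B : Blk0 Y Q BB (ad hU V) (ad hU F₀) Lw C x (im hH M₀) KV S') (w : MU hV) :
    ∃ a ∈ cm (MU hV) (trG hH hN M₀ Y), ∃ c : MU hV, (∀ y ∈ trG hH hN M₀ Y, y • c = c) ∧ w = a + c := by
  have h1 := (tr_iVU hH hN hU hV hVU hMH hMN).dec B (range_iVU hU hV hVU) (range_eq hH hMH) w
  rwa [trG_eq hH hN hMH hMN] at h1

/-- `{m | [U, m] ≤ V}` decreases with `U` -/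
theorem trG_KV_le {U' H' : Subgroup G} {hH' : H' ≤ normalizer (U' : Set G)} {hU' : U' ≤ centralizer (U' : Set G)}
    (hUU : U' ≤ U) (hMH' : M₀ ≤ H') {KV : Subgroup (XX hH)} {KV' : Subgroup (XX hH')}
    (h1 : ∀ k ∈ KV, ∀ u : MU hU, k • u - u ∈ ad hU V)
    (h2 : ∀ k, k ∈ im hH' M₀ → (∀ u : MU hU', k • u - u ∈ ad hU' V) → k ∈ KV') :
    trG hH hN M₀ KV ≤ trG hH' hN M₀ KV' := by
  rintro _ ⟨m, ⟨hm, hm'⟩, rfl⟩
  obtain ⟨h3, h4⟩ := (mem_pre hH).1 hm'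
  refine ⟨m, ⟨hm, (mem_pre hH').2 ⟨hMH' hm, h2 _ (pr_mem_im hH' hm (hMH' hm)) fun u => ?_⟩⟩, rfl⟩
  exact h1 _ h4 (Bridge.mk hU (hUU (val_mem u)))

end

end Cfsg.Agent.Omega.NO3b.BasePt
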