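import Cfsg.Agent.Mrg.Omega.NO3b.BasePt.Def
import Cfsg.Agent.Mrg.Omega.NO3b.Exit.BlkBP


/-!
# NotFFG (NO-3L), the base point: from `Blk0` in `U` to a panel `PB` on `V` (helper957)

`α : P →* Γ₁`, `β : P →* Γ₂`, `Γ₁` acts on `U`, `Γ₂` faithfully on `W`, `i : W → U` injective and equivariant with
image `V` (`structure Tr`).  `tr α β X = β (α⁻¹ X)`.

* `Tr.pb` : `Blk0 Y Q BB V F L C h M KV S` with `M = α P` gives
  `PB W (β P) (i⁻¹ F) (tr Y) (tr KV)`, if `V` has no quadratic offender;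
* `Tr.dec` : `W = [W, tr Y] + C_W(tr Y)`.
-/

set_option autoImplicit false
set_option linter.unusedSectionVars false

namespace Cfsg.Agent.Omega.NO3b.BasePt

open Subgroup
open Cfsg.Agent.Omega.NO3b.Exit Cfsg.Agent.Omega.NO3b.Exit.Ten Cfsg.Agent.Omega.NO3b.Exit.Descent
open Cfsg.Agent.Omega.NO3b.Exit.BlkZ
open Cfsg.Agent.Omega.NO3b.Exit.TBlk (V1 V1_le br_Y_V1 br_mem_V1 V1_fix)
open Cfsg.Agent.Omega.FF.Basic (fx)
open scoped Pointwise

universe u

/-! ### The subgroup `A₂` -/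

section sub

variable {Γ W : Type u} [Group Γ] [AddCommGroup W] [DistribMulAction Γ W]

/-- the action on an invariant subgroup -/
@[instance_reducible] def subAct (Y : Subgroup Γ) (A : AddSubgroup W) (h : ∀ y ∈ Y, ∀ a ∈ A, y • a ∈ A) : DistribMulAction Y A where
  smul y a := ⟨(y : Γ) • (a : W), h y y.2 a a.2⟩
  one_smul a := Subtype.ext (one_smul Γ (a : W))
  mul_smul x y a := Subtype.ext (mul_smul (x : Γ) (y : Γ) (a : W))
  smul_zero y := Subtype.ext (smul_zero (y : Γ))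
  smul_add y a b := Subtype.ext (smul_add (y : Γ) (a : W) (b : W))

end sub

section one

variable {Y : Type u} {A U : Type u} [Group Y] [AddCommGroup A] [DistribMulAction Y A] [AddCommGroup U]
  [DistribMulAction Y U]

/-- `A = [A, Y]` for a nontrivial irreducible module -/
theorem ind_comm [hI : IsIrr Y A] (hnt : ∃ (k : Y) (b : A), k • b ≠ b) {p : A → Prop} (h0 : p 0)
    (hadd : ∀ a b, p a → p b → p (a + b)) (hneg : ∀ a, p a → p (-a)) (hc : ∀ (k : Y) (b : A), p (k • b - b)) (a : A) :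
    p a := by
  let N : AddSubgroup A := AddSubgroup.closure {x | ∃ (k : Y) (b : A), x = k • b - b}
  have hN : N = ⊤ := by
    rcases hI.irr N (fun k n hn => by
      have e : k • n = (k • n - n) + n := by abel
      rw [e]
      exact N.add_mem (AddSubgroup.subset_closure ⟨k, n, rfl⟩) hn) with h | h
    · exfalso
      obtain ⟨k, b, hne⟩ := hnt
      have h1 : k • b - b ∈ N := AddSubgroup.subset_closure ⟨k, b, rfl⟩
      rw [h, AddSubgroup.mem_bot, sub_eq_zero] at h1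
      exact hne h1
    · exact h
  have h1 : a ∈ N := by rw [hN]; trivial
  induction h1 using AddSubgroup.closure_induction with
  | mem x hx =>
    obtain ⟨k, b, rfl⟩ := hx
    exact hc k b
  | zero => exact h0
  | add x y _ _ hx hy => exact hadd x y hx hy
  | neg x _ hx => exact hneg x hx

end one

/-! ### Dimensions in `Dat` -/

section dims

variable {H U : Type u} [Group H] [AddCommGroup U] [DistribMulAction H U] [Finite H] [Finite U]
variable {Y Q BB : Subgroup H} {V F L C : AddSubgroup U} {h : H} (D : Dat Y Q BB V F L C h)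
include D

theorem two_le_dimA [IsIrr Y (AM D)] : 2 ≤ Module.finrank (KK Y (AM D)) (AM D) := by
  obtain ⟨φ, hφ, hker⟩ := D.mdl.exists_dual
  obtain ⟨s, hs, hs0⟩ := D.mdl.ne
  have hfin : Module.Finite (KK Y (AM D)) (AM D) := Module.Finite.of_finite
  have h1 := LinearMap.finrank_range_add_finrank_ker φ
  have h2 : 0 < Module.finrank (KK Y (AM D)) (LinearMap.ker φ) := by
    rw [Module.finrank_pos_iff_exists_ne_zero]
    exact ⟨⟨s, (hker s).2 hs⟩, fun h0 => hs0 (congrArg Subtype.val h0)⟩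
  have h3 : 0 < Module.finrank (KK Y (AM D)) (LinearMap.range φ) := by
    rw [Module.finrank_pos_iff_exists_ne_zero]
    have h4 : ∃ a, φ a ≠ 0 := by
      by_contra hcon
      push Not at hcon
      exact hφ (LinearMap.ext hcon)
    obtain ⟨a, ha⟩ := h4
    exact ⟨⟨φ a, a, rfl⟩, fun h0 => ha (congrArg Subtype.val h0)⟩
  omega

theorem card_AZM_ge [IsIrr Y (AM D)] : Nat.card (KK Y (AM D)) ≤ Nat.card D.AZM := by
  obtain ⟨s, hs, hs0⟩ := D.mdl.ne
  refine Nat.card_le_card_of_injective (fun κ => (⟨κ • s, D.mdl.smul_mem κ hs⟩ : D.AZM)) fun κ κ' e => ?_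
  have h1 : κ • s = κ' • s := congrArg Subtype.val e
  have h2 : (κ - κ') • s = 0 := by rw [sub_smul, h1, sub_self]
  rcases smul_eq_zero.1 h2 with h3 | h3
  · exact sub_eq_zero.1 h3
  · exact absurd h3 hs0

/-- `|V| ≤ |F| |E|` -/
theorem card_V_le [IsIrr Y (AM D)] : Nat.card V ≤ Nat.card F * Nat.card (HomY Y (AM D) U) := by
  obtain ⟨a, ha⟩ := D.mdl.nt
  rw [← Nat.card_prod]
  have hex : ∀ v : V, ∃ u, (v : U) - D.bt a u ∈ F := fun v => D.mdl.span a ha v v.2
  choose g hg using hex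
  refine Nat.card_le_card_of_injective
    (fun v : V => ((⟨(v : U) - D.bt a (g v), hg v⟩ : F), D.mdl.psi (g v))) fun v v' e => ?_
  have h1 := congrArg (fun x : F × HomY Y (AM D) U => ((x.1 : F) : U)) e
  have h2 := congrArg (fun x : F × HomY Y (AM D) U => (x.2 : AM D →+ U) a) e
  change D.bt a (g v) = D.bt a (g v') at h2
  change (v : U) - D.bt a (g v) = (v' : U) - D.bt a (g v') at h1
  rw [h2] at h1
  exact Subtype.ext (sub_left_inj.1 h1)

end dims

/-! ### The transfer -/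

section tr

variable {P Γ₁ Γ₂ U W : Type u} [Group P] [Group Γ₁] [Group Γ₂] [AddCommGroup U] [DistribMulAction Γ₁ U]
  [AddCommGroup W] [DistribMulAction Γ₂ W]

/-- The situation. -/
structure Tr (α : P →* Γ₁) (β : P →* Γ₂) (i : W →+ U) : Prop where
  inj : Function.Injective i
  eqv : ∀ p w, i (β p • w) = α p • i w
  faith : ∀ g : Γ₂, (∀ w : W, g • w = w) → g = 1

/-- `β (α⁻¹ X)` -/
def tr (α : P →* Γ₁) (β : P →* Γ₂) (X : Subgroup Γ₁) : Subgroup Γ₂ := (X.comap α).map β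

theorem mem_tr {α : P →* Γ₁} {β : P →* Γ₂} {X : Subgroup Γ₁} {y : Γ₂} : y ∈ tr α β X ↔ ∃ p, α p ∈ X ∧ β p = y :=
  Iff.rfl

theorem tr_mono {α : P →* Γ₁} {β : P →* Γ₂} {X X' : Subgroup Γ₁} (h : X ≤ X') : tr α β X ≤ tr α β X' :=
  map_mono (comap_mono h)

namespace Tr

variable {α : P →* Γ₁} {β : P →* Γ₂} {i : W →+ U} (t : Tr α β i)
include t

theorem eq_zero {w : W} : i w = 0 ↔ w = 0 := map_eq_zero_iff i t.inj

theorem map_smul_sub (p : P) (X : AddSubgroup W) : (β p • X).map i = α p • X.map i := by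
  ext v
  constructor
  · rintro ⟨_, hw, rfl⟩
    obtain ⟨w, hw', rfl⟩ := (AddSubgroup.mem_smul_pointwise_iff_exists _ _ _).1 hw
    exact (AddSubgroup.mem_smul_pointwise_iff_exists _ _ _).2 ⟨i w, ⟨w, hw', rfl⟩, (t.eqv p w).symm⟩
  · intro hv
    obtain ⟨_, ⟨w, hw, rfl⟩, rfl⟩ := (AddSubgroup.mem_smul_pointwise_iff_exists _ _ _).1 hv
    exact ⟨β p • w, AddSubgroup.smul_mem_pointwise_smul w (β p) X hw, t.eqv p w⟩

theorem map_inj {X X' : AddSubgroup W} (h : X.map i = X'.map i) : X = X' :=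
  AddSubgroup.map_injective t.inj h

variable [Finite Γ₁] [Finite U] {Y Q BB : Subgroup Γ₁} {V F L C : AddSubgroup U} {h : Γ₁} {M KV S : Subgroup Γ₁}
  (B : Blk0 Y Q BB V F L C h M KV S) (hV : i.range = V) (hM : α.range = M)
include B hV hM

omit t in
theorem exists_w {v : U} (hv : v ∈ V) : ∃ w, i w = v := by
  rw [← hV] at hv
  exact hv

omit t in
theorem i_mem (w : W) : i w ∈ V := hV ▸ ⟨w, rfl⟩

omit t hV [Finite Γ₁] [Finite U] in
theorem exists_p {m : Γ₁} (hm : m ∈ M) : ∃ p, α p = m := by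
  rw [← hM] at hm
  exact hm

omit t hV hM [Finite Γ₁] [Finite U] in
theorem Y_le_M : Y ≤ M := B.YK.trans B.KM

omit t hV hM in
theorem V1_eq : V1 B.dat = img Y (AM B.dat) U := by
  refine le_antisymm (V1_le_img B.dat) ((AddSubgroup.closure_le _).2 ?_)
  rintro _ ⟨f, a, rfl⟩
  exact B.hom_mem f a

omit t hV hM in
theorem nt : ∃ (k : Y) (b : AM B.dat), k • b ≠ b := by
  obtain ⟨s, hs, hs0⟩ := B.dat.mdl.ne
  obtain ⟨b, hb⟩ := B.dat.mdl.nt
  obtain ⟨d, -, e⟩ := B.dat.mdl.surj b hb s hs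
  exact ⟨d, b, fun h0 => hs0 (by rw [← e, h0, sub_self])⟩

/-- `[W, tr Y]` is `V₁` -/
theorem cmV : (cm W (tr α β Y)).map i = V1 B.dat := by
  apply le_antisymm
  · rintro _ ⟨w, hw, rfl⟩
    induction hw using AddSubgroup.closure_induction with
    | mem w hw =>
      obtain ⟨_, ⟨p, hp, rfl⟩, w, rfl⟩ := hw
      rw [map_sub, t.eqv]
      exact br_Y_V1 B.dat hp (i_mem B hV hM w)
    | zero => rw [map_zero]; exact zero_mem _
    | add a b _ _ ha hb => rw [map_add]; exact add_mem ha hb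
    | neg a _ ha => rw [map_neg]; exact neg_mem ha
  · intro v hv
    refine B.V1_ind (P := fun v => v ∈ (cm W (tr α β Y)).map i) (zero_mem _) (fun _ _ => add_mem)
      (fun _ => neg_mem) (fun f a => ?_) hv
    have hI := B.dat.isIrr
    refine ind_comm (Y := Y) (A := AM B.dat) (nt B) (p := fun a => (f : AM B.dat →+ U) a ∈ (cm W (tr α β Y)).map i)
      ?_ (fun a b ha hb => ?_) (fun a ha => ?_) (fun k b => ?_) a
    · rw [map_zero]; exact zero_mem _
    · rw [map_add]; exact add_mem ha hb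
    · rw [map_neg]; exact neg_mem ha
    · obtain ⟨w, hw⟩ := exists_w B hV hM (V1_le B.dat (B.hom_mem f b))
      obtain ⟨p, hp⟩ := exists_p B hM (Y_le_M B k.2)
      refine ⟨β p • w - w, AddSubgroup.subset_closure ⟨β p, ⟨p, ?_, rfl⟩, w, rfl⟩, ?_⟩
      · change α p ∈ Y
        rw [hp]
        exact k.2
      · rw [map_sub, map_sub, t.eqv, hw, hp, f.2]
        rfl

omit B hV hM [Finite Γ₁] [Finite U] in
theorem congr {p q : P} (h : α p = α q) : β p = β q := by
  have h1 := t.faith (β (q⁻¹ * p)) fun w => t.inj (by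
    rw [t.eqv, map_mul, map_inv, h, inv_mul_cancel, one_smul])
  rw [map_mul, map_inv, inv_mul_eq_one] at h1
  exact h1.symm

/-- the values of `f` in `W` -/
theorem exists_cm (f : HomY Y (AM B.dat) U) (a : AM B.dat) : ∃ w ∈ cm W (tr α β Y), i w = (f : AM B.dat →+ U) a := by
  have h1 := B.hom_mem f a
  rw [← t.cmV B hV hM] at h1
  exact h1

/-- `tr Y` is generated by involutions -/
theorem gen : tr α β Y ≤ closure {y | y ∈ tr α β Y ∧ y * y = 1} := by
  set E := closure {y | y ∈ tr α β Y ∧ y * y = 1} with hE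
  let N : Subgroup Γ₁ :=
    { carrier := {n | n ∈ Y ∧ ∀ g ∈ Y, ∀ p, α p = g * n * g⁻¹ → β p ∈ E}
      one_mem' := ⟨one_mem _, fun g _ p hp => by
        have h1 : α p = α 1 := by rw [hp, map_one, mul_one, mul_inv_cancel]
        rw [t.congr h1, map_one]
        exact one_mem _⟩
      mul_mem' := by
        rintro a b ⟨ha, ha'⟩ ⟨hb, hb'⟩
        refine ⟨mul_mem ha hb, fun g hg p hp => ?_⟩
        obtain ⟨q, hq⟩ := exists_p B hM (Y_le_M B (mul_mem (mul_mem hg ha) (inv_mem hg)))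
        have h1 := ha' g hg q hq
        have h2 := hb' g hg (q⁻¹ * p) (by rw [map_mul, map_inv, hq, hp]; group)
        have e : p = q * (q⁻¹ * p) := by group
        rw [e, map_mul]
        exact mul_mem h1 h2
      inv_mem' := by
        rintro a ⟨ha, ha'⟩
        refine ⟨inv_mem ha, fun g hg p hp => ?_⟩
        have h1 := ha' g hg p⁻¹ (by rw [map_inv, hp]; group)
        rw [map_inv] at h1
        exact inv_mem_iff.1 h1 }
  have h1 : Y ≤ N := B.dat.gen N (fun n hn => hn.1) (fun k hk n hn => ⟨mul_mem (mul_mem hk hn.1) (inv_mem hk),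
    fun g hg p hp => hn.2 (g * k) (mul_mem hg hk) p (by rw [hp]; group)⟩) fun d hd => by
      refine ⟨B.dat.QY hd, fun g hg p hp => subset_closure ⟨⟨p, ?_, rfl⟩, ?_⟩⟩
      · change α p ∈ Y
        rw [hp]
        exact mul_mem (mul_mem hg (B.dat.QY hd)) (inv_mem hg)
      · rw [← map_mul, ← map_one β]
        refine t.congr ?_
        rw [map_mul, hp, map_one]
        have e : g * d * g⁻¹ * (g * d * g⁻¹) = g * (d * d) * g⁻¹ := by group
        rw [e, B.dat.Q_sq hd]
        group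
  rintro _ ⟨p, hp, rfl⟩
  exact (h1 hp).2 1 (one_mem _) p (by group)

/-- the fixed points of `tr Q` -/
theorem fxQ : fx W (tr α β Q) = F.comap i := by
  ext w
  constructor
  · intro hw
    refine B.mem_F (i_mem B hV hM w) fun d hd => ?_
    obtain ⟨p, hp⟩ := exists_p B hM (Y_le_M B (B.dat.QY hd))
    rw [← hp, ← t.eqv, hw (β p) ⟨p, by change α p ∈ Q; rwa [hp], rfl⟩]
  · rintro hw _ ⟨p, hp, rfl⟩
    exact t.inj (by rw [t.eqv]; exact B.dat.qF _ hp _ hw)

/-- `|A₀| ≤ |tr Q|` -/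
theorem card_AZM_le [Finite Γ₂] : Nat.card B.dat.AZM ≤ Nat.card (tr α β Q) := by
  have hI := B.dat.isIrr
  obtain ⟨a, ha⟩ := B.dat.mdl.nt
  obtain ⟨f, hf⟩ := B.dat.mdl.exists_ne
  have hex : ∀ s : B.dat.AZM, ∃ p : P, ∃ hp : α p ∈ Q, (⟨α p, B.dat.QY hp⟩ : Y) • a - a = s := by
    intro s
    obtain ⟨d, hd, e⟩ := B.dat.mdl.surj a ha s s.2
    obtain ⟨p, hp⟩ := exists_p B hM (Y_le_M B d.2)
    have hdQ : (d : Γ₁) ∈ Q := mem_subgroupOf.1 hd
    refine ⟨p, hp ▸ hdQ, ?_⟩
    rw [← e]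
    congr 2
    exact Subtype.ext hp
  choose p hp e using hex
  refine Nat.card_le_card_of_injective (fun s => (⟨β (p s), p s, hp s, rfl⟩ : tr α β Q)) fun s s' h1 => ?_
  have h2 : β (p s) = β (p s') := congrArg Subtype.val h1
  have h3 : (⟨α (p s), B.dat.QY (hp s)⟩ : Y) • a = (⟨α (p s'), B.dat.QY (hp s')⟩ : Y) • a := by
    apply HomY.inj hf
    obtain ⟨w, hw⟩ := exists_w B hV hM (V1_le B.dat (B.hom_mem f a))
    rw [f.2, f.2, ← hw]
    change α (p s) • i w = α (p s') • i w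
    rw [← t.eqv, ← t.eqv, h2]
  apply Subtype.ext
  rw [← e s, ← e s', h3]

/-- `dim E ≥ 2` -/
theorem two_le_dimE [Finite Γ₂] [IsIrr Y (AM B.dat)]
    (nff : ∀ A : Subgroup Γ₂, IsPGroup 2 A → (∀ a ∈ A, ∀ w : W, a • a • w = w) → A ≠ ⊥ →
      Nat.card A * Nat.card (fx W A) < Nat.card W) :
    2 ≤ Module.finrank (KK Y (AM B.dat)) (HomY Y (AM B.dat) U) := by
  have hWf : Finite W := Finite.of_injective i t.inj
  by_contra hcon
  have hfin : Finite (AM B.dat →+ U) := Finite.of_injective (fun f => (f : AM B.dat → U)) DFunLike.coe_injective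
  have hfin3 : Module.Finite (KK Y (AM B.dat)) (HomY Y (AM B.dat) U) := Module.Finite.of_finite
  have h1 : Nat.card (HomY Y (AM B.dat) U) ≤ Nat.card (KK Y (AM B.dat)) := by
    rw [Module.natCard_eq_pow_finrank (K := KK Y (AM B.dat)) (V := HomY Y (AM B.dat) U)]
    calc Nat.card (KK Y (AM B.dat)) ^ Module.finrank (KK Y (AM B.dat)) (HomY Y (AM B.dat) U)
        ≤ Nat.card (KK Y (AM B.dat)) ^ 1 := Nat.pow_le_pow_right Nat.card_pos (by omega)
      _ = Nat.card (KK Y (AM B.dat)) := pow_one _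
  have h2 := card_AZM_ge B.dat
  have h3 := t.card_AZM_le B hV hM
  have h4 := card_V_le B.dat
  have sq : ∀ y ∈ tr α β Q, y * y = 1 := by
    rintro _ ⟨p, hp, rfl⟩
    rw [← map_mul, ← map_one β]
    exact t.congr (by rw [map_mul, map_one]; exact B.dat.Q_sq hp)
  have h5 := nff (tr α β Q) (by
      rintro ⟨y, hy⟩
      refine ⟨1, Subtype.ext ?_⟩
      change y ^ 2 ^ 1 = 1
      rw [pow_one, pow_two, sq y hy]) (fun a ha w => by rw [smul_smul, sq a ha, one_smul]) (by
      intro h0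
      obtain ⟨d, hd, v, hv, hne⟩ := exists_Q B.dat
      obtain ⟨p, hp⟩ := exists_p B hM (Y_le_M B (B.dat.QY hd))
      obtain ⟨w, rfl⟩ := exists_w B hV hM hv
      have h6 : β p ∈ tr α β Q := ⟨p, by change α p ∈ Q; rwa [hp], rfl⟩
      rw [h0, mem_bot] at h6
      apply hne
      rw [← hp, ← t.eqv, h6, one_smul])
  have h6 : Nat.card W = Nat.card V := by
    rw [← hV]
    exact Nat.card_congr (Equiv.ofInjective i t.inj)
  have h7 : Nat.card (fx W (tr α β Q)) = Nat.card F := by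
    rw [t.fxQ B hV hM]
    refine Nat.card_congr (Equiv.ofBijective (fun w : F.comap i => (⟨i w, w.2⟩ : F)) ⟨fun a b e => ?_, fun f => ?_⟩)
    · exact Subtype.ext (t.inj (congrArg Subtype.val e))
    · obtain ⟨w, hw⟩ := exists_w B hV hM (B.dat.FV f.2)
      exact ⟨⟨w, by change i w ∈ F; rw [hw]; exact f.2⟩, Subtype.ext hw⟩
  rw [h6, h7] at h5
  have h8 : Nat.card V ≤ Nat.card (tr α β Q) * Nat.card F := by
    calc Nat.card V ≤ Nat.card F * Nat.card (HomY Y (AM B.dat) U) := h4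
      _ ≤ Nat.card F * Nat.card (tr α β Q) := Nat.mul_le_mul_left _ (h1.trans (h2.trans h3))
      _ = Nat.card (tr α β Q) * Nat.card F := Nat.mul_comm _ _
  exact absurd h5 (not_lt.2 h8)

/-- the block -/
theorem isBlk [Finite Γ₂]
    (nff : ∀ A : Subgroup Γ₂, IsPGroup 2 A → (∀ a ∈ A, ∀ w : W, a • a • w = w) → A ≠ ⊥ →
      Nat.card A * Nat.card (fx W A) < Nat.card W) : IsBlk W (tr α β Y) where
  gen := t.gen B hV hM
  ex := by
    have hI := B.dat.isIrr
    have hWf : Finite W := Finite.of_injective i t.inj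
    obtain ⟨f, hf⟩ := B.dat.mdl.exists_ne
    let A₂ : AddSubgroup W := ((f : AM B.dat →+ U).range).comap i
    have hex : ∀ a : AM B.dat, ∃ w : A₂, i w = (f : AM B.dat →+ U) a := fun a => by
      obtain ⟨w, hw⟩ := exists_w B hV hM (V1_le B.dat (B.hom_mem f a))
      exact ⟨⟨w, ⟨a, hw.symm⟩⟩, hw⟩
    choose g hg using hex
    have hgadd : ∀ a b, g (a + b) = g a + g b := fun a b => Subtype.ext (t.inj (by
      rw [hg, map_add, AddSubgroup.coe_add, map_add, hg, hg]))
    let θ : AM B.dat ≃+ A₂ := AddEquiv.ofBijective (AddMonoidHom.mk' g hgadd) ⟨fun a b e => HomY.inj hf (by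
        rw [← hg, ← hg]
        exact congrArg (fun w : A₂ => i w) e), fun w => by
        obtain ⟨a, ha⟩ := w.2
        exact ⟨a, Subtype.ext (t.inj ((hg a).trans ha))⟩⟩
    have hθ : ∀ a, i (θ a : W) = (f : AM B.dat →+ U) a := hg
    have hinv : ∀ y ∈ tr α β Y, ∀ a ∈ A₂, y • a ∈ A₂ := by
      rintro _ ⟨p, hp, rfl⟩ a ⟨b, hb⟩
      exact ⟨(⟨α p, hp⟩ : Y) • b, by rw [f.2, t.eqv, hb]; rfl⟩
    let _ : DistribMulAction (tr α β Y) A₂ := subAct (tr α β Y) A₂ hinv
    have hm : EqvM (W := W) (fun (k : Y) (y : tr α β Y) => ∃ p, α p = k ∧ β p = y) θ i :=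
      { l := fun k => by
          obtain ⟨p, hp⟩ := exists_p B hM (Y_le_M B k.2)
          exact ⟨⟨β p, p, by change α p ∈ Y; rw [hp]; exact k.2, rfl⟩, p, hp, rfl⟩
        r := by
          rintro ⟨_, p, hp, rfl⟩
          exact ⟨⟨α p, hp⟩, p, rfl, rfl⟩
        e := by
          rintro ⟨_, hk⟩ ⟨_, hy⟩ ⟨p, rfl, rfl⟩ a
          apply Subtype.ext
          apply t.inj
          rw [hθ]
          change _ = i (β p • (θ a : W))
          rw [t.eqv, hθ, f.2]
          rfl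
        inj := t.inj
        eqv := by
          rintro ⟨_, hk⟩ ⟨_, hy⟩ ⟨p, rfl, rfl⟩ w
          exact t.eqv p w
        val := fun f a => exists_w B hV hM (V1_le B.dat (B.hom_mem f a)) }
    have hI₂ : IsIrr (tr α β Y) A₂ := hm.toEqv.irr
    refine ⟨A₂, inferInstance, inferInstance, inferInstance, hI₂, hm.toEqv.allTv (allTv B.dat), fun a => ?_, ?_, ?_, ?_⟩
    · exact Subtype.ext (t.inj (by
        rw [AddSubgroup.coe_add, map_add, B.dat.two, AddSubgroup.coe_zero, map_zero]))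
    · apply t.map_inj
      rw [t.cmV B hV hM, hm.map_img, V1_eq B]
    · rw [← hm.toEqv.finrank]
      exact two_le_dimA B.dat
    · rw [← hm.finrank_hom]
      exact t.two_le_dimE B hV hM nff

/-- **One panel on `V`.** -/
theorem pb [Finite Γ₂]
    (nff : ∀ A : Subgroup Γ₂, IsPGroup 2 A → (∀ a ∈ A, ∀ w : W, a • a • w = w) → A ≠ ⊥ →
      Nat.card A * Nat.card (fx W A) < Nat.card W) : PB W β.range (F.comap i) (tr α β Y) (tr α β KV) where
  blk := t.isBlk B hV hM nff
  YK := tr_mono B.YK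
  KM := by
    rintro _ ⟨p, -, rfl⟩
    exact ⟨p, rfl⟩
  nK := by
    rintro _ ⟨m, rfl⟩ _ ⟨p, hp, rfl⟩
    refine ⟨m * p * m⁻¹, ?_, by rw [map_mul, map_mul, map_inv]⟩
    change α (m * p * m⁻¹) ∈ KV
    rw [map_mul, map_mul, map_inv]
    exact B.nK _ (hM ▸ ⟨m, rfl⟩) _ hp
  flat := ⟨tr α β Q, tr_mono B.dat.QY, t.fxQ B hV hM⟩
  dich := by
    rintro _ ⟨m, rfl⟩
    rcases B.dich (m := α m) (hM ▸ ⟨m, rfl⟩) with h1 | h1
    · left
      apply t.map_inj
      rw [t.map_smul_sub, t.cmV B hV hM, h1]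
    · right
      rw [eq_bot_iff]
      intro w hw
      have h2 : i w ∈ V1 B.dat ⊓ α m • V1 B.dat := by
        rw [← t.cmV B hV hM, ← t.map_smul_sub]
        exact ⟨⟨w, hw.2, rfl⟩, ⟨w, hw.1, rfl⟩⟩
      rw [h1, AddSubgroup.mem_bot] at h2
      exact AddSubgroup.mem_bot.2 (t.eq_zero.1 h2)
  cen := by
    rintro _ ⟨m, rfl⟩ hne _ ⟨p, hp, rfl⟩ v hv
    apply t.inj
    rw [t.eqv]
    have h1 : i v ∈ α m • V1 B.dat := by
      rw [← t.cmV B hV hM, ← t.map_smul_sub]
      exact ⟨v, hv, rfl⟩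
    have h2 := B.cent (m := 1) (m' := α m) (one_mem _) (hM ▸ ⟨m, rfl⟩) (fun e => hne (by
      apply t.map_inj
      rw [t.map_smul_sub, t.cmV B hV hM, ← e, one_smul])) hp h1
    rwa [one_mul, inv_one, mul_one] at h2
  stab := by
    rintro _ ⟨p, hp, rfl⟩
    apply t.map_inj
    rw [t.map_smul_sub, t.cmV B hV hM]
    have h1 := B.smul_eq_K (m := 1) (one_mem _) hp
    rwa [one_smul] at h1
  lin := by
    rintro _ ⟨p, hp, rfl⟩ e he v v' hvv
    have hst : ∀ w ∈ cm W (tr α β Y), β p • w ∈ cm W (tr α β Y) := by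
      intro w hw
      have h1 : i (β p • w) ∈ (cm W (tr α β Y)).map i := by
        rw [t.cmV B hV hM, t.eqv]
        refine B.V1_K hp ?_
        rw [← t.cmV B hV hM]
        exact ⟨w, hw, rfl⟩
      obtain ⟨w', hw', e'⟩ := h1
      rwa [← t.inj e']
    have key : ∀ u ∈ V1 B.dat, ∃ v : cm W (tr α β Y), i v = u ∧
        ∀ v' : cm W (tr α β Y), (v' : W) = β p • (v : W) → (e v' : W) = β p • (e v : W) := by
      intro u hu
      refine B.V1_ind (P := fun u => ∃ v : cm W (tr α β Y), i v = u ∧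
        ∀ v' : cm W (tr α β Y), (v' : W) = β p • (v : W) → (e v' : W) = β p • (e v : W)) ?_ ?_ ?_ ?_ hu
      · refine ⟨0, map_zero i, fun v' h1 => ?_⟩
        have h2 : v' = 0 := Subtype.ext (by rw [h1]; exact smul_zero _)
        rw [h2, map_zero, AddSubgroup.coe_zero, smul_zero]
      · rintro a b ⟨va, ha, ha'⟩ ⟨vb, hb, hb'⟩
        refine ⟨va + vb, by rw [AddSubgroup.coe_add, map_add, ha, hb], fun v' h1 => ?_⟩
        have h2 : v' = ⟨β p • (va : W), hst _ va.2⟩ + ⟨β p • (vb : W), hst _ vb.2⟩ := Subtype.ext (by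
          rw [h1, AddSubgroup.coe_add, AddSubgroup.coe_add, smul_add])
        have ea := ha' ⟨β p • (va : W), hst _ va.2⟩ rfl
        have eb := hb' ⟨β p • (vb : W), hst _ vb.2⟩ rfl
        rw [h2, map_add, map_add, AddSubgroup.coe_add, AddSubgroup.coe_add, smul_add, ea, eb]
      · rintro a ⟨va, ha, ha'⟩
        refine ⟨-va, by rw [AddSubgroup.coe_neg, map_neg, ha], fun v' h1 => ?_⟩
        have h2 : v' = -⟨β p • (va : W), hst _ va.2⟩ := Subtype.ext (by
          rw [h1, AddSubgroup.coe_neg, AddSubgroup.coe_neg, smul_neg])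
        have ea := ha' ⟨β p • (va : W), hst _ va.2⟩ rfl
        rw [h2, map_neg, map_neg, AddSubgroup.coe_neg, AddSubgroup.coe_neg, smul_neg, ea]
      · intro f a
        choose g hg hgi using fun a => t.exists_cm B hV hM f a
        have hgs : ∀ a b : AM B.dat, (⟨g (a + b), hg _⟩ : cm W (tr α β Y)) = ⟨g a, hg a⟩ + ⟨g b, hg b⟩ := fun a b =>
          Subtype.ext (t.inj (by rw [hgi, AddSubgroup.coe_add, map_add, map_add, hgi, hgi]))
        let f' : HomY Y (AM B.dat) U := ⟨AddMonoidHom.mk' (fun a => i (e ⟨g a, hg a⟩)) fun a b => by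
          rw [hgs, map_add, AddSubgroup.coe_add, map_add], fun k a => by
            obtain ⟨q, hq⟩ := exists_p B hM (Y_le_M B k.2)
            change i (e ⟨g (k • a), hg _⟩) = (k : Γ₁) • i (e ⟨g a, hg a⟩)
            rw [← hq, ← t.eqv]
            congr 1
            refine he (β q) ⟨q, by change α q ∈ Y; rw [hq]; exact k.2, rfl⟩ ⟨g a, hg a⟩ ⟨g (k • a), hg _⟩ ?_
            apply t.inj
            rw [t.eqv, hq, hgi]
            change (f : AM B.dat →+ U) (k • a) = (k : Γ₁) • i (g a)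
            rw [hgi, f.2]
            rfl⟩
        refine ⟨⟨g a, hg a⟩, hgi a, fun v' h1 => ?_⟩
        have h2 : v' = ⟨g (B.kA hp a), hg _⟩ := by
          apply Subtype.ext
          apply t.inj
          rw [h1, t.eqv]
          change α p • i (g a) = i (g (B.kA hp a))
          rw [hgi, hgi, B.smul_hom hp]
        rw [h2]
        apply t.inj
        rw [t.eqv]
        exact (B.smul_hom hp f' a).symm
    obtain ⟨v1, h1, h2⟩ := key (i v) (by rw [← t.cmV B hV hM]; exact ⟨v, v.2, rfl⟩)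
    have h3 : v1 = v := Subtype.ext (t.inj h1)
    subst h3
    exact h2 v' hvv

/-- `W = [W, tr Y] + C_W(tr Y)` -/
theorem dec (w : W) : ∃ a ∈ cm W (tr α β Y), ∃ c : W, (∀ y ∈ tr α β Y, y • c = c) ∧ w = a + c := by
  obtain ⟨v1, hv1, c, hc, hcY, e⟩ := TBlk.split B.dat (i_mem B hV hM w)
  rw [← t.cmV B hV hM] at hv1
  obtain ⟨a, ha, rfl⟩ := hv1
  obtain ⟨c', rfl⟩ := exists_w B hV hM hc
  refine ⟨a, ha, c', ?_, t.inj (by rw [e, map_add])⟩
  rintro _ ⟨p, hp, rfl⟩
  exact t.inj (by rw [t.eqv, hcY _ hp])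

end Tr

end tr

end Cfsg.Agent.Omega.NO3b.BasePt
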