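import Cfsg.Agent.Omega.NO3b.Closed.Pow
import Cfsg.Agent.Mrg.Omega.NO3b.Closed.Base


/-!
# The good sets of the flag `(S₁, Z₁, V₍₂₎)` (#21055 (4), #22497 (e)), abstract form

`S` acts on the elementary abelian 2-group `V = ⨁ U_i` with `[V, S] ≤ C_V(S)`; an element of `S` which moves `U_i` has
the fixed points `C_{U_i}(S)` in `U_i`; `|S : C_S(U_i)|² ≤ |U_i : C_{U_i}(S)|` (`BlkAct S V U`).  No field, no
transitivity, no full product, the `U_i` may have different orders.

* `BlkAct.exists_good` : `ClosedPt.GoodAt (S ∩ C(D)) V D lam T₀` for all closed `D < V`.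
-/

set_option autoImplicit false

namespace Cfsg.Agent.Omega.NO3b.BasePt.VTwo

open Subgroup Cfsg
open Cfsg.Agent.Omega.NO3b.ClosedPow (cm cm_one_right cm_one_left cm_eq_one le_norm_of conj_mem cm_mem LL NN cm_mul
  cm_inv mem_NN NN_le)
open Cfsg.Agent.Omega.NO3b.ClosedPt (InL GoodAt)

universe u v

variable {G : Type u} [Group G] {ι : Type v}

theorem rel_ne [Finite G] (A B : Subgroup G) : A.relIndex B ≠ 0 := index_ne_zero_of_finite

theorem rel_pos [Finite G] (A B : Subgroup G) : 0 < A.relIndex B := Nat.pos_of_ne_zero (rel_ne A B)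

theorem rel_left [Finite G] {A B : Subgroup G} (h : A ≤ B) (C : Subgroup G) : B.relIndex C ≤ A.relIndex C :=
  relIndex_le_of_le_left h (rel_ne _ _)

theorem rel_right [Finite G] {B C : Subgroup G} (h : B ≤ C) (A : Subgroup G) : A.relIndex B ≤ A.relIndex C :=
  relIndex_le_of_le_right h (rel_ne _ _)

theorem rel_congr {A B C : Subgroup G} (h : A ⊓ C = B ⊓ C) : A.relIndex C = B.relIndex C := by
  rw [← inf_relIndex_right A C, h, inf_relIndex_right]

/-- `|H K : K| = |H : H ∩ K|` for `K` normalised by `H`. -/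
theorem rel_sup {K H : Subgroup G} (h : H ≤ normalizer (K : Set G)) : K.relIndex (H ⊔ K) = K.relIndex H := by
  have hKn : (K.subgroupOf (K ⊔ H)).Normal :=
    normal_subgroupOf_of_le_normalizer (sup_le le_normalizer h)
  have h1 := relIndex_sup_left (H.subgroupOf (K ⊔ H)) (K.subgroupOf (K ⊔ H))
  rw [← Subgroup.subgroupOf_sup le_sup_left le_sup_right, Subgroup.subgroupOf_self,
    Subgroup.relIndex_subgroupOf le_sup_right, relIndex_top_right] at h1
  rw [sup_comm, ← h1]
  rfl

/-- an index is bounded by a map into cosets -/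
theorem rel_le_of_map [Finite G] {A X B S : Subgroup G} (f : G → G) (hf : ∀ x ∈ X, f x ∈ S)
    (hinj : ∀ x ∈ X, ∀ y ∈ X, (f x)⁻¹ * f y ∈ B → x⁻¹ * y ∈ A) : A.relIndex X ≤ B.relIndex S := by
  rw [relIndex, relIndex, index_eq_card, index_eq_card]
  let g : X ⧸ A.subgroupOf X → S ⧸ B.subgroupOf S := fun c => QuotientGroup.mk ⟨f (c.out : X), hf _ c.out.2⟩
  refine Nat.card_le_card_of_injective g ?_
  intro c c' hc
  have h1 := QuotientGroup.eq.1 hc
  have h2 : (f (c.out : X))⁻¹ * f (c'.out : X) ∈ B := h1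
  have h3 : (c.out : X)⁻¹ * c'.out ∈ A.subgroupOf X := hinj _ c.out.2 _ c'.out.2 h2
  have h4 := QuotientGroup.eq.2 h3
  rwa [QuotientGroup.out_eq', QuotientGroup.out_eq'] at h4

theorem cent_symm {A B : Subgroup G} (h : A ≤ centralizer (B : Set G)) : B ≤ centralizer (A : Set G) :=
  Subgroup.le_centralizer_iff.1 h

/-! ### the greedy count (a copy of `Closed/Count.lean`) -/

section greedy

variable {E W : Subgroup G} {V : ι → Subgroup G} {N : Subgroup G → Subgroup G}

theorem greedy_step [Finite G] (hV : ∀ i, V i ≤ W) {F : Subgroup G} (i : ι) :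
    (centralizer (W : Set G)).relIndex F = (centralizer (W : Set G)).relIndex (F ⊓ centralizer (V i : Set G)) *
      (centralizer (V i : Set G)).relIndex F := by
  have h1 : centralizer (W : Set G) ⊓ F ≤ F ⊓ centralizer (V i : Set G) :=
    le_inf inf_le_right (inf_le_left.trans (centralizer_le (hV i)))
  have h2 := relIndex_mul_relIndex _ _ _ h1 (inf_le_left : F ⊓ centralizer (V i : Set G) ≤ F)
  rw [inf_relIndex_right, inf_relIndex_left] at h2
  rw [← h2]
  congr 1
  refine rel_congr ?_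
  rw [inf_assoc, inf_eq_right.2 (inf_le_left : F ⊓ centralizer (V i : Set G) ≤ F)]

theorem greedy [Finite G] (hV : ∀ i, V i ≤ W) (hW : W ≤ ⨆ i, V i)
    (anti : ∀ F ≤ E, ∀ F' ≤ F, N F ≤ N F') (NW : ∀ F ≤ E, N F ≤ W)
    (cen : ∀ F ≤ E, ∀ i, V i ≤ N (F ⊓ centralizer (V i : Set G))) {m : ℕ}
    (loc : ∀ F ≤ E, ∀ i, (centralizer (V i : Set G)).relIndex F ^ m ≤ (N F).relIndex (V i)) :
    ∀ F ≤ E, (centralizer (W : Set G)).relIndex F ^ m ≤ (N F).relIndex W := by
  intro F
  induction hn : Nat.card F using Nat.strong_induction_on generalizing F with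
  | _ n ih =>
    intro hF
    by_cases hc : F ≤ centralizer (W : Set G)
    · rw [relIndex_eq_one.2 hc, one_pow]
      exact rel_pos _ _
    · have h1 : ∃ i, ¬ F ≤ centralizer (V i : Set G) := by
        by_contra h1
        push Not at h1
        exact hc (cent_symm (hW.trans (iSup_le fun i => cent_symm (h1 i))))
      obtain ⟨i, hi⟩ := h1
      set F' := F ⊓ centralizer (V i : Set G) with hF'
      have hlt : Nat.card F' < n := by
        rw [← hn]
        refine lt_of_le_of_ne (Subgroup.card_le_of_le inf_le_left) fun h2 => hi ?_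
        have h3 : F' = F := Subgroup.eq_of_le_of_card_ge inf_le_left h2.ge
        rw [← h3]
        exact inf_le_right
      have h2 := ih _ hlt F' rfl (inf_le_left.trans hF)
      have h3 : (N F).relIndex (N F') * (N F').relIndex W = (N F).relIndex W :=
        relIndex_mul_relIndex _ _ _ (anti F hF F' inf_le_left) (NW F' (inf_le_left.trans hF))
      rw [greedy_step hV i, mul_pow, ← h3, mul_comm]
      exact Nat.mul_le_mul ((loc F hF i).trans (rel_right (cen F hF i) _)) h2

end greedy

/-- `V = ⨁ U_i`, free blocks. -/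
structure BlkAct (S V : Subgroup G) (U : ι → Subgroup G) : Prop where
  nU : ∀ i, S ≤ normalizer (U i : Set G)
  cV : V ≤ centralizer (V : Set G)
  ind : iSupIndep U
  sup : ⨆ i, U i = V
  comm : ∀ s ∈ S, ∀ v ∈ V, cm s v ∈ centralizer (S : Set G)
  free : ∀ i, ∀ s ∈ S, s ∉ centralizer (U i : Set G) → ∀ v ∈ U i, s * v = v * s → v ∈ centralizer (S : Set G)
  big : ∀ i, (centralizer (U i : Set G)).relIndex S ^ 2 ≤ (centralizer (S : Set G)).relIndex (U i)

namespace BlkAct

variable {S V : Subgroup G} {U : ι → Subgroup G} (h : BlkAct S V U)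
include h

theorem le (i : ι) : U i ≤ V := h.sup ▸ le_iSup U i

theorem nV : S ≤ normalizer (V : Set G) := by
  refine le_norm_of ?_
  rw [← h.sup]
  intro x hx y hy
  have h2 : (⨆ i, U i) ≤ (⨆ i, U i).comap (MulAut.conj x).toMonoidHom := by
    refine iSup_le fun i => ?_
    intro z hz
    exact le_iSup U i (conj_mem (h.nU i) hx hz)
  exact h2 hy

/-- the complement of `U i` -/
def R (_h : BlkAct S V U) (i : ι) : Subgroup G := ⨆ j, ⨆ (_ : j ≠ i), U j

theorem R_le (i : ι) : h.R i ≤ V := iSup_le fun j => iSup_le fun _ => h.le j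

theorem le_R {i j : ι} (hj : j ≠ i) : U j ≤ h.R i := le_iSup_of_le j (le_iSup_of_le hj le_rfl)

theorem disj (i : ι) : U i ⊓ h.R i = ⊥ := (h.ind i).eq_bot

theorem inf_eq {i j : ι} (hj : j ≠ i) : U i ⊓ U j = ⊥ :=
  le_bot_iff.1 ((inf_le_inf_left _ (h.le_R hj)).trans (h.disj i).le)

theorem nR (i : ι) : S ≤ normalizer (h.R i : Set G) := by
  refine le_norm_of ?_
  intro x hx y hy
  have h2 : h.R i ≤ (h.R i).comap (MulAut.conj x).toMonoidHom := by
    refine iSup_le fun j => iSup_le fun hj => ?_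
    intro z hz
    exact h.le_R hj (conj_mem (h.nU j) hx hz)
  exact h2 hy

theorem sup_R (i : ι) : U i ⊔ h.R i = V := by
  refine le_antisymm (sup_le (h.le i) (h.R_le i)) ?_
  refine h.sup.symm.le.trans ?_
  refine iSup_le fun j => ?_
  by_cases hj : j = i
  · rw [hj]; exact le_sup_left
  · exact (h.le_R hj).trans le_sup_right

theorem exists_mul (i : ι) {v : G} (hv : v ∈ V) : ∃ u ∈ U i, ∃ r ∈ h.R i, v = u * r := by
  rw [← h.sup_R i] at hv
  have h1 : U i ≤ normalizer (h.R i : Set G) :=
    (h.le i).trans (h.cV.trans ((centralizer_le (h.R_le i)).trans (centralizer_le_normalizer _)))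
  have h2 : v ∈ ((U i ⊔ h.R i : Subgroup G) : Set G) := hv
  rw [Subgroup.coe_mul_of_left_le_normalizer_right _ _ h1] at h2
  obtain ⟨u, hu, r, hr, e⟩ := h2
  exact ⟨u, hu, r, hr, e.symm⟩

/-- an element of `S` which fixes `u r` fixes `u` -/
theorem fix_left {i : ι} {s u r : G} (hs : s ∈ S) (hu : u ∈ U i) (hr : r ∈ h.R i)
    (he : s * (u * r) = u * r * s) : s * u = u * s := by
  have h1 : cm s (u * r) = cm s u * cm s r :=
    cm_mul h.cV (B := S) h.nV hs (h.le i hu) (h.R_le i hr)
  rw [cm_eq_one.2 he] at h1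
  have h2 : cm s u ∈ U i := cm_mem (h.nU i) hs hu
  have h3 : cm s r ∈ h.R i := cm_mem (h.nR i) hs hr
  have h4 : cm s u = (cm s r)⁻¹ := eq_inv_of_mul_eq_one_left h1.symm
  have h5 : cm s u ∈ U i ⊓ h.R i := mem_inf.2 ⟨h2, h4.symm ▸ inv_mem h3⟩
  rw [h.disj i, mem_bot] at h5
  exact cm_eq_one.1 h5

theorem cm_fix {s v : G} (hs : s ∈ S) (hv : v ∈ V) : cm s v ∈ V ⊓ centralizer (S : Set G) :=
  ⟨cm_mem h.nV hs hv, h.comm s hs v hv⟩

/-- the kernel of a moving element on a block -/
theorem card_img {i : ι} {s : G} (hs : s ∈ S) (hsU : s ∉ centralizer (U i : Set G)) {x y : G} (hx : x ∈ U i)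
    (hy : y ∈ U i) (he : cm s x = cm s y) : x⁻¹ * y ∈ centralizer (S : Set G) := by
  refine h.free i s hs hsU _ (mul_mem (inv_mem hx) hy) (cm_eq_one.1 ?_)
  rw [cm_mul h.cV (B := S) h.nV hs (inv_mem (h.le i hx)) (h.le i hy), cm_inv h.cV (B := S) h.nV hs (h.le i hx), he,
    inv_mul_cancel]

/-- the index of the fixed points of `F ≤ S` in a block -/
theorem loc_two [Finite G] {F : Subgroup G} (hF : F ≤ S) (i : ι) {Y : Subgroup G}
    (hY : Y ⊓ U i ≤ centralizer (F : Set G)) :
    (centralizer (U i : Set G)).relIndex F ^ 2 ≤ Y.relIndex (U i) := by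
  by_cases hc : F ≤ centralizer (U i : Set G)
  · rw [relIndex_eq_one.2 hc, one_pow]
    exact rel_pos _ _
  · obtain ⟨s, hs, hsU⟩ := SetLike.not_le_iff_exists.1 hc
    calc (centralizer (U i : Set G)).relIndex F ^ 2 ≤ (centralizer (U i : Set G)).relIndex S ^ 2 :=
          Nat.pow_le_pow_left (rel_right hF _) 2
      _ ≤ (centralizer (S : Set G)).relIndex (U i) := h.big i
      _ ≤ (Y ⊓ U i).relIndex (U i) := by
          refine rel_left ?_ _
          rintro x ⟨hx, hxU⟩
          exact h.free i s (hF hs) hsU x hxU (mem_centralizer_iff.1 (hY ⟨hx, hxU⟩) s hs)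
      _ = Y.relIndex (U i) := inf_relIndex_right _ _

theorem loc_one [Finite G] {F : Subgroup G} (hF : F ≤ S) (i : ι) {Y : Subgroup G}
    (hY : Y ⊓ U i ≤ centralizer (F : Set G)) :
    (centralizer (U i : Set G)).relIndex F ≤ Y.relIndex (U i) :=
  (Nat.le_self_pow two_ne_zero _).trans (h.loc_two hF i hY)

/-- the block of `w` -/
theorem loc_self [Finite G] {F L : Subgroup G} (hF : F ≤ S) (i : ι) {u : G} (hu : u ∈ U i)
    (hL : ∀ d ∈ L, ∃ t ∈ S, cm t u = d) :
    (centralizer (U i : Set G)).relIndex F ≤ (NN V F L).relIndex (U i) := by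
  by_cases hc : F ≤ centralizer (U i : Set G)
  · rw [relIndex_eq_one.2 hc]
    exact rel_pos _ _
  · obtain ⟨s, hs, hsU⟩ := SetLike.not_le_iff_exists.1 hc
    have hFV : F ≤ normalizer (V : Set G) := hF.trans h.nV
    set q := (centralizer (U i : Set G)).relIndex S with hq
    have hq0 : 0 < q := rel_pos _ _
    have h1 : (centralizer (U i : Set G)).relIndex F ≤ q := rel_right hF _
    have h2 : q ^ 2 ≤ (centralizer (S : Set G)).relIndex (U i) := h.big i
    have h3 : (centralizer (S : Set G)).relIndex (NN V F L ⊓ U i) ≤ q := by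
      have h4 : ∀ x : G, ∃ t : G, x ∈ NN V F L ⊓ U i → t ∈ S ∧ cm t u = cm s x := by
        intro x
        by_cases hx : x ∈ NN V F L ⊓ U i
        · obtain ⟨t, ht, e⟩ := hL _ (((mem_NN h.cV hFV).1 hx.1).2 s hs)
          exact ⟨t, fun _ => ⟨ht, e⟩⟩
        · exact ⟨1, fun hx' => absurd hx' hx⟩
      choose f hf using h4
      refine rel_le_of_map f (fun x hx => (hf x hx).1) ?_
      intro x hx y hy hxy
      refine h.card_img (hF hs) hsU hx.2 hy.2 ?_
      rw [← (hf x hx).2, ← (hf y hy).2]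
      have h5 := mem_centralizer_iff.1 hxy u hu
      have h6 : f x * u * (f x)⁻¹ = f y * u * (f y)⁻¹ := by
        have : u * ((f x)⁻¹ * f y) * (f y)⁻¹ = (f x)⁻¹ * f y * u * (f y)⁻¹ := by rw [h5]
        calc f x * u * (f x)⁻¹ = f x * (u * ((f x)⁻¹ * f y) * (f y)⁻¹) := by group
          _ = f x * ((f x)⁻¹ * f y * u * (f y)⁻¹) := by rw [this]
          _ = f y * u * (f y)⁻¹ := by group
      unfold cm
      rw [h6]
    have h4 : (centralizer (S : Set G) ⊓ U i).relIndex (NN V F L ⊓ U i) * (NN V F L ⊓ U i).relIndex (U i) =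
        (centralizer (S : Set G) ⊓ U i).relIndex (U i) := by
      refine relIndex_mul_relIndex _ _ _ ?_ inf_le_right
      rintro x ⟨hx, hxU⟩
      refine ⟨(mem_NN h.cV hFV).2 ⟨h.le i hxU, fun b hb => ?_⟩, hxU⟩
      rw [cm_eq_one.2 (mem_centralizer_iff.1 hx b (hF hb))]
      exact one_mem _
    rw [inf_relIndex_right, inf_relIndex_right] at h4
    have h5 : (centralizer (S : Set G) ⊓ U i).relIndex (NN V F L ⊓ U i) =
        (centralizer (S : Set G)).relIndex (NN V F L ⊓ U i) := by
      refine rel_congr ?_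
      rw [inf_assoc, inf_eq_right.2 (inf_le_right : NN V F L ⊓ U i ≤ U i)]
    rw [h5] at h4
    have h6 : q * q ≤ q * (NN V F L).relIndex (U i) := by
      calc q * q = q ^ 2 := (_root_.sq q).symm
        _ ≤ _ := h2
        _ = _ := h4.symm
        _ ≤ _ := Nat.mul_le_mul_right _ h3
    exact h1.trans (Nat.le_of_mul_le_mul_left h6 hq0)

section closed

variable {D : Subgroup G} (hDV : V ⊓ centralizer ((S ⊓ centralizer (D : Set G) : Subgroup G) : Set G) = D)
include hDV

omit h in
theorem D_le : D ≤ V := hDV ▸ inf_le_left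

omit h in
theorem fix_le_D : V ⊓ centralizer (S : Set G) ≤ D := by
  intro v hv
  rw [← hDV]
  exact ⟨hv.1, centralizer_le (inf_le_left : S ⊓ centralizer (D : Set G) ≤ S) hv.2⟩

/-- there is a block moved by `T = C_S(D)` -/
theorem exists_block (hne : D ≠ V) :
    ∃ i, ¬ S ⊓ centralizer (D : Set G) ≤ centralizer (U i : Set G) := by
  by_contra hcon
  push Not at hcon
  apply hne
  rw [← hDV]
  refine inf_eq_left.2 ?_
  rw [← h.sup]
  refine iSup_le fun i => ?_
  intro u hu
  rw [mem_centralizer_iff]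
  intro t ht
  exact (mem_centralizer_iff.1 (hcon i ht) u hu).symm

omit hDV in
/-- on a block moved by `T` the fixed points of `T` are those of `S` -/
theorem fix_block {i : ι} (hi : ¬ S ⊓ centralizer (D : Set G) ≤ centralizer (U i : Set G)) {u : G} (hu : u ∈ U i)
    (hD : u ∈ D) : u ∈ centralizer (S : Set G) := by
  obtain ⟨t, ht, htU⟩ := SetLike.not_le_iff_exists.1 hi
  exact h.free i t ht.1 htU u hu (mem_centralizer_iff.1 ht.2 u hD).symm

/-- **the good set of a closed `D ≠ V`** -/
theorem exists_good_aux [Finite G] (hne : D ≠ V) :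
    ∃ lam T₀, GoodAt (S ⊓ centralizer (D : Set G)) V D lam T₀ := by
  obtain ⟨i, hi⟩ := h.exists_block hDV hne
  have hDV' : D ≤ V := D_le hDV
  have hfD : V ⊓ centralizer (S : Set G) ≤ D := fix_le_D hDV
  have hTD : ∀ t ∈ S ⊓ centralizer (D : Set G), ∀ d ∈ D, t * d = d * t := fun t ht d hd =>
    (mem_centralizer_iff.1 ht.2 d hd).symm
  -- elements of `lam`
  have hlam : ∀ w ∈ U i ⊔ D, ∃ u ∈ U i, ∃ d ∈ D, w = u * d := by
    intro w hw
    have h1 : U i ≤ normalizer (D : Set G) :=
      (h.le i).trans (h.cV.trans ((centralizer_le hDV').trans (centralizer_le_normalizer _)))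
    have h2 : w ∈ ((U i ⊔ D : Subgroup G) : Set G) := hw
    rw [Subgroup.coe_mul_of_left_le_normalizer_right _ _ h1] at h2
    obtain ⟨u, hu, d, hd, e⟩ := h2
    exact ⟨u, hu, d, hd, e.symm⟩
  have hcm : ∀ t ∈ S ⊓ centralizer (D : Set G), ∀ u ∈ U i, ∀ d ∈ D, cm t (u * d) = cm t u := by
    intro t ht u hu d hd
    rw [cm_mul h.cV (B := S) h.nV ht.1 (h.le i hu) (hDV' hd), cm_eq_one.2 (hTD t ht d hd), mul_one]
  have hnS : ∀ u ∈ U i, ∀ d ∈ D, u * d ∉ D → u ∉ centralizer (S : Set G) := by
    intro u hu d hd hud hc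
    exact hud (mul_mem (hfD ⟨h.le i hu, hc⟩) hd)
  have hq : 2 ≤ (centralizer (U i : Set G)).relIndex S := by
    have h1 : (centralizer (U i : Set G)).relIndex S ≠ 1 := fun h1 => hi (inf_le_left.trans (relIndex_eq_one.1 h1))
    have h2 := rel_pos (centralizer (U i : Set G)) S
    omega
  have hbig := h.big i
  set q := (centralizer (U i : Set G)).relIndex S with hqdef
  -- `[T, w]`
  have hLL : ∀ w ∈ U i ⊔ D, ∀ d : G, d ∈ LL (S ⊓ centralizer (D : Set G)) w ↔
      InL (S ⊓ centralizer (D : Set G)) w d := by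
    intro w hw d
    have hwV : w ∈ V := (sup_le (h.le i) hDV') hw
    refine (ClosedPow.mem_LL fun t ht => ?_)
    exact centralizer_le (inf_le_left : S ⊓ centralizer (D : Set G) ≤ S) (h.comm t ht.1 w hwV)
  refine ⟨U i ⊔ D, S ⊓ centralizer (D : Set G) ⊓ centralizer (U i : Set G), ?_⟩
  refine ⟨le_sup_right, sup_le (h.le i) hDV', ?_, ?_, ?_, ?_, ?_, ?_, ?_⟩
  · -- comm
    intro w hw t ht
    exact hfD (h.cm_fix ht.1 ((sup_le (h.le i) hDV') hw))
  · -- stab
    intro w hw hwD t ht
    obtain ⟨u, hu, d, hd, rfl⟩ := hlam w hw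
    rw [← cm_eq_one, hcm t ht u hu d hd, cm_eq_one]
    constructor
    · intro h1
      refine ⟨ht, ?_⟩
      by_contra hcon
      exact hnS u hu d hd hwD (h.free i t ht.1 hcon u hu h1)
    · intro h1
      exact (mem_centralizer_iff.1 h1.2 u hu).symm
  · -- four
    have h1 : D.relIndex (U i ⊔ D) = D.relIndex (U i) := by
      have h1 : U i ≤ normalizer (D : Set G) :=
        (h.le i).trans (h.cV.trans ((centralizer_le hDV').trans (centralizer_le_normalizer _)))
      exact rel_sup h1
    have h2 : (centralizer (S : Set G)).relIndex (U i) = D.relIndex (U i) := by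
      refine rel_congr (le_antisymm ?_ ?_)
      · rintro x ⟨hx, hxU⟩
        exact ⟨hfD ⟨h.le i hxU, hx⟩, hxU⟩
      · rintro x ⟨hx, hxU⟩
        exact ⟨h.fix_block hi hxU hx, hxU⟩
    have h3 := relIndex_mul_relIndex ⊥ D (U i ⊔ D) bot_le le_sup_right
    rw [relIndex_bot_left, relIndex_bot_left, h1, ← h2] at h3
    rw [← h3, mul_comm]
    refine Nat.mul_le_mul_left _ (le_trans ?_ hbig)
    nlinarith
  · -- inf
    intro d hd
    by_contra hd1
    have h1 : ∀ x : G, ∃ t : G, t ∈ S ∧ (x ∈ U i → x ∉ centralizer (S : Set G) → cm t x = d) ∧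
        (x ∈ centralizer (S : Set G) → t = 1) := by
      intro x
      by_cases hx : x ∈ U i ∧ x ∉ centralizer (S : Set G)
      · have hxD : x ∉ D := fun hxD => hx.2 (h.fix_block hi hx.1 hxD)
        obtain ⟨t, ht, e⟩ := hd x (le_sup_left (a := U i) hx.1) hxD
        exact ⟨t, ht.1, fun _ _ => e, fun hc => absurd hc hx.2⟩
      · exact ⟨1, one_mem _, fun h2 h3 => absurd ⟨h2, h3⟩ hx, fun _ => rfl⟩
    choose f hfS hf hf1 using h1
    have h2 : (centralizer (S : Set G)).relIndex (U i) ≤ q := by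
      refine rel_le_of_map f (fun x _ => hfS x) ?_
      intro x hx y hy hxy
      by_cases hxS : x ∈ centralizer (S : Set G)
      · by_cases hyS : y ∈ centralizer (S : Set G)
        · exact mul_mem (inv_mem hxS) hyS
        · exfalso
          rw [hf1 x hxS, inv_one, one_mul] at hxy
          have h3 := hf y hy hyS
          rw [cm_eq_one.2 (mem_centralizer_iff.1 hxy y hy).symm] at h3
          exact hd1 h3.symm
      · by_cases hyS : y ∈ centralizer (S : Set G)
        · exfalso
          rw [hf1 y hyS, mul_one] at hxy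
          have hxy' : f x ∈ centralizer (U i : Set G) := by
            have := inv_mem hxy
            rwa [inv_inv] at this
          have h3 := hf x hx hxS
          rw [cm_eq_one.2 (mem_centralizer_iff.1 hxy' x hx).symm] at h3
          exact hd1 h3.symm
        · have h3 := hf x hx hxS
          have h4 := hf y hy hyS
          have hxU : f x ∉ centralizer (U i : Set G) := by
            intro hc
            rw [cm_eq_one.2 (mem_centralizer_iff.1 hc x hx).symm] at h3
            exact hd1 h3.symm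
          refine h.card_img (hfS x) hxU hx hy ?_
          rw [h3, ← h4]
          -- `cm (f y) y = cm (f x) y`
          have h5 := mem_centralizer_iff.1 hxy y hy
          have h6 : f x * y * (f x)⁻¹ = f y * y * (f y)⁻¹ := by
            have h7 : y * ((f x)⁻¹ * f y) * (f y)⁻¹ = (f x)⁻¹ * f y * y * (f y)⁻¹ := by rw [h5]
            calc f x * y * (f x)⁻¹ = f x * (y * ((f x)⁻¹ * f y) * (f y)⁻¹) := by group
              _ = f x * ((f x)⁻¹ * f y * y * (f y)⁻¹) := by rw [h7]
              _ = f y * y * (f y)⁻¹ := by group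
          unfold cm
          rw [h6]
    nlinarith
  · -- off
    intro w hw hwD ε hε _ N hN
    obtain ⟨u, hu, d, hd, rfl⟩ := hlam w hw
    set T := S ⊓ centralizer (D : Set G) with hT
    have hTS : T ≤ S := inf_le_left
    have hL : ∀ x : G, x ∈ LL T (u * d) → ∃ t ∈ T, cm t u = x := by
      intro x hx
      obtain ⟨t, ht, e⟩ := (hLL _ hw x).1 hx
      exact ⟨t, ht, by rw [← hcm t ht u hu d hd]; exact e⟩
    have hLU : LL T (u * d) ≤ U i := by
      intro x hx
      obtain ⟨t, ht, rfl⟩ := hL x hx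
      exact cm_mem (h.nU i) (hTS ht) hu
    have hN' : N = NN V ε (LL T (u * d)) := by
      ext x
      rw [hN, mem_NN h.cV ((hε.trans hTS).trans h.nV)]
      refine and_congr_right fun _ => forall₂_congr fun a _ => ?_
      exact (hLL _ hw _).symm
    rw [hN']
    have key := greedy (E := ε) (W := V) (V := U) (N := fun F => NN V F (LL T (u * d))) (m := 1) h.le h.sup.symm.le
      ?_ ?_ ?_ ?_ ε le_rfl
    · rwa [pow_one] at key
    · intro F hF F' hF' x hx
      have hn : F ≤ normalizer (V : Set G) := (hF.trans (hε.trans hTS)).trans h.nV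
      obtain ⟨h1, h2⟩ := (mem_NN h.cV hn).1 hx
      exact (mem_NN h.cV (hF'.trans hn)).2 ⟨h1, fun b hb => h2 b (hF' hb)⟩
    · intro F hF
      exact NN_le h.cV ((hF.trans (hε.trans hTS)).trans h.nV)
    · intro F hF j x hx
      refine (mem_NN h.cV (inf_le_left.trans ((hF.trans (hε.trans hTS)).trans h.nV))).2 ⟨h.le j hx, fun b hb => ?_⟩
      rw [cm_eq_one.2 (mem_centralizer_iff.1 hb.2 x hx).symm]
      exact one_mem _
    · intro F hF j
      have hFS : F ≤ S := hF.trans (hε.trans hTS)
      rw [pow_one]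
      by_cases hj : j = i
      · subst hj
        exact h.loc_self hFS j hu fun x hx => by
          obtain ⟨t, ht, e⟩ := hL x hx
          exact ⟨t, hTS ht, e⟩
      · refine h.loc_one hFS j ?_
        rintro x ⟨hx, hxU⟩
        rw [mem_centralizer_iff]
        intro b hb
        have h1 := ((mem_NN h.cV (hFS.trans h.nV)).1 hx).2 b hb
        have h2 : cm b x ∈ U j ⊓ U i := ⟨cm_mem (h.nU j) (hFS hb) hxU, hLU h1⟩
        rw [h.inf_eq (Ne.symm hj), mem_bot] at h2
        exact cm_eq_one.1 h2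
  · -- eq
    intro w hw hwD ε hε _ N hN _ a ha x hx
    exact hfD (h.cm_fix (hε ha).1 hx)
  · -- sq
    intro ε hε _
    have key := greedy (E := ε) (W := V) (V := U) (N := fun F => V ⊓ centralizer (F : Set G)) (m := 2) h.le
      h.sup.symm.le ?_ ?_ ?_ ?_ ε le_rfl
    · rwa [inf_relIndex_left] at key
    · intro F hF F' hF'
      exact inf_le_inf_left _ (centralizer_le hF')
    · intro F hF
      exact inf_le_left
    · intro F hF j x hx
      exact ⟨h.le j hx, mem_centralizer_iff.2 fun b hb => (mem_centralizer_iff.1 hb.2 x hx).symm⟩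
    · intro F hF j
      refine h.loc_two ((hF.trans hε).trans inf_le_left) j ?_
      exact inf_le_left.trans inf_le_right

end closed

/-- **the good sets**, in the form of `ClosedPt.Clo` -/
theorem exists_good [Finite G] {D : Subgroup G} (hDV : D ≤ V) (hne : D ≠ V)
    (hclo : ∀ w ∈ V, (∀ t ∈ S ⊓ centralizer (D : Set G), t * w = w * t) → w ∈ D) :
    ∃ lam T₀, GoodAt (S ⊓ centralizer (D : Set G)) V D lam T₀ := by
  refine h.exists_good_aux (le_antisymm ?_ ?_) hne
  · rintro w ⟨hw, hwc⟩
    exact hclo w hw fun t ht => mem_centralizer_iff.1 hwc t ht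
  · intro w hw
    exact ⟨hDV hw, mem_centralizer_iff.2 fun t ht => (mem_centralizer_iff.1 ht.2 w hw).symm⟩

end BlkAct

end Cfsg.Agent.Omega.NO3b.BasePt.VTwo
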